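import Cfsg.Agent.Mrg.Omega.CaseLQ.OneY
import Cfsg.Agent.Mrg.Omega.NO3b.K0.FullOff
import Cfsg.Agent.Mrg.Omega.SQ1.Choice
import Cfsg.Agent.Mrg.Omega.NO3b.EZeroBase
import Cfsg.Agent.Mrg.Omega.NO3b.UMethod
import Cfsg.Agent.Mrg.Omega.BTwo.Basic
import Cfsg.Agent.Omega.NO3b.Closed.Pow
import Cfsg.Agent.MinSimple.VModule
import Cfsg.Agent.PLocal.ElemAbSup
import Cfsg.Agent.ZN.Block
import Cfsg.Agent.Mrg.Omega.NOne.LemmaT

-- merged: Cfsg.Agent.Mrg.Omega.NO3S.WY.Tor.Base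
section

/-!
# THEOREM TOR: first facts on the frame
-/

set_option autoImplicit false
set_option linter.unusedSectionVars false

namespace Cfsg.Agent.Omega.NO3S.WY.Tor

open Subgroup Cfsg Cfsg.Agent.ZN Cfsg.Agent.ZN.ChoiceBase
open Cfsg.Agent.ZN.ChoiceSit (Syl)
open Cfsg.Agent.MinSimple.MinParabolic (IsMinPar)
open Cfsg.Agent.MinSimple.VModule (oddGen oddGen_le mem_oddGen)
open Cfsg.Agent.Omega.SQ1.Bau (mem_sup_comm card_sup_comm)

universe u

variable {G : Type u} [Group G] {ι : Type}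

theorem conj_mem {A : Subgroup G} {g x : G} (h : g ∈ normalizer (A : Set G)) (hx : x ∈ A) : g * x * g⁻¹ ∈ A :=
  (mem_normalizer_iff.1 h x).1 hx

theorem comm_iff {a b : G} : a * b * a⁻¹ * b⁻¹ = 1 ↔ a * b = b * a := by
  constructor
  · intro h
    have h1 := mul_inv_eq_one.1 h
    exact mul_inv_eq_iff_eq_mul.1 h1
  · intro h
    rw [h]; group

theorem mem_cj' {g x : G} {A : Subgroup G} (hx : x ∈ A) : g * x * g⁻¹ ∈ cj g A := by
  rw [mem_cj]
  have : g⁻¹ * (g * x * g⁻¹) * g = x := by group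
  rwa [this]

/-- an element of odd order which stabilises `x A`, `A ≤ C(k)`, `x² = 1`, `A` of exponent 2, commutes with `x` -/
theorem odd_comm {k x a : G} (ho : Odd (orderOf k)) (ha : a * a = 1) (hka : k * a = a * k) (_hax : a * x = x * a)
    (h : k * x * k⁻¹ * x⁻¹ = a) : k * x = x * k := by
  have h1 : k * x * k⁻¹ = a * x := by rw [← h]; group
  have key : ∀ n : ℕ, k ^ n * x * (k ^ n)⁻¹ = a ^ n * x := by
    intro n
    induction n with
    | zero => simp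
    | succ n ih =>
      have e : k ^ (n + 1) * x * (k ^ (n + 1))⁻¹ = k * (k ^ n * x * (k ^ n)⁻¹) * k⁻¹ := by rw [pow_succ']; group
      have e2 : k * a ^ n = a ^ n * k := (Commute.pow_right (show Commute k a from hka) n)
      calc k ^ (n + 1) * x * (k ^ (n + 1))⁻¹ = k * (a ^ n * x) * k⁻¹ := by rw [e, ih]
        _ = (k * a ^ n) * x * k⁻¹ := by group
        _ = a ^ n * (k * x * k⁻¹) := by rw [e2]; group
        _ = a ^ n * (a * x) := by rw [h1]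
        _ = a ^ (n + 1) * x := by rw [pow_succ]; group
  obtain ⟨m, hm⟩ := ho
  have h2 := key (orderOf k)
  rw [pow_orderOf_eq_one] at h2
  have h3 : a ^ orderOf k = a := by
    rw [hm, pow_succ, pow_mul, pow_two, ha, one_pow, one_mul]
  rw [h3] at h2
  have h4 : a = 1 := by
    have : x = a * x := by simpa using h2
    exact mul_eq_right.1 this.symm
  rw [h4, one_mul] at h1
  exact mul_inv_eq_iff_eq_mul.1 h1

namespace Cx

variable {S B Q M X L : Subgroup G} {V : ι → Subgroup G} {z : ι → G} (c : Cx S B Q M X L V z)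
include c

theorem VL (i : ι) : V i ≤ L := by rw [c.eL]; exact le_iSup V i

theorem VX (i : ι) : V i ≤ X := (c.VL i).trans c.LX

theorem zX (i : ι) : z i ∈ X := c.VX i (c.zV i)

theorem QS : Q ≤ S := c.QB.trans c.BS

theorem B2 : IsPGroup 2 B := c.S2.to_le c.BS

theorem SQ : S ≤ normalizer (Q : Set G) := fun s hs => by
  rw [mem_normalizer_iff_cj]
  exact c.wc s (by
    have h1 := cj_mono s c.QS
    rwa [cj_eq_of_mem_normalizer (le_normalizer hs)] at h1)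

theorem BQ : B ≤ normalizer (Q : Set G) := c.BS.trans c.SQ

theorem SX : S ≤ normalizer (X : Set G) := c.SM.trans c.MX

theorem VV_L (j : ι) : VV V j ≤ L := iSup₂_le fun i _ => c.VL i

theorem VV_X (j : ι) : VV V j ≤ X := (c.VV_L j).trans c.LX

theorem V_VV {i j : ι} (h : i ≠ j) : V i ≤ VV V j := le_iSup₂_of_le (f := fun i (_ : i ≠ j) => V i) i h le_rfl

theorem Lam_VV (j : ι) : Lam z j ≤ VV V j :=
  iSup₂_le fun i hi => ((zpowers_le).2 (c.zV i)).trans (c.V_VV hi)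

theorem Lam_X (j : ι) : Lam z j ≤ X := (c.Lam_VV j).trans (c.VV_X j)

theorem V_VV_bot (j : ι) : V j ⊓ VV V j = ⊥ := c.ind j

theorem L_eq (j : ι) : L ≤ V j ⊔ VV V j := by
  rw [c.eL]
  refine iSup_le fun i => ?_
  by_cases h : i = j
  · rw [h]; exact le_sup_left
  · exact (c.V_VV h).trans le_sup_right

theorem xc {x y : G} (hx : x ∈ X) (hy : y ∈ X) : x * y = y * x := c.Xc x hx y hy

theorem inv_eq {x : G} (hx : x ∈ X) : x⁻¹ = x := by
  have := c.Xs x hx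
  exact inv_eq_of_mul_eq_one_left this

/-- `l = v v'`, `v ∈ V_j`, `v' ∈ V_(j)` -/
theorem split (j : ι) {l : G} (hl : l ∈ L) : ∃ v ∈ V j, ∃ v' ∈ VV V j, l = v * v' :=
  mem_sup_comm (fun _ ha _ hb => c.xc (c.VX j ha) (c.VV_X j hb)) (c.L_eq j hl)

theorem V_ne_bot (i : ι) : V i ≠ ⊥ := fun h => c.z1 i (by
  have := c.zV i
  rwa [h, mem_bot] at this)

theorem V_disj {i j : ι} (h : i ≠ j) : V i ⊓ V j = ⊥ :=
  le_bot_iff.1 ((inf_le_inf_left _ (c.V_VV h.symm)).trans (c.ind i).le)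

theorem V_inj {i j : ι} (h : V i = V j) : i = j := by
  by_contra hne
  have := c.V_disj hne
  rw [h, inf_idem] at this
  exact c.V_ne_bot j this

theorem V_of_mem {i j : ι} {v : G} (hi : v ∈ V i) (hj : v ∈ V j) (h1 : v ≠ 1) : i = j := by
  by_contra hne
  have : v ∈ V i ⊓ V j := ⟨hi, hj⟩
  rw [c.V_disj hne, mem_bot] at this
  exact h1 this

/-- `g ∈ N(Q)` normalises `V_(j)` if it normalises `V_j` -/
theorem norm_VV {g : G} (hQ : g ∈ normalizer (Q : Set G)) {j : ι} (hj : cj g (V j) = V j) :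
    cj g (VV V j) ≤ VV V j := by
  unfold VV
  rw [ChoiceBase.cj, Subgroup.map_iSup]
  refine iSup_le fun i => ?_
  rw [Subgroup.map_iSup]
  refine iSup_le fun hi => ?_
  obtain ⟨m, hm⟩ := c.perm g hQ i
  have hm' : Subgroup.map (MulAut.conj g).toMonoidHom (V i) = V m := hm
  have hmj : m ≠ j := by
    rintro rfl
    apply hi
    apply c.V_inj
    have h1 : cj g (V i) = cj g (V m) := by rw [hm, hj]
    have h2 := congrArg (cj g⁻¹) h1
    rwa [cj_inv_cj, cj_inv_cj] at h2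
  rw [hm']
  exact c.V_VV hmj

theorem norm_VV' [Finite G] {g : G} (hQ : g ∈ normalizer (Q : Set G)) {j : ι} (hj : cj g (V j) = V j) :
    g ∈ normalizer ((VV V j : Subgroup G) : Set G) := mem_normalizer_of_cj_le (c.norm_VV hQ hj)

theorem norm_L [Finite G] : normalizer (Q : Set G) ≤ normalizer (L : Set G) := fun g hg => by
  refine mem_normalizer_of_cj_le ?_
  conv_lhs => rw [c.eL]
  rw [ChoiceBase.cj, Subgroup.map_iSup]
  refine iSup_le fun i => ?_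
  obtain ⟨m, hm⟩ := c.perm g hg i
  have hm' : Subgroup.map (MulAut.conj g).toMonoidHom (V i) = V m := hm
  rw [hm']
  exact c.VL m

/-- `B` normalises every `V_i` -/
theorem BV (i : ι) : B ≤ normalizer (V i : Set G) := fun b hb => by
  obtain ⟨m, hm⟩ := c.perm b (c.BQ hb) i
  have h1 : z i ∈ V m := by
    rw [← hm, mem_cj]
    have := c.Bz b hb i
    have e : b⁻¹ * z i * b = z i := by rw [mul_assoc, ← this]; group
    rw [e]
    exact c.zV i
  have h2 := c.V_of_mem (c.zV i) h1 (c.z1 i)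
  rw [mem_normalizer_iff_cj, hm, h2]

theorem BVj {i : ι} {b : G} (hb : b ∈ B) : cj b (V i) = V i := cj_eq_of_mem_normalizer (c.BV i hb)

end Cx

namespace TY

variable {S B Q M X L : Subgroup G} {V : ι → Subgroup G} {z : ι → G} {𝓦 : Set (Subgroup G)} {j : ι}
  {Y W F : Subgroup G}

theorem BY (h : TY S B Q M X V z 𝓦 j Y W F) : B ≤ Y := h.min.le

theorem QY (c : Cx S B Q M X L V z) (h : TY S B Q M X V z 𝓦 j Y W F) : Q ≤ Y := c.QB.trans h.BY

theorem FX (h : TY S B Q M X V z 𝓦 j Y W F) : F ≤ X := h.FW.trans h.WX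

theorem F_VV (c : Cx S B Q M X L V z) (h : TY S B Q M X V z 𝓦 j Y W F) : F ≤ VV V j := h.FL.trans (c.Lam_VV j)

/-- `Y` centralises `Λ_j` -/
theorem cLam (h : TY S B Q M X V z 𝓦 j Y W F) {y x : G} (hy : y ∈ Y) (hx : x ∈ Lam z j) : y * x = x * y := by
  have h1 : Lam z j ≤ centralizer (Y : Set G) := iSup₂_le fun i hi => by
    rw [zpowers_le, mem_centralizer_iff]
    exact fun y hy => h.Yz y hy i hi
  exact mem_centralizer_iff.1 (h1 hx) y hy

theorem cF (h : TY S B Q M X V z 𝓦 j Y W F) {y f : G} (hy : y ∈ Y) (hf : f ∈ F) : y * f = f * y :=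
  h.cLam hy (h.FL hf)

theorem VjF_bot (c : Cx S B Q M X L V z) (h : TY S B Q M X V z 𝓦 j Y W F) : V j ⊓ F = ⊥ :=
  le_bot_iff.1 ((inf_le_inf_left _ (h.F_VV c)).trans (c.ind j).le)

/-- elements of `V_j F` -/
theorem mem_VF (c : Cx S B Q M X L V z) (h : TY S B Q M X V z 𝓦 j Y W F) {x : G} :
    x ∈ V j ⊔ F ↔ ∃ v ∈ V j, ∃ f ∈ F, x = v * f := by
  constructor
  · exact fun hx => mem_sup_comm (fun _ ha _ hb => c.xc (c.VX j ha) (h.FX hb)) hx
  · rintro ⟨v, hv, f, hf, rfl⟩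
    exact mul_mem ((le_sup_left : V j ≤ V j ⊔ F) hv) ((le_sup_right : F ≤ V j ⊔ F) hf)

theorem VF_L (c : Cx S B Q M X L V z) (h : TY S B Q M X V z 𝓦 j Y W F) : V j ⊔ F ≤ L :=
  sup_le (c.VL j) ((h.F_VV c).trans (c.VV_L j))

theorem VF_W (h : TY S B Q M X V z 𝓦 j Y W F) : V j ⊔ F ≤ W := sup_le h.VW h.FW

/-- `W ∩ L = V_j F` -/
theorem WL (c : Cx S B Q M X L V z) (h : TY S B Q M X V z 𝓦 j Y W F) : W ⊓ L = V j ⊔ F :=
  le_antisymm (fun w hw => h.cWQ w hw.1 fun q hq => c.cQL q hq w hw.2) (le_inf h.VF_W (h.VF_L c))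

/-- `W ∩ V_(j) = F` -/
theorem WVV (c : Cx S B Q M X L V z) (h : TY S B Q M X V z 𝓦 j Y W F) : W ⊓ VV V j = F := by
  refine le_antisymm ?_ (le_inf h.FW (h.F_VV c))
  rintro w ⟨hw, hwV⟩
  have h1 : w ∈ V j ⊔ F := by rw [← h.WL c]; exact ⟨hw, c.VV_L j hwV⟩
  obtain ⟨v, hv, f, hf, rfl⟩ := (h.mem_VF c).1 h1
  have h2 : v ∈ VV V j := by
    have := (VV V j).mul_mem hwV ((VV V j).inv_mem (h.F_VV c hf))
    simpa using this
  have h3 : v ∈ V j ⊓ VV V j := ⟨hv, h2⟩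
  rw [c.ind j, mem_bot] at h3
  rw [h3, one_mul]; exact hf

theorem card_VF [Finite G] (c : Cx S B Q M X L V z) (h : TY S B Q M X V z 𝓦 j Y W F) :
    Nat.card ↥(V j ⊔ F) = 4 * Nat.card F := by
  have h1 := card_sup_comm (A := V j) (B := F) (fun _ ha _ hb => c.xc (c.VX j ha) (h.FX hb))
  rw [h.VjF_bot c, Subgroup.card_bot, mul_one, c.cV j] at h1
  exact h1

theorem syl (c : Cx S B Q M X L V z) (h : TY S B Q M X V z 𝓦 j Y W F) : Syl B Y :=
  ⟨h.BY, c.B2, fun T hT hT2 hBT => le_antisymm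
    (c.sylB j T hT2 hBT fun i hi x hx => h.Yz x (hT hx) i hi) hBT⟩

theorem oddB [Finite G] (c : Cx S B Q M X L V z) (h : TY S B Q M X V z 𝓦 j Y W F) : oddGen Y ⊔ B = Y :=
  NO3b.EZero.oddGen_sup_syl (h.syl c)

theorem o2B [Finite G] (c : Cx S B Q M X L V z) (h : TY S B Q M X V z 𝓦 j Y W F) : o2 Y ≤ B :=
  ChoiceSit.o2_le_syl (h.syl c)

/-- `O₂(Y)` centralises `W` -/
theorem o2_cW [Finite G] (c : Cx S B Q M X L V z) (h : TY S B Q M X V z 𝓦 j Y W F) :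
    o2 Y ≤ centralizer (W : Set G) := by
  rw [le_centralizer_iff]
  refine h.gen _ ?_ ?_
  · rw [mem_centralizer_iff]
    exact fun b hb => c.Bz b (h.o2B c hb) j
  · exact (ChoiceSit.le_normalizer_o2 Y).trans
      (normalizer_le_of_cj (F := fun T => centralizer (T : Set G)) (fun g T => (cj_centralizer g T).symm) (o2 Y))

/-- the action on the lines: an element of odd order which moves a line -/
theorem exists_odd [Finite G] (_h : TY S B Q M X V z 𝓦 j Y W F) {π : ↥Y →* Equiv.Perm (Fin 5)}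
    (hπ : alternatingGroup (Fin 5) ≤ π.range) : ∃ y : Y, Odd (orderOf y) ∧ π y ≠ 1 := by
  classical
  have h3 : (Equiv.swap (0 : Fin 5) 1 * Equiv.swap 1 2) ∈ alternatingGroup (Fin 5) := by
    rw [Equiv.Perm.mem_alternatingGroup]
    decide
  obtain ⟨y, hy⟩ := hπ h3
  obtain ⟨k, m, hm, e⟩ := Nat.exists_eq_two_pow_mul_odd (n := orderOf y) (orderOf_pos y).ne'
  refine ⟨y ^ 2 ^ k, ?_, ?_⟩
  · rw [orderOf_pow_of_dvd (by positivity) ⟨m, e⟩, e, Nat.mul_div_cancel_left _ (by positivity)]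
    exact hm
  · rw [map_pow, hy]
    intro h1
    have h4 : orderOf (Equiv.swap (0 : Fin 5) 1 * Equiv.swap 1 2) = 3 := by
      apply orderOf_eq_prime
      · decide
      · decide
    have h5 := orderOf_dvd_of_pow_eq_one h1
    rw [h4] at h5
    have h6 := Nat.Prime.dvd_of_dvd_pow Nat.prime_three h5
    omega

theorem card_line_ne [Finite G] (c : Cx S B Q M X L V z) (h : TY S B Q M X V z 𝓦 j Y W F) : V j ⊔ F ≠ F := by
  intro e
  have h1 := h.card_VF c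
  rw [e] at h1
  have h2 : 0 < Nat.card F := Nat.card_pos
  omega

/-- an element of `Y` which is trivial on `W / F` fixes the lines -/
theorem ker_le {ℓ : Fin 5 → Subgroup G} {π : ↥Y →* Equiv.Perm (Fin 5)} (hW : ∀ a, ℓ a ≤ W)
    (hF : ∀ a, F ≤ ℓ a) (hne : ∀ a, ℓ a ≠ F)
    (hi : ∀ a b, a ≠ b → ℓ a ⊓ ℓ b = F) (hc : ∀ (y : Y) a, cj (y : G) (ℓ a) = ℓ (π y a)) {y : Y}
    (hy : ∀ w ∈ W, (y : G) * w * (y : G)⁻¹ * w⁻¹ ∈ F) : π y = 1 := by
  ext a
  simp only [Equiv.Perm.coe_one, id_eq]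
  have h1 : cj (y : G) (ℓ a) ≤ ℓ a := by
    rintro x ⟨w, hw, rfl⟩
    have h2 := mul_mem (hF a (hy w (hW a hw))) hw
    have e : (y : G) * w * (y : G)⁻¹ * w⁻¹ * w = (y : G) * w * (y : G)⁻¹ := by group
    rw [e] at h2
    exact h2
  by_contra hne'
  have hne2 : π y a ≠ a := fun e => hne' (by rw [e])
  rw [hc] at h1
  have h3 : ℓ (π y a) ≤ F := by
    rw [← hi _ _ hne2]
    exact le_inf le_rfl h1
  exact hne _ (le_antisymm h3 (hF _))

/-- the elements of `Y` which are trivial on `W / F` -/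
def CWF (h : TY S B Q M X V z 𝓦 j Y W F) : Subgroup G where
  carrier := {y | y ∈ Y ∧ ∀ w ∈ W, y * w * y⁻¹ * w⁻¹ ∈ F}
  one_mem' := ⟨one_mem _, fun w _ => by simp⟩
  mul_mem' := by
    rintro a b ⟨ha, ha'⟩ ⟨hb, hb'⟩
    refine ⟨mul_mem ha hb, fun w hw => ?_⟩
    have h1 := hb' w hw
    have h2 := h.cF ha h1
    have e : a * b * w * (a * b)⁻¹ * w⁻¹ = (a * (b * w * b⁻¹ * w⁻¹)) * a⁻¹ * (a * w * a⁻¹ * w⁻¹) := by group
    rw [e, h2]
    have e2 : b * w * b⁻¹ * w⁻¹ * a * a⁻¹ * (a * w * a⁻¹ * w⁻¹) = (b * w * b⁻¹ * w⁻¹) * (a * w * a⁻¹ * w⁻¹) := by group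
    rw [e2]
    exact mul_mem h1 (ha' w hw)
  inv_mem' := by
    rintro a ⟨ha, ha'⟩
    refine ⟨inv_mem ha, fun w hw => ?_⟩
    have h3 : a⁻¹ * w * a ∈ W := by
      have := conj_mem (h.YW (inv_mem ha)) hw
      simpa using this
    have h1 := ha' _ h3
    have h2 := h.cF (inv_mem ha) (inv_mem h1)
    have e : a⁻¹ * w * a⁻¹⁻¹ * w⁻¹ = (a * (a⁻¹ * w * a) * a⁻¹ * (a⁻¹ * w * a)⁻¹)⁻¹ := by group
    rw [e]
    exact inv_mem h1

theorem mem_CWF (h : TY S B Q M X V z 𝓦 j Y W F) {y : G} :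
    y ∈ h.CWF ↔ y ∈ Y ∧ ∀ w ∈ W, y * w * y⁻¹ * w⁻¹ ∈ F := Iff.rfl

theorem CWF_norm (h : TY S B Q M X V z 𝓦 j Y W F) [Finite G] : Y ≤ normalizer (h.CWF : Set G) := by
  intro y hy
  refine mem_normalizer_of_cj_le ?_
  rintro x ⟨u, ⟨hu, hu'⟩, rfl⟩
  refine ⟨mul_mem (mul_mem hy hu) (inv_mem hy), fun w hw => ?_⟩
  have h3 : y⁻¹ * w * y ∈ W := by
    have := conj_mem (h.YW (inv_mem hy)) hw
    simpa using this
  have h1 := hu' _ h3
  have h2 := h.cF hy h1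
  show (y * u * y⁻¹) * w * (y * u * y⁻¹)⁻¹ * w⁻¹ ∈ F
  have e : (y * u * y⁻¹) * w * (y * u * y⁻¹)⁻¹ * w⁻¹ =
      y * (u * (y⁻¹ * w * y) * u⁻¹ * (y⁻¹ * w * y)⁻¹) * y⁻¹ := by group
  rw [e, h2]
  have e2 : ∀ f : G, f * y * y⁻¹ = f := fun f => by group
  rw [e2]
  exact h1

theorem not_odd_CWF [Finite G] (c : Cx S B Q M X L V z) (h : TY S B Q M X V z 𝓦 j Y W F) :
    ¬ oddGen Y ≤ h.CWF := by
  intro hle
  obtain ⟨ℓ, π, h0, hW, hi, hc, hA, -⟩ := h.act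
  obtain ⟨y, hy, hne⟩ := h.exists_odd hA
  have hy' : (y : G) ∈ oddGen Y := mem_oddGen y.2 (by rwa [← Subgroup.orderOf_coe] at hy)
  have hF : ∀ a, F ≤ ℓ a := fun a => by
    have : ∃ b : Fin 5, a ≠ b := by
      by_cases h5 : a = 0
      · exact ⟨1, by rw [h5]; decide⟩
      · exact ⟨0, h5⟩
    obtain ⟨b, hb⟩ := this
    rw [← hi a b hb]; exact inf_le_left
  have hlne : ∀ a, ℓ a ≠ F := by
    intro a e
    obtain ⟨g, hg⟩ := hA (show Equiv.swap (0 : Fin 5) a * Equiv.swap (0 : Fin 5) a ∈ _ by simp)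
    -- transitivity
    have htr : ∃ g : Y, π g 0 = a := by
      by_cases ha : a = 0
      · exact ⟨1, by rw [ha]; simp⟩
      · obtain ⟨b, hb0, hba⟩ : ∃ b : Fin 5, b ≠ 0 ∧ b ≠ a := by
          by_cases h1 : a = 1
          · exact ⟨2, by decide, by rw [h1]; decide⟩
          · exact ⟨1, by decide, fun e => h1 e.symm⟩
        have h3 : (Equiv.swap (0 : Fin 5) a * Equiv.swap 0 b) ∈ alternatingGroup (Fin 5) := by
          rw [Equiv.Perm.mem_alternatingGroup, map_mul, Equiv.Perm.sign_swap (Ne.symm ha),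
            Equiv.Perm.sign_swap hb0.symm]
          decide
        have h4 : (Equiv.swap (0 : Fin 5) b * Equiv.swap 0 a) ∈ alternatingGroup (Fin 5) := by
          rw [Equiv.Perm.mem_alternatingGroup, map_mul, Equiv.Perm.sign_swap (Ne.symm ha),
            Equiv.Perm.sign_swap hb0.symm]
          decide
        obtain ⟨g, hg⟩ := hA h4
        refine ⟨g, ?_⟩
        rw [hg, Equiv.Perm.mul_apply, Equiv.swap_apply_left, Equiv.swap_apply_of_ne_of_ne ha hba.symm]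
    obtain ⟨g, hg⟩ := htr
    have h6 := hc g 0
    rw [hg, h0, e] at h6
    have h7 := card_cj (g : G) (V j ⊔ F)
    rw [h6, h.card_VF c] at h7
    have h8 : 0 < Nat.card F := Nat.card_pos
    omega
  exact hne (ker_le hW hF hlne hi hc (hle hy').2)

/-- an element of `B` which is trivial on `W / F` lies in `O₂(Y)` -/
theorem mem_o2_of [Finite G] (c : Cx S B Q M X L V z) (h : TY S B Q M X V z 𝓦 j Y W F) {b : G} (hb : b ∈ B)
    (hf : ∀ w ∈ W, b * w * b⁻¹ * w⁻¹ ∈ F) : b ∈ o2 Y := by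
  rcases NO3b.K0.min_or (h.syl c) h.min (K := h.CWF) (fun x hx => hx.1) h.CWF_norm with h2 | h2
  · exact absurd h2 (h.not_odd_CWF c)
  · exact h2 ⟨hb, ⟨h.BY hb, hf⟩⟩

/-- `O₂(Y) = C_B(W)` -/
theorem o2W [Finite G] (c : Cx S B Q M X L V z) (h : TY S B Q M X V z 𝓦 j Y W F) :
    o2 Y = B ⊓ centralizer (W : Set G) := by
  refine le_antisymm (le_inf (h.o2B c) (h.o2_cW c)) ?_
  rintro b ⟨hb, hbW⟩
  refine h.mem_o2_of c hb fun w hw => ?_
  have h1 : b * w * b⁻¹ * w⁻¹ = 1 := comm_iff.2 (mem_centralizer_iff.1 hbW w hw).symm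
  rw [h1]; exact one_mem _

/-- `Q ∩ O₂(Y) = C_Q(W)` -/
theorem PIW [Finite G] (c : Cx S B Q M X L V z) (h : TY S B Q M X V z 𝓦 j Y W F) :
    Q ⊓ o2 Y = Q ⊓ centralizer (W : Set G) := by
  rw [h.o2W c, ← inf_assoc, inf_eq_left.2 c.QB]

end TY

end Cfsg.Agent.Omega.NO3S.WY.Tor

end

-- merged: Cfsg.Agent.Mrg.Omega.NO3S.WY.Tor.One
section

/-!
# THEOREM TOR (helper474 #25011), (1)

Pure group theory, natural form and `S_5` form (#25227 (b)), nonsplit blocks included.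
`Y`, `B` Sylow in `Y`, `Q ≤ B`, `O = O₂(Y)`, `A` the elementary abelian group on which the odd kernel lemma `(0)` is
used (`A = V ∩ O₂(C_G(Λ))`), `W = ⟨z^Y⟩`, `F = C_W(O²(Y))` (split: `F = 1`), `X ≤ L` centralised by `h ∈ ⟨Q^Y⟩`
(natural: `X = ∏_{i≠j} V_i`; `S_5`: `X = C_L(Alt τ)`).

* `One.comm_WΛ`, `One.norm` : `Y` normalises `W L`;
* `One.comm_W` : `[W L, ⟨Q^Y⟩] ≤ W`;
* `One.pi` : `Q ∩ O₂(Y)` is normal in `Y`;
* `One.comm_F` : `[X, ⟨Q^Y⟩] ≤ F`; `One.cent` (split): `⟨Q^Y⟩` centralises `X`; `One.cent_odd` : `O²(Y)` centralises `X`.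
-/

set_option autoImplicit false
set_option linter.unusedSectionVars false
set_option linter.dupNamespace false

namespace Cfsg.Agent.Omega.NO3S.WY.Tor

open Subgroup Cfsg Cfsg.Agent.ZN Cfsg.Agent.ZN.ChoiceBase
open Cfsg.Agent.ZN.ChoiceSit (Syl syl_not_dvd)
open Cfsg.Agent.Omega.NO3b.EZero (cl cl_le le_cl cj_le_cl le_normalizer_cl oddGen_sup_syl)
open Cfsg.Agent.MinSimple.VModule (oddGen oddGen_le mem_oddGen)

universe u

variable {G : Type u} [Group G] [Finite G]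

theorem cjs (g : G) (A B : Subgroup G) : cj g (A ⊔ B) = cj g A ⊔ cj g B := Subgroup.map_sup _ _ _

theorem exists_mul {W L : Subgroup G} (hc : ∀ w ∈ W, ∀ v ∈ L, w * v = v * w) {x : G} (hx : x ∈ W ⊔ L) :
    ∃ w ∈ W, ∃ v ∈ L, w * v = x := by
  let E : Subgroup G :=
    { carrier := {x | ∃ w ∈ W, ∃ v ∈ L, w * v = x}
      one_mem' := ⟨1, one_mem _, 1, one_mem _, one_mul 1⟩
      mul_mem' := by
        rintro _ _ ⟨w, hw, v, hv, rfl⟩ ⟨w', hw', v', hv', rfl⟩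
        refine ⟨w * w', mul_mem hw hw', v * v', mul_mem hv hv', ?_⟩
        rw [mul_assoc w w', ← mul_assoc w' v, hc w' hw' v hv]
        group
      inv_mem' := by
        rintro _ ⟨w, hw, v, hv, rfl⟩
        refine ⟨w⁻¹, inv_mem hw, v⁻¹, inv_mem hv, ?_⟩
        rw [hc _ (inv_mem hw) _ (inv_mem hv), mul_inv_rev] }
  have h1 : W ⊔ L ≤ E := sup_le (fun w hw => ⟨w, hw, 1, one_mem _, mul_one w⟩)
    (fun v hv => ⟨1, one_mem _, v, hv, one_mul v⟩)
  exact h1 hx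

theorem mem_sup_of_normalizer_le {Q O : Subgroup G} (hQ : ∀ q ∈ Q, q ∈ normalizer (O : Set G)) {x : G}
    (hx : x ∈ Q ⊔ O) : ∃ q ∈ Q, ∃ o ∈ O, q * o = x := by
  let E : Subgroup G :=
    { carrier := {x | ∃ q ∈ Q, ∃ o ∈ O, q * o = x}
      one_mem' := ⟨1, one_mem _, 1, one_mem _, one_mul 1⟩
      mul_mem' := by
        rintro _ _ ⟨q, hq, o, ho, rfl⟩ ⟨q', hq', o', ho', rfl⟩
        refine ⟨q * q', mul_mem hq hq', q'⁻¹ * o * q' * o', mul_mem ?_ ho', by group⟩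
        have h1 := (mem_normalizer_iff.1 (inv_mem (hQ q' hq')) o).1 ho
        rwa [inv_inv] at h1
      inv_mem' := by
        rintro _ ⟨q, hq, o, ho, rfl⟩
        refine ⟨q⁻¹, inv_mem hq, q * o⁻¹ * q⁻¹, ?_, by group⟩
        exact (mem_normalizer_iff.1 (hQ q hq) _).1 (inv_mem ho) }
  have h1 : Q ⊔ O ≤ E := sup_le (fun w hw => ⟨w, hw, 1, one_mem _, mul_one w⟩)
    (fun v hv => ⟨1, one_mem _, v, hv, one_mul v⟩)
  exact h1 hx

/-- The elements of `N(M) ∩ N(W)` which centralise `M / W`. -/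
def cq (M W : Subgroup G) : Subgroup G where
  carrier := {g | g ∈ normalizer (M : Set G) ∧ g ∈ normalizer (W : Set G) ∧ ∀ x ∈ M, g * x * g⁻¹ * x⁻¹ ∈ W}
  one_mem' := ⟨one_mem _, one_mem _, fun x _ => by
    have e : (1 : G) * x * 1⁻¹ * x⁻¹ = 1 := by group
    rw [e]; exact one_mem _⟩
  mul_mem' := by
    rintro a b ⟨ha1, ha2, ha3⟩ ⟨hb1, hb2, hb3⟩
    refine ⟨mul_mem ha1 hb1, mul_mem ha2 hb2, fun x hx => ?_⟩
    have h1 := ha3 _ ((mem_normalizer_iff.1 hb1 x).1 hx)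
    have e : a * b * x * (a * b)⁻¹ * x⁻¹ = (a * (b * x * b⁻¹) * a⁻¹ * (b * x * b⁻¹)⁻¹) * (b * x * b⁻¹ * x⁻¹) := by
      group
    rw [e]
    exact mul_mem h1 (hb3 x hx)
  inv_mem' := by
    rintro a ⟨ha1, ha2, ha3⟩
    refine ⟨inv_mem ha1, inv_mem ha2, fun x hx => ?_⟩
    have h1 : a⁻¹ * x * a ∈ M := by
      have := (mem_normalizer_iff.1 (inv_mem ha1) x).1 hx
      rwa [inv_inv] at this
    have h2 := inv_mem (ha3 _ h1)
    have e : a⁻¹ * x * a⁻¹⁻¹ * x⁻¹ = (a * (a⁻¹ * x * a) * a⁻¹ * (a⁻¹ * x * a)⁻¹)⁻¹ := by group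
    rw [e]
    exact h2

theorem mem_cq {M W : Subgroup G} {g : G} : g ∈ cq M W ↔
    g ∈ normalizer (M : Set G) ∧ g ∈ normalizer (W : Set G) ∧ ∀ x ∈ M, g * x * g⁻¹ * x⁻¹ ∈ W := Iff.rfl

theorem conj_mem_cq {M W : Subgroup G} {n g : G} (h1 : n ∈ normalizer (M : Set G)) (h2 : n ∈ normalizer (W : Set G))
    (hg : g ∈ cq M W) : n * g * n⁻¹ ∈ cq M W := by
  obtain ⟨a1, a2, a3⟩ := mem_cq.1 hg
  refine mem_cq.2 ⟨mul_mem (mul_mem h1 a1) (inv_mem h1), mul_mem (mul_mem h2 a2) (inv_mem h2), fun x hx => ?_⟩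
  have h3 : n⁻¹ * x * n ∈ M := by
    have := (mem_normalizer_iff.1 (inv_mem h1) x).1 hx
    rwa [inv_inv] at this
  have h4 := (mem_normalizer_iff.1 h2 _).1 (a3 _ h3)
  have e : n * g * n⁻¹ * x * (n * g * n⁻¹)⁻¹ * x⁻¹ = n * (g * (n⁻¹ * x * n) * g⁻¹ * (n⁻¹ * x * n)⁻¹) * n⁻¹ := by group
  rw [e]
  exact h4

/-- `⟨Q^Y⟩ ≤ C(M/W)` if `Q` centralises `M/W` and `Y` normalises `M`, `W`. -/
theorem cl_le_cq {M W Q Y : Subgroup G} (h1 : Y ≤ normalizer (M : Set G)) (h2 : Y ≤ normalizer (W : Set G))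
    (h3 : Q ≤ cq M W) : cl Q Y ≤ cq M W := by
  refine cl_le fun y hy => ?_
  rintro _ ⟨q, hq, rfl⟩
  exact conj_mem_cq (h1 hy) (h2 hy) (h3 hq)

structure One (Y B Q O A L W X F Λ : Subgroup G) (h : G) : Prop where
  ker0 : ∀ N₁ : Subgroup G, N₁ ≤ A → Y ≤ normalizer (N₁ : Set G) → ∀ v ∈ A,
    (∀ g ∈ Y, g ∈ normalizer (Q : Set G) → g * v * g⁻¹ * v⁻¹ ∈ N₁) → ∀ y ∈ Y, y * v * y⁻¹ * v⁻¹ ∈ N₁
  Aab : ∀ a ∈ A, ∀ b ∈ A, a * b = b * a
  Asq : ∀ a ∈ A, a * a = 1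
  syl : Syl B Y
  QB : Q ≤ B
  OB : O ≤ B
  YO : Y ≤ normalizer (O : Set G)
  LA : L ≤ A
  BL : B ≤ normalizer (L : Set G)
  WA : W ≤ A
  YW : Y ≤ normalizer (W : Set G)
  OW : O ≤ centralizer (W : Set G)
  QL : Q ≤ centralizer (L : Set G)
  LO : ∀ o ∈ O, ∀ v ∈ L, o * v * o⁻¹ * v⁻¹ ∈ Λ
  ΛL : Λ ≤ L
  YΛ : Y ≤ centralizer (Λ : Set G)
  WΛ : W ⊓ Λ ≤ F
  FW : F ≤ W
  YF : Y ≤ normalizer (F : Set G)
  hN : ∀ g ∈ Y, g ∈ normalizer (Q : Set G) → ∀ v ∈ L, g * v * g⁻¹ * v⁻¹ ∈ W ⊔ Λ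
  CL : O ⊓ centralizer (L : Set G) ≤ Q
  KB : cl Q Y ⊓ B ≤ Q ⊔ O
  XL : X ≤ L
  hK : h ∈ cl Q Y
  hX : ∀ v ∈ X, h * v = v * h
  hfix : ∀ w ∈ W, (∀ q ∈ Q, q * w * q⁻¹ * w⁻¹ ∈ F) → h * w * h⁻¹ * w⁻¹ ∈ F → w ∈ F

namespace One

variable {Y B Q O A L W X F Λ : Subgroup G} {h : G} (H : One Y B Q O A L W X F Λ h)
include H

theorem QY : Q ≤ Y := H.QB.trans H.syl.1

theorem OY : O ≤ Y := H.OB.trans H.syl.1

theorem ΛA : Λ ≤ A := H.ΛL.trans H.LA

theorem WL_A : W ⊔ L ≤ A := sup_le H.WA H.LA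

theorem YnΛ : Y ≤ normalizer (Λ : Set G) := H.YΛ.trans (centralizer_le_normalizer _)

theorem YnWΛ : Y ≤ normalizer ((W ⊔ Λ : Subgroup G) : Set G) := by
  intro y hy
  rw [mem_normalizer_iff_cj, cjs, cj_eq_of_mem_normalizer (H.YW hy), cj_eq_of_mem_normalizer (H.YnΛ hy)]

/-- (0) for `L` modulo `W Λ` -/
theorem comm_WΛ {y v : G} (hy : y ∈ Y) (hv : v ∈ L) : y * v * y⁻¹ * v⁻¹ ∈ W ⊔ Λ :=
  H.ker0 (W ⊔ Λ) (sup_le H.WA H.ΛA) H.YnWΛ v (H.LA hv) (fun g hg hgQ => H.hN g hg hgQ v hv) y hy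

/-- **`Y` normalises `W L`.** -/
theorem norm : Y ≤ normalizer ((W ⊔ L : Subgroup G) : Set G) := by
  have key : ∀ y ∈ Y, cj y (W ⊔ L) ≤ W ⊔ L := by
    intro y hy
    rw [cjs, cj_eq_of_mem_normalizer (H.YW hy)]
    refine sup_le le_sup_left ?_
    rintro _ ⟨v, hv, rfl⟩
    have h1 : y * v * y⁻¹ * v⁻¹ ∈ W ⊔ L := (sup_le_sup_left H.ΛL W) (H.comm_WΛ hy hv)
    have e : (MulAut.conj y).toMonoidHom v = y * v * y⁻¹ * v⁻¹ * v := by
      simp only [MulEquiv.toMonoidHom_eq_coe, MonoidHom.coe_coe, MulAut.conj_apply]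
      group
    rw [e]
    exact mul_mem h1 (mem_sup_right hv)
  intro y hy
  rw [mem_normalizer_iff_cj]
  exact Subgroup.eq_of_le_of_card_ge (key y hy) (card_cj _ _).ge

theorem Q_cq : Q ≤ cq (W ⊔ L) W := by
  intro q hq
  refine mem_cq.2 ⟨H.norm (H.QY hq), H.YW (H.QY hq), fun x hx => ?_⟩
  obtain ⟨w, hw, v, hv, rfl⟩ := exists_mul (fun w hw v hv => H.Aab w (H.WA hw) v (H.LA hv)) hx
  have h1 : q * v = v * q := (mem_centralizer_iff.1 (H.QL hq) v hv).symm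
  have e : q * (w * v) * q⁻¹ * (w * v)⁻¹ = (q * w * q⁻¹) * (q * v) * q⁻¹ * v⁻¹ * w⁻¹ := by group
  rw [e, h1]
  have e2 : q * w * q⁻¹ * (v * q) * q⁻¹ * v⁻¹ * w⁻¹ = (q * w * q⁻¹) * w⁻¹ := by group
  rw [e2]
  exact mul_mem ((mem_normalizer_iff.1 (H.YW (H.QY hq)) w).1 hw) (inv_mem hw)

/-- `[W L, ⟨Q^Y⟩] ≤ W` -/
theorem cl_cq : cl Q Y ≤ cq (W ⊔ L) W := cl_le_cq H.norm H.YW H.Q_cq

theorem comm_W {k v : G} (hk : k ∈ cl Q Y) (hv : v ∈ W ⊔ L) : k * v * k⁻¹ * v⁻¹ ∈ W :=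
  (mem_cq.1 (H.cl_cq hk)).2.2 v hv

theorem cl_Y : cl Q Y ≤ Y := cl_le fun y hy => by
  rw [← cj_eq_of_mem_normalizer (le_normalizer hy : y ∈ normalizer (Y : Set G))]
  exact cj_mono y H.QY

/-- `Q ∩ O₂(Y)` centralises `W L`, and it is `C_{O₂(Y)}(W L)`. -/
theorem pi_eq : Q ⊓ O = O ⊓ centralizer ((W ⊔ L : Subgroup G) : Set G) := by
  refine le_antisymm (le_inf inf_le_right ?_) (le_inf ?_ inf_le_left)
  · rw [← le_centralizer_iff]
    refine sup_le ?_ ?_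
    · rw [le_centralizer_iff]
      exact inf_le_right.trans H.OW
    · rw [le_centralizer_iff]
      exact inf_le_left.trans H.QL
  · exact (inf_le_inf_left O (centralizer_le (SetLike.coe_subset_coe.2 (le_sup_right : L ≤ W ⊔ L)))).trans H.CL

/-- **`Q ∩ O₂(Y)` is normal in `Y`.** -/
theorem pi : Y ≤ normalizer ((Q ⊓ O : Subgroup G) : Set G) := by
  rw [H.pi_eq]
  intro y hy
  rw [mem_normalizer_iff_cj, cj_inf, cj_centralizer, cj_eq_of_mem_normalizer (H.YO hy),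
    cj_eq_of_mem_normalizer (H.norm hy)]

/-- the Sylow 2-subgroup of `⟨Q^Y⟩` centralises `L` modulo `F` -/
theorem comm_syl {k v : G} (hk : k ∈ cl Q Y ⊓ B) (hv : v ∈ L) : k * v * k⁻¹ * v⁻¹ ∈ F := by
  have hOQ : ∀ q ∈ Q, q ∈ normalizer (O : Set G) := fun q hq => H.YO (H.QY hq)
  obtain ⟨q, hq, o, ho, rfl⟩ : ∃ q ∈ Q, ∃ o ∈ O, q * o = k := by
    have h1 : k ∈ Q ⊔ O := H.KB hk
    exact mem_sup_of_normalizer_le hOQ h1
  have ho' : o ∈ cl Q Y := by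
    have h1 := mul_mem (inv_mem (le_cl Q Y hq)) hk.1
    have e : q⁻¹ * (q * o) = o := by group
    rwa [e] at h1
  have h1 : o * v * o⁻¹ * v⁻¹ ∈ F := H.WΛ ⟨H.comm_W ho' (mem_sup_right hv), H.LO o ho v hv⟩
  have h2 := (mem_normalizer_iff.1 (H.YF (H.QY hq)) _).1 h1
  have h3 : q * v⁻¹ = v⁻¹ * q := (mem_centralizer_iff.1 (H.QL hq) _ (inv_mem hv)).symm
  have e : q * o * v * (q * o)⁻¹ * v⁻¹ = q * (o * v * o⁻¹ * v⁻¹) * q⁻¹ := by
    calc q * o * v * (q * o)⁻¹ * v⁻¹ = q * (o * v * o⁻¹) * (q⁻¹ * v⁻¹) := by group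
      _ = q * (o * v * o⁻¹) * (v⁻¹ * q⁻¹) := by
          have h4 : q⁻¹ * v⁻¹ = v⁻¹ * q⁻¹ := by
            have h5 : q⁻¹ * (q * v⁻¹) * q⁻¹ = q⁻¹ * (v⁻¹ * q) * q⁻¹ := by rw [h3]
            have h6 : q⁻¹ * (q * v⁻¹) * q⁻¹ = v⁻¹ * q⁻¹ := by group
            have h7 : q⁻¹ * (v⁻¹ * q) * q⁻¹ = q⁻¹ * v⁻¹ := by group
            rw [h6, h7] at h5
            exact h5.symm
          rw [h4]
      _ = _ := by group
  rw [e]
  exact h2

/-- `[X, ⟨Q^Y⟩] ≤ F` -/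
theorem comm_F {k v : G} (hk : k ∈ cl Q Y) (hv : v ∈ X) : k * v * k⁻¹ * v⁻¹ ∈ F := by
  have hvL : v ∈ L := H.XL hv
  have hvA : v ∈ A := H.LA hvL
  have hY : cl Q Y ≤ Y := H.cl_Y
  have hc : ∀ x ∈ Y, ∀ a ∈ A, x * a * x⁻¹ ∈ A → a⁻¹ * x * a * x⁻¹ = x * a * x⁻¹ * a⁻¹ := by
    intro x _ a ha h1
    have h2 := H.Aab _ (inv_mem ha) _ h1
    calc a⁻¹ * x * a * x⁻¹ = a⁻¹ * (x * a * x⁻¹) := by group
      _ = _ := h2
  have hkA : ∀ x ∈ cl Q Y, x * v * x⁻¹ ∈ A := by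
    intro x hx
    have h1 := H.WA (H.comm_W hx (mem_sup_right hvL))
    have e : x * v * x⁻¹ = (x * v * x⁻¹ * v⁻¹) * v := by group
    rw [e]
    exact mul_mem h1 hvA
  have hodd : Odd ((cl Q Y ⊓ B).relIndex (cl Q Y)) := by
    have h1 := NO3b.UMethod.not_dvd_inf H.syl.1 (syl_not_dvd H.syl) hY (le_normalizer_cl Q Y)
    exact Nat.not_even_iff_odd.1 fun h2 => h1 h2.two_dvd
  obtain ⟨w, hw, hx⟩ := BTwo.Avg.avg (X := cl Q Y) (P := cl Q Y ⊓ B) (Y := W) (D := F) (c := v) inf_le_left hodd H.FW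
    (fun x hx y hy => (mem_normalizer_iff.1 (H.YW (hY hx)) y).1 hy)
    (fun x hx y hy => (mem_normalizer_iff.1 (H.YF (hY hx)) y).1 hy)
    (fun x hx y hy => by
      rw [H.Aab x (H.WA hx) y (H.WA (H.FW hy)), mul_inv_cancel_right]
      exact hy)
    (fun y hy => by rw [H.Asq y (H.WA hy)]; exact one_mem _)
    (fun x hx => by
      rw [hc x (hY hx) v hvA (hkA x hx)]
      exact H.comm_W hx (mem_sup_right hvL))
    (fun x hx => by
      rw [hc x (hY hx.1) v hvA (hkA x hx.1)]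
      exact H.comm_syl hx hvL)
  -- `[v w, x] ≡ [v, x] [w, x]`
  have key : ∀ x ∈ cl Q Y, x * v * x⁻¹ * v⁻¹ ∈ F → x * w * x⁻¹ * w⁻¹ ∈ F := by
    intro x hx1 h1
    have h2 := hx x hx1
    have hwx : x * w * x⁻¹ ∈ A := H.WA ((mem_normalizer_iff.1 (H.YW (hY hx1)) w).1 hw)
    have h3 : (v * w)⁻¹ * x * (v * w) * x⁻¹ = (x * v * x⁻¹ * v⁻¹) * (x * w * x⁻¹ * w⁻¹) := by
      have h4 := H.Aab _ (inv_mem (H.WA hw)) _ (mul_mem (mul_mem (inv_mem hvA) (hkA x hx1)) hwx)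
      have h5 := H.Aab _ (inv_mem hvA) _ (hkA x hx1)
      calc (v * w)⁻¹ * x * (v * w) * x⁻¹ = w⁻¹ * (v⁻¹ * (x * v * x⁻¹) * (x * w * x⁻¹)) := by group
        _ = v⁻¹ * (x * v * x⁻¹) * (x * w * x⁻¹) * w⁻¹ := h4
        _ = x * v * x⁻¹ * v⁻¹ * (x * w * x⁻¹) * w⁻¹ := by rw [h5]
        _ = _ := by group
    rw [h3] at h2
    exact (Subgroup.mul_mem_cancel_left _ h1).1 h2
  have hwF : w ∈ F := by
    refine H.hfix w hw (fun q hq => key q (le_cl Q Y hq) ?_) (key h H.hK ?_)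
    · have h1 : q * v = v * q := (mem_centralizer_iff.1 (H.QL hq) v hvL).symm
      rw [h1, mul_inv_cancel_right, mul_inv_cancel]
      exact one_mem _
    · rw [H.hX v hv, mul_inv_cancel_right, mul_inv_cancel]
      exact one_mem _
  have h2 := hx k hk
  have hwx : k * w * k⁻¹ ∈ F := (mem_normalizer_iff.1 (H.YF (hY hk)) w).1 hwF
  have h5 := H.Aab _ (inv_mem hvA) _ (hkA k hk)
  have e : (v * w)⁻¹ * k * (v * w) * k⁻¹ = w⁻¹ * (k * v * k⁻¹ * v⁻¹) * (k * w * k⁻¹) := by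
    calc (v * w)⁻¹ * k * (v * w) * k⁻¹ = w⁻¹ * (v⁻¹ * (k * v * k⁻¹)) * (k * w * k⁻¹) := by group
      _ = _ := by rw [h5]
  rw [e] at h2
  have h3 := (Subgroup.mul_mem_cancel_right _ hwx).1 h2
  exact (Subgroup.mul_mem_cancel_left _ (inv_mem hwF)).1 h3

/-- **Split: `⟨Q^Y⟩` centralises `X`.** -/
theorem cent (hF : F = ⊥) : cl Q Y ≤ centralizer (X : Set G) := by
  intro k hk
  rw [mem_centralizer_iff]
  intro v hv
  have h1 := H.comm_F hk hv
  rw [hF, mem_bot] at h1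
  have h2 : k * v * k⁻¹ * v⁻¹ * (v * k) = k * v := by group
  rw [h1, one_mul] at h2
  exact h2

/-- `Y = ⟨Q^Y⟩ B` ==> `O²(Y) ≤ ⟨Q^Y⟩` -/
theorem odd_le (hYB : Y ≤ cl Q Y ⊔ B) : oddGen Y ≤ cl Q Y :=
  Cfsg.Agent.MinSimple.VModule.oddGen_le_of_sup (le_normalizer_cl Q Y) hYB H.syl.1 H.cl_Y H.syl.2.1

/-- **`O²(Y)` centralises `X`** (nonsplit blocks included). -/
theorem cent_odd (hYB : Y ≤ cl Q Y ⊔ B) (hF : oddGen Y ≤ centralizer (F : Set G)) :
    oddGen Y ≤ centralizer (X : Set G) := by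
  rw [Cfsg.Agent.MinSimple.VModule.oddGen_def, closure_le]
  rintro k ⟨hk, ho⟩
  have hk' : k ∈ oddGen Y := mem_oddGen hk ho
  change k ∈ centralizer (X : Set G)
  rw [mem_centralizer_iff]
  intro v hv
  have h1 := H.comm_F (H.odd_le hYB hk') hv
  set f := k * v * k⁻¹ * v⁻¹ with hf
  have hkf : k * f = f * k := (mem_centralizer_iff.1 (hF hk') f h1).symm
  have hff : f * f = 1 := H.Asq f (H.WA (H.FW h1))
  have e0 : k * v * k⁻¹ = f * v := by rw [hf]; group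
  have key : ∀ n : ℕ, k ^ n * v * (k ^ n)⁻¹ = f ^ n * v := by
    intro n
    induction n with
    | zero => simp
    | succ n ih =>
      have hkn : k * f ^ n = f ^ n * k := (Commute.pow_right (show Commute k f from hkf) n)
      calc k ^ (n + 1) * v * (k ^ (n + 1))⁻¹ = k * (k ^ n * v * (k ^ n)⁻¹) * k⁻¹ := by rw [pow_succ']; group
        _ = k * f ^ n * v * k⁻¹ := by rw [ih]; group
        _ = f ^ n * (k * v * k⁻¹) := by rw [hkn]; group
        _ = _ := by rw [e0, ← mul_assoc, ← pow_succ]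
  have h2 := key (orderOf k)
  rw [pow_orderOf_eq_one] at h2
  obtain ⟨m, hm⟩ := ho
  have h3 : f ^ orderOf k = f := by
    rw [hm, pow_succ, pow_mul, pow_two, hff, one_pow, one_mul]
  rw [h3] at h2
  have h4 : f = 1 := by
    have e : (1 : G) * v * 1⁻¹ = v := by group
    rw [e] at h2
    calc f = f * v * v⁻¹ := by group
      _ = v * v⁻¹ := by rw [← h2]
      _ = 1 := by group
  rw [h4, one_mul] at e0
  calc v * k = k * v * k⁻¹ * k := by rw [e0]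
    _ = k * v := by group

end One

end Cfsg.Agent.Omega.NO3S.WY.Tor

end

-- merged: Cfsg.Agent.Mrg.Omega.NO3S.WY.Tor.TYOf
section

section


/-!
# THEOREM TOR: `TY` from coordinates (`Co.lean`)

* `Co.VW` : `V j ≤ W = ⟨z_j^Y⟩`; `Co.line'` : `{w ∈ W | e w 1 = 0} = V j F`, `F = W ∩ C_U(O²(Y))`;
* `Co.cent_V` : `C_B(V j) ≤ Q O₂(Y)`; `Co.F_le` : `F ≤ Λ_j`;
* `Co.cWQ`, `Co.quad`, `Co.free`.
-/

set_option autoImplicit false
set_option linter.unusedSectionVars false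
set_option linter.dupNamespace false

namespace Cfsg.Agent.Omega.NO3S.WY.Tor

open Subgroup Cfsg Cfsg.Agent.ZN Cfsg.Agent.ZN.ChoiceBase
open Cfsg.Agent.ZN.ChoiceSit (Syl exists_syl syl_conj syl_not_dvd)
open Cfsg.Agent.MinSimple.MinParabolic (IsMinPar)
open Cfsg.Agent.MinSimple.VModule (oddGen oddGen_le mem_oddGen)
open Cfsg.Agent.Omega.FFThm (OffM ElemM NatK NatKM ActsSL)
open Cfsg.Agent.Omega.FrameFF (cv)
open Cfsg.Agent.Omega.NO3b.EZero (cl cj_le_cl le_cl cl_le le_normalizer_cl cent_symm cj_cent)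
open Cfsg.Agent.Omega.NO3b.K0 (conj_mem' cj_of_le cj_self min_or)
open Cfsg.Agent.Omega.SQ1.Bau (mem_sup_comm card_sup_comm mem_sup_norm)
open Cfsg.Agent.Omega.NatPair (ap ap_zero' ap_one' ap_one ap_mul ap_add ext2 ap_inv_ap ap_inj)
open Cfsg.Agent.Lib.SL2Mat

universe u

variable {G : Type u} [Group G] {ι : Type}

namespace Co

variable [Finite G] {F : Type} [Field F] {S B Q M X L : Subgroup G} {V : ι → Subgroup G} {z : ι → G}
  {𝓦 : Set (Subgroup G)} {j : ι} {Y : Subgroup G} (o : Co F S B Q M X L V z 𝓦 j Y)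

/-- `F = C_W(O²(Y))` -/
def F0 (o : Co F S B Q M X L V z 𝓦 j Y) : Subgroup G := o.Wj ⊓ cv B Y

/-- an element of `N(Q)` which fixes `z i` normalises `V i` -/
theorem fix_V (o : Co F S B Q M X L V z 𝓦 j Y) {g : G} (hg : g ∈ normalizer (Q : Set G)) {i : ι}
    (h : g * z i * g⁻¹ = z i) : cj g (V i) = V i := by
  obtain ⟨m, hm⟩ := o.cx.perm g hg i
  have h1 : z i ∈ V m := by
    rw [← hm, ← h]
    exact ⟨z i, o.cx.zV i, rfl⟩
  by_cases hmi : m = i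
  · rw [hm, hmi]
  · exfalso
    have h2 : z i ∈ V i ⊓ VV V i := ⟨o.cx.zV i, le_trans (le_iSup (fun _ : m ≠ i => V m) hmi)
      (le_iSup (fun m => ⨆ (_ : m ≠ i), V m) m) h1⟩
    rw [o.cx.ind i, mem_bot] at h2
    exact o.cx.z1 i h2

/-- an element of `Y ∩ N(Q)` normalises every `V i` -/
theorem norm_V (o : Co F S B Q M X L V z 𝓦 j Y) {g : G} (hY : g ∈ Y) (hg : g ∈ normalizer (Q : Set G)) (i : ι) :
    cj g (V i) = V i := by
  by_cases hi : i = j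
  · subst hi
    obtain ⟨m, hm⟩ := o.cx.perm g hg i
    by_cases hmi : m = i
    · rw [hm, hmi]
    · exfalso
      have h1 : cj g (V m) = V m := o.fix_V hg (by rw [o.cen g hY m hmi]; group)
      have h2 : V i = V m := by
        have h3 := congrArg (cj g⁻¹) (hm.trans h1.symm)
        rwa [cj_inv_cj, cj_inv_cj] at h3
      have h4 : z i ∈ V i ⊓ VV V i := ⟨o.cx.zV i, le_trans (le_iSup (fun _ : m ≠ i => V m) hmi)
        (le_iSup (fun m => ⨆ (_ : m ≠ i), V m) m) (h2 ▸ o.cx.zV i)⟩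
      rw [o.cx.ind i, mem_bot] at h4
      exact o.cx.z1 i h4
  · exact o.fix_V hg (by rw [o.cen g hY i hi]; group)

theorem VjU (o : Co F S B Q M X L V z 𝓦 j Y) {v : G} (hv : v ∈ V j) (hU : v ∈ zl B Y) : o.e v 1 = 0 :=
  (o.line v hU).2 (mem_sup_left hv)

/-- **`V j ≤ W`** -/
theorem VW [Finite F] [CharP F 2] (o : Co F S B Q M X L V z 𝓦 j Y) : V j ≤ o.Wj := by
  obtain ⟨d, hdY, hdQ, -, a, ha0, ha1, hd⟩ := o.exists_d
  have hdV : cj d (V j) = V j := o.norm_V hdY hdQ j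
  have hz' : d * z j * d⁻¹ ∈ V j := by
    rw [← hdV]
    exact ⟨z j, o.cx.zV j, rfl⟩
  have hzW := o.z_W
  have hz'W : d * z j * d⁻¹ ∈ o.Wj := conj_mem' o.YW hdY hzW
  have he1 : o.e (z j) 1 = 0 := o.VjU (o.cx.zV j) (o.z_U j)
  have he0 : o.e (z j) 0 ≠ 0 := fun h => o.z_cv ((o.e_ker (o.z_U j)).1 (ext2 h he1))
  have hne : d * z j * d⁻¹ ≠ z j := by
    intro h
    have h1 := congrFun (hd (z j) (o.z_U j)) 0
    rw [h] at h1
    have h2 : (a - 1) * o.e (z j) 0 = 0 := by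
      rw [sub_mul, one_mul, sub_eq_zero]
      exact h1.symm
    rcases mul_eq_zero.1 h2 with h3 | h3
    · exact ha1 (sub_eq_zero.1 h3)
    · exact he0 h3
  have hne1 : d * z j * d⁻¹ ≠ 1 := fun h => o.cx.z1 j (conj_eq_one_iff.1 h)
  -- the order of `V j ∩ W`
  set K : Subgroup G := V j ⊓ o.Wj with hK
  have h3 : 3 ≤ Nat.card K := by
    classical
    let f : Fin 3 → K := ![1, ⟨z j, o.cx.zV j, hzW⟩, ⟨d * z j * d⁻¹, hz', hz'W⟩]
    have hf : Function.Injective f := by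
      intro x y hxy
      have hz1 := o.cx.z1 j
      fin_cases x <;> fin_cases y <;> simp [f, Subtype.ext_iff] at hxy ⊢
      · exact absurd hxy.symm hz1
      · exact absurd hxy.symm hne1
      · exact absurd hxy hz1
      · exact absurd hxy.symm hne
      · exact absurd hxy hz1
      · exact absurd hxy hne
    have := Nat.card_le_card_of_injective f hf
    simpa using this
  have h4 : Nat.card K ∣ 4 := by
    rw [← o.cx.cV j]
    exact Subgroup.card_dvd_of_le inf_le_left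
  have h5 : Nat.card K = 4 := by
    have h6 : Nat.card K ≤ 4 := Nat.le_of_dvd (by norm_num) h4
    interval_cases h : Nat.card K
    · omega
    · rfl
  have h6 : K = V j := Subgroup.eq_of_le_of_card_ge inf_le_left (by rw [h5, o.cx.cV])
  rw [← h6]
  exact inf_le_right

/-- `{w ∈ W | e w 1 = 0} = V j F` -/
theorem line' [Finite F] [CharP F 2] (o : Co F S B Q M X L V z 𝓦 j Y) {w : G} (hw : w ∈ o.Wj) :
    o.e w 1 = 0 ↔ w ∈ V j ⊔ o.F0 := by
  have hVW := o.VW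
  constructor
  · intro h
    have h1 : w ∈ V j ⊔ cv B Y := (o.line w (o.W_le hw)).1 h
    obtain ⟨v, hv, d, hd, rfl⟩ := mem_sup_comm
      (fun v hv d hd => o.U_comm v (o.W_le (hVW hv)) d (o.cv_le hd)) h1
    refine mul_mem (mem_sup_left hv) (mem_sup_right ⟨?_, hd⟩)
    have h2 := mul_mem (inv_mem (hVW hv)) hw
    rwa [inv_mul_cancel_left] at h2
  · intro h
    exact (o.line w (o.W_le hw)).2 ((sup_le_sup_left inf_le_right (V j) : V j ⊔ o.F0 ≤ _) h)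

theorem exists_q [Finite F] (o : Co F S B Q M X L V z 𝓦 j Y) : ∃ q ∈ Q, o.bb q = 1 := o.full 1

theorem cWQ [Finite F] [CharP F 2] (o : Co F S B Q M X L V z 𝓦 j Y) {w : G} (hw : w ∈ o.Wj)
    (h : ∀ q ∈ Q, q * w = w * q) : w ∈ V j ⊔ o.F0 := by
  rw [← o.line' hw]
  obtain ⟨q, hq, hb⟩ := o.exists_q
  have h1 := o.e_comm (o.QY hq) (o.bb_spec hq) (o.W_le hw)
  have h2 : q * w * q⁻¹ * w⁻¹ = 1 := by rw [h q hq]; group
  rw [h2, o.e_one, hb] at h1
  have h3 := congrFun h1 0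
  simpa using h3.symm

theorem quad [Finite F] [CharP F 2] (o : Co F S B Q M X L V z 𝓦 j Y) {q w : G} (hq : q ∈ Q) (hw : w ∈ o.Wj) :
    q * w * q⁻¹ * w⁻¹ ∈ V j ⊔ o.F0 := by
  rw [← o.line' (mul_mem (conj_mem' o.YW (o.QY hq) hw) (inv_mem hw)),
    o.e_comm (o.QY hq) (o.bb_spec hq) (o.W_le hw)]
  simp

theorem free [Finite F] [CharP F 2] (o : Co F S B Q M X L V z 𝓦 j Y) {q w : G} (hq : q ∈ Q) (hw : w ∈ o.Wj)
    (hn : w ∉ V j ⊔ o.F0) (h : q * w * q⁻¹ * w⁻¹ ∈ o.F0) {u : G} (hu : u ∈ o.Wj) : q * u = u * q := by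
  have h1 := o.e_comm (o.QY hq) (o.bb_spec hq) (o.W_le hw)
  have h2 : o.e (q * w * q⁻¹ * w⁻¹) = 0 := (o.e_ker (mul_mem (o.Un (o.QY hq) (o.W_le hw)) (inv_mem (o.W_le hw)))).2 h.2
  rw [h2] at h1
  have h3 := congrFun h1 0
  have h4 : o.bb q * o.e w 1 = 0 := by simpa using h3.symm
  rcases mul_eq_zero.1 h4 with h5 | h5
  · exact o.o2_cent ((o.bb_ker hq).1 h5) (o.W_le hu)
  · exact absurd ((o.line' hw).1 h5) hn

/-! ### `C_B(V j) ≤ Q O₂(Y)` -/

/-- **`C_B(V j) ≤ Q O₂(Y)`** -/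
theorem cent_V [Finite F] [CharP F 2] (o : Co F S B Q M X L V z 𝓦 j Y) {b : G} (hb : b ∈ B)
    (h : ∀ v ∈ V j, b * v = v * b) : b ∈ Q ⊔ o2 Y := by
  classical
  have hbY := o.BY hb
  choose s hs hse using o.e_surj
  let φ : (Fin 2 → F) → Fin 2 → F := fun x => o.e (b * s x * b⁻¹)
  have key : ∀ v ∈ zl B Y, φ (o.e v) = o.e (b * v * b⁻¹) := by
    intro v hv
    have h1 : s (o.e v) * v⁻¹ ∈ cv B Y := by
      rw [← o.e_ker (mul_mem (hs _) (inv_mem hv)), o.e_div (hs _) hv, hse, sub_self]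
    have h2 : b * (s (o.e v) * v⁻¹) * b⁻¹ ∈ cv B Y := conj_mem' o.Dn hbY h1
    have e1 : b * (s (o.e v) * v⁻¹) * b⁻¹ = (b * s (o.e v) * b⁻¹) * (b * v * b⁻¹)⁻¹ := by group
    rw [e1, ← o.e_ker (mul_mem (o.Un hbY (hs _)) (inv_mem (o.Un hbY hv))), o.e_div (o.Un hbY (hs _)) (o.Un hbY hv),
      sub_eq_zero] at h2
    exact h2
  obtain ⟨β, hβ⟩ := CaseLQ.exists_up_of_fix φ (fun x y => by
      obtain ⟨v, hv, rfl⟩ := o.e_surj x
      obtain ⟨w, hw, rfl⟩ := o.e_surj y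
      rw [← o.e_mul hv hw, key _ (mul_mem hv hw), key v hv, key w hw, ← o.e_mul (o.Un hbY hv) (o.Un hbY hw)]
      congr 1
      group)
    (fun x => by
      obtain ⟨v, hv, he⟩ := o.e_surj ![x, 0]
      rw [← he, key v hv]
      have h1 : v ∈ V j ⊔ cv B Y := (o.line v hv).1 (by
        change o.e v 1 = 0
        rw [he]; simp)
      obtain ⟨v', hv', d, hd, rfl⟩ := mem_sup_comm
        (fun v hv d hd => o.U_comm v (o.W_le (o.VW hv)) d (o.cv_le hd)) h1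
      have hv'U := o.W_le (o.VW hv')
      have e1 : b * (v' * d) * b⁻¹ = v' * (b * d * b⁻¹) := by
        calc b * (v' * d) * b⁻¹ = (b * v') * d * b⁻¹ := by group
          _ = v' * b * d * b⁻¹ := by rw [h v' hv']
          _ = _ := by group
      rw [e1, o.e_mul hv'U (o.Un hbY (o.cv_le hd)), o.e_mul hv'U (o.cv_le hd),
        (o.e_ker (o.Un hbY (o.cv_le hd))).2 (conj_mem' o.Dn hbY hd), (o.e_ker (o.cv_le hd)).2 hd])
    (fun A => by
      obtain ⟨g, hg, hgA⟩ := o.e_lift A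
      obtain ⟨A', hA'⟩ := o.e_norm hbY hg hgA
      refine ⟨A', fun x => ?_⟩
      obtain ⟨v, hv, rfl⟩ := o.e_surj x
      rw [← hgA v hv, key _ (o.Un hg hv), key v hv, ← hA' _ (o.Un hbY hv)]
      congr 1
      group)
    (by
      obtain ⟨n, hn⟩ := o.B2 ⟨b, hb⟩
      have hn' : b ^ 2 ^ n = 1 := by simpa using congrArg Subtype.val hn
      refine ⟨n, fun x => ?_⟩
      have h1 : ∀ m : ℕ, ∀ v ∈ zl B Y, φ^[m] (o.e v) = o.e (b ^ m * v * (b ^ m)⁻¹) := by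
        intro m
        induction m with
        | zero => intro v hv; simp
        | succ m ih =>
          intro v hv
          rw [Function.iterate_succ_apply', ih v hv, key _ (o.Un (pow_mem hbY m) hv)]
          congr 1
          rw [pow_succ']; group
      obtain ⟨v, hv, rfl⟩ := o.e_surj x
      rw [h1 _ v hv, hn']
      congr 1
      group)
  obtain ⟨q, hq, hqb⟩ := o.full β
  have h1 : q⁻¹ * b ∈ o2 Y := by
    refine o.B_Kr ⟨B.mul_mem (B.inv_mem (o.cx.QB hq)) hb, o.mem_Kr.2 ⟨mul_mem (inv_mem (o.QY hq)) hbY, fun v hv => ?_⟩⟩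
    have hqY := inv_mem (o.QY hq)
    have hw : q⁻¹ * (b * v * b⁻¹) * q ∈ zl B Y := by
      have := o.Un hqY (o.Un hbY hv)
      rwa [inv_inv] at this
    have e1 : q⁻¹ * b * v * (q⁻¹ * b)⁻¹ = q⁻¹ * (b * v * b⁻¹) * q := by group
    have h2 := o.bb_spec hq _ hw
    have e2 : q * (q⁻¹ * (b * v * b⁻¹) * q) * q⁻¹ = b * v * b⁻¹ := by group
    rw [e2, ← key v hv, hβ, hqb] at h2
    rw [e1]
    have h3 := congrArg (ap (up β)⁻¹) h2
    rw [ap_inv_ap, ap_inv_ap] at h3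
    exact h3.symm
  have h2 : b = q * (q⁻¹ * b) := by group
  rw [h2]
  exact mul_mem (mem_sup_left hq) (mem_sup_right h1)

/-! ### `F ≤ Λ_j` -/

theorem z_sq (o : Co F S B Q M X L V z 𝓦 j Y) (i : ι) : z i * z i = 1 := o.cx.Xs _ (o.cx.zX i)

theorem mem_zp (o : Co F S B Q M X L V z 𝓦 j Y) {x : G} (h : x ∈ zpowers (z j)) : x = 1 ∨ x = z j := by
  obtain ⟨n, rfl⟩ := mem_zpowers_iff.1 h
  rcases Int.even_or_odd' n with ⟨m, rfl | rfl⟩
  · left
    rw [zpow_mul, zpow_two, o.z_sq j, one_zpow]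
  · right
    rw [zpow_add, zpow_mul, zpow_two, o.z_sq j, one_zpow, one_mul, zpow_one]

theorem card_zp (o : Co F S B Q M X L V z 𝓦 j Y) : Nat.card (zpowers (z j)) = 2 := by
  rw [Nat.card_zpowers]
  exact orderOf_eq_prime (by rw [pow_two]; exact o.z_sq j) (o.cx.z1 j)

theorem idx_zp (o : Co F S B Q M X L V z 𝓦 j Y) : ((zpowers (z j)).subgroupOf (V j)).index = 2 := by
  have h0 : zpowers (z j) ≤ V j := (zpowers_le).2 (o.cx.zV j)
  have h1 := ((zpowers (z j)).subgroupOf (V j)).index_mul_card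
  rw [Nat.card_congr (Subgroup.subgroupOfEquivOfLe h0).toEquiv, o.card_zp, o.cx.cV] at h1
  omega

/-- two elements of `V j` outside `⟨z_j⟩` differ by an element of `⟨z_j⟩` -/
theorem mul_zp (o : Co F S B Q M X L V z 𝓦 j Y) {v w : G} (hv : v ∈ V j) (hw : w ∈ V j)
    (hv' : v ∉ zpowers (z j)) (hw' : w ∉ zpowers (z j)) : v * w⁻¹ ∈ zpowers (z j) := by
  have h6 := Subgroup.mul_mem_iff_of_index_two o.idx_zp (a := ⟨v, hv⟩) (b := ⟨w⁻¹, inv_mem hw⟩)
  have h7 : (⟨v, hv⟩ * ⟨w⁻¹, inv_mem hw⟩ : V j) ∈ (zpowers (z j)).subgroupOf (V j) := by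
    rw [h6, mem_subgroupOf, mem_subgroupOf]
    exact ⟨fun h8 => absurd h8 hv', fun h8 => absurd ((inv_mem_iff).1 h8) hw'⟩
  exact mem_subgroupOf.1 h7

/-- `[B, V j] ≤ ⟨z_j⟩` -/
theorem comm_zp (o : Co F S B Q M X L V z 𝓦 j Y) {b v : G} (hb : b ∈ B) (hv : v ∈ V j) :
    b * v * b⁻¹ * v⁻¹ = 1 ∨ b * v * b⁻¹ * v⁻¹ = z j := by
  apply o.mem_zp
  have hbv : b * v * b⁻¹ ∈ V j := conj_mem' (o.cx.BV j) hb hv
  have hbz : ∀ x ∈ zpowers (z j), b * x * b⁻¹ = x := fun x hx => by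
    rcases o.mem_zp hx with rfl | rfl
    · group
    · rw [o.cx.Bz b hb j]; group
  by_cases h : v ∈ zpowers (z j)
  · rw [hbz v h, mul_inv_cancel]
    exact one_mem _
  · refine o.mul_zp hbv hv (fun h2 => h ?_) h
    have h3 : b⁻¹ ∈ B := inv_mem hb
    have h4 : b⁻¹ * (b * v * b⁻¹) * b⁻¹⁻¹ = b * v * b⁻¹ := by
      rcases o.mem_zp h2 with h5 | h5
      · rw [h5]; group
      · rw [h5, o.cx.Bz _ h3 j]; group
    have h5 : b⁻¹ * (b * v * b⁻¹) * b⁻¹⁻¹ = v := by group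
    rw [← h5, h4]
    exact h2

theorem z_comm_v (o : Co F S B Q M X L V z 𝓦 j Y) {v : G} (hv : v ∈ V j) : z j * v = v * z j :=
  o.cx.xc (o.cx.zX j) (o.cx.VX j hv)

/-- **`F ≤ Λ_j`** -/
theorem F_le [Finite F] [CharP F 2] (o : Co F S B Q M X L V z 𝓦 j Y) : o.F0 ≤ Lam z j := by
  rintro f ⟨hfW, hfc⟩
  have hQ : ∀ q ∈ Q, q * f = f * q := fun q hq => by
    obtain ⟨b, -, h⟩ := o.up_of hq
    exact h f hfc
  have hfX : f ∈ X := o.W_X hfW
  have hfL : f ∈ L := o.cx.cXQ f hfX hQ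
  obtain ⟨t, htB, htC, v₀, hv₀, hne⟩ := o.cx.t j
  have hV' : VV V j ≤ centralizer ({t} : Set G) := iSup_le fun i => iSup_le fun hi v hv => by
    rw [mem_centralizer_iff]
    rintro x rfl
    exact htC i hi v hv
  -- `t` centralises `f`
  have ht : t * f = f * t := by
    obtain ⟨v, hv, v', hv', e⟩ := o.cx.split j hfL
    have h1 : t * v' = v' * t := mem_centralizer_iff.1 (hV' hv') t rfl
    have h2 : t * f * t⁻¹ * f⁻¹ = t * v * t⁻¹ * v⁻¹ := by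
      rw [e]
      calc t * (v * v') * t⁻¹ * (v * v')⁻¹ = t * v * (v' * t⁻¹) * v'⁻¹ * v⁻¹ := by group
        _ = t * v * (t⁻¹ * v') * v'⁻¹ * v⁻¹ := by
            have h3 : v' * t⁻¹ = t⁻¹ * v' := by
              calc v' * t⁻¹ = t⁻¹ * (t * v') * t⁻¹ := by group
                _ = t⁻¹ * (v' * t) * t⁻¹ := by rw [h1]
                _ = t⁻¹ * v' := by group
            rw [h3]
        _ = _ := by group
    rcases o.comm_zp htB hv with h3 | h3
    · rw [h3] at h2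
      exact comm_iff.1 h2
    · exfalso
      rw [h3] at h2
      apply o.z_cv
      rw [← h2]
      exact (cv B Y).mul_mem (conj_mem' o.Dn (o.BY htB) hfc) ((cv B Y).inv_mem hfc)
  -- `Q O₂(Y)` centralises `f`
  have hR : Q ⊔ o2 Y ≤ centralizer ({f} : Set G) := by
    refine sup_le (fun q hq => ?_) (fun q hq => ?_)
    · rw [mem_centralizer_iff]
      rintro x rfl
      exact (hQ q hq).symm
    · rw [mem_centralizer_iff]
      rintro x rfl
      exact (o.o2_cent hq (o.W_le hfW)).symm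
  have hR' : ∀ r ∈ Q ⊔ o2 Y, r * f = f * r := fun r hr => (mem_centralizer_iff.1 (hR hr) f rfl).symm
  -- an element of `B` which fixes `v₀` centralises `V j`
  have hv₀z : v₀ ∉ zpowers (z j) := by
    intro h
    rcases o.mem_zp h with h1 | h1
    · apply hne; rw [h1]; group
    · apply hne; rw [h1, o.cx.Bz t htB j]
  have hfix : ∀ b ∈ B, b * v₀ = v₀ * b → ∀ v ∈ V j, b * v = v * b := by
    intro b hb h v hv
    have hz := o.cx.Bz b hb j
    have hzp : ∀ x ∈ zpowers (z j), b * x = x * b := fun x hx => by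
      rcases o.mem_zp hx with rfl | rfl
      · group
      · exact hz
    by_cases h1 : v ∈ zpowers (z j)
    · exact hzp v h1
    · have h2 := hzp _ (o.mul_zp hv hv₀ h1 hv₀z)
      have e : v = v * v₀⁻¹ * v₀ := by group
      rw [e, ← mul_assoc, h2, mul_assoc, h]
      group
  -- `B` centralises `f`
  have hBf : ∀ b ∈ B, b * f = f * b := by
    intro b hb
    rcases o.comm_zp hb hv₀ with h1 | h1
    · exact hR' b (o.cent_V hb (hfix b hb (comm_iff.1 h1)))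
    · rcases o.comm_zp htB hv₀ with h2 | h2
      · exact absurd (comm_iff.1 h2) hne
      · have htb : t⁻¹ * b ∈ B := B.mul_mem (B.inv_mem htB) hb
        have e1 : b * v₀ * b⁻¹ = z j * v₀ := by rw [← h1]; group
        have e2 : t * v₀ * t⁻¹ = z j * v₀ := by rw [← h2]; group
        have e3 : t⁻¹ * b * v₀ * (t⁻¹ * b)⁻¹ * v₀⁻¹ = 1 := by
          have e4 : t⁻¹ * b * v₀ * (t⁻¹ * b)⁻¹ = t⁻¹ * (b * v₀ * b⁻¹) * t := by group
          have e5 : t⁻¹ * (t * v₀ * t⁻¹) * t = v₀ := by group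
          rw [e4, e1, ← e2, e5, mul_inv_cancel]
        have h3 := hR' _ (o.cent_V htb (hfix _ htb (comm_iff.1 e3)))
        have e6 : b = t * (t⁻¹ * b) := by group
        rw [e6, mul_assoc, h3, ← mul_assoc, ht, mul_assoc]
  have hfB : f ∈ B := o.o2_B (o.nc.VQ (o.W_le hfW))
  have hfz : f ∈ zc B := ChoiceBase.mem_zc.2 ⟨hfB, o.U_sq f (o.W_le hfW), hBf⟩
  have hsup : zc B ≤ zpowers (z j) ⊔ Lam z j := o.zc_le_sup (mem_sup_left (mem_zpowers _)) le_sup_right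
  obtain ⟨a, ha, l, hl, rfl⟩ := mem_sup_comm (fun a ha l hl => o.U_comm a
    ((zpowers_le.2 (o.z_U j)) ha) l (o.cv_le (o.Lam_cv hl))) (hsup hfz)
  rcases o.mem_zp ha with rfl | rfl
  · rw [one_mul]; exact hl
  · exfalso
    apply o.z_cv
    have h1 := (cv B Y).mul_mem hfc ((cv B Y).inv_mem (o.Lam_cv hl))
    rwa [mul_inv_cancel_right] at h1

/-- **`TY` from coordinates**, without `act` -/
theorem ty [Finite F] [CharP F 2] (o : Co F S B Q M X L V z 𝓦 j Y)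
    (hact : ∃ (ℓ : Fin 5 → Subgroup G) (π : ↥Y →* Equiv.Perm (Fin 5)), ℓ 0 = V j ⊔ o.F0 ∧ (∀ a, ℓ a ≤ o.Wj) ∧
      (∀ a b, a ≠ b → ℓ a ⊓ ℓ b = o.F0) ∧ (∀ (y : Y) a, cj (y : G) (ℓ a) = ℓ (π y a)) ∧
      alternatingGroup (Fin 5) ≤ π.range ∧ ∀ y : Y, π y = 1 → ∀ w ∈ o.Wj, (y : G) * w * (y : G)⁻¹ * w⁻¹ ∈ o.F0) :
    TY S B Q M X V z 𝓦 j Y o.Wj o.F0 where
  min := o.min
  YM := o.YM
  Yz := o.cen
  WX := o.W_X
  YW := o.YW
  gen := fun _ h1 h2 => o.gen h1 h2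
  VW := o.VW
  FW := inf_le_left
  FL := o.F_le
  cW := o.cardW
  cWQ := fun _ hw h => o.cWQ hw h
  quad := fun _ hq _ hw => o.quad hq hw
  free := fun _ hq _ hw hn h _ hu => o.free hq hw hn h hu
  cardQ := o.cardQ
  act := hact
  mv := by
    obtain ⟨A, hA, hAS, hAQ, hAY⟩ := o.act
    refine ⟨A, hA, hAS, fun h => hAY fun a ha => ?_⟩
    exact (o.o2W (o.cx.QB (hAQ ha))).2 fun w hw => (mem_centralizer_iff.1 (h ha) w hw).symm

end Co

end Cfsg.Agent.Omega.NO3S.WY.Tor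

end

section


/-!
# THEOREM TOR (bb OMEGA #25011, helper474): part (4); (4+) of #25169 (helper491)

`A` elementary abelian, normalised by `Y = Y_j`; `Ker0 Y Q A` = conclusion of (0), the odd kernel lemma, for the
sections of `A`; `O = O₂(Y)`.

* `norm_W`, `comm_W` : `V = V_i ≤ W = W_i ≤ A`, `|W/V| = 4`, `V` normalised by `Y`, `W` by `N_Y(Q)`, `O` moves `W/V`:
  then `Y` normalises `W` (this is (4+));
* `cent_W` : if moreover `O²(Y)` centralises `V`, it centralises `W`;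
* `four` : (4) as printed: if only `W_i L` is normalised by `N_Y(Q)`, then `Y` normalises `W_i W_j L`, and
  `C_A(Π) = W_j L`.
-/

set_option autoImplicit false
set_option linter.unusedSectionVars false

namespace Cfsg.Agent.Omega.NO3S.WY.Tor.Four

open Subgroup
open Cfsg.Agent.MinSimple.VModule (oddGen oddGen_def)
open scoped commutatorElement

variable {G : Type*} [Group G]

/-- **(0)** as an input: `Y` fixes, in every section `⟨v^Y⟩ N₁ / N₁` of `A`, every vector `v` fixed by `N_Y(Q)`. -/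
def Ker0 (Y Q A : Subgroup G) : Prop :=
  ∀ N₁ : Subgroup G, N₁ ≤ A → Y ≤ normalizer (N₁ : Set G) → ∀ v ∈ A,
    (∀ g ∈ Y, g ∈ normalizer (Q : Set G) → ⁅g, v⁆ ∈ N₁) → ∀ y ∈ Y, ⁅y, v⁆ ∈ N₁

theorem le_norm_of_comm {Y W : Subgroup G} (h : ∀ y ∈ Y, ∀ w ∈ W, ⁅y, w⁆ ∈ W) : Y ≤ normalizer (W : Set G) := by
  have key : ∀ y ∈ Y, ∀ w ∈ W, y * w * y⁻¹ ∈ W := fun y hy w hw => by
    have h1 := mul_mem (h y hy w hw) hw
    rwa [commutatorElement_def, inv_mul_cancel_right] at h1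
  intro y hy
  rw [mem_normalizer_iff]
  refine fun w => ⟨key y hy w, fun hw => ?_⟩
  have h1 := key y⁻¹ (inv_mem hy) _ hw
  have e : y⁻¹ * (y * w * y⁻¹) * y⁻¹⁻¹ = w := by group
  rwa [e] at h1

theorem comm_of_mem_norm {g w : G} {W : Subgroup G} (hg : g ∈ normalizer (W : Set G)) (hw : w ∈ W) : ⁅g, w⁆ ∈ W := by
  rw [commutatorElement_def]
  exact mul_mem ((mem_normalizer_iff.1 hg w).1 hw) (inv_mem hw)

/-- `g` acts trivially on a section of order 2. -/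
theorem comm_mem_of_two {g : G} {W W₀ : Subgroup G} (_h0 : W₀ ≤ W) (h2 : W₀.relIndex W = 2)
    (hg : g ∈ normalizer (W : Set G)) (hg0 : g ∈ normalizer (W₀ : Set G)) {w : G} (hw : w ∈ W) : ⁅g, w⁆ ∈ W₀ := by
  by_cases h : w ∈ W₀
  · exact comm_of_mem_norm hg0 h
  · have h1 : g * w * g⁻¹ ∈ W := (mem_normalizer_iff.1 hg w).1 hw
    have h3 : g * w * g⁻¹ ∉ W₀ := fun h4 => h ((mem_normalizer_iff.1 hg0 w).2 h4)
    have h5 : (W₀.subgroupOf W).index = 2 := h2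
    have h6 := Subgroup.mul_mem_iff_of_index_two h5 (a := ⟨_, h1⟩) (b := ⟨w⁻¹, inv_mem hw⟩)
    have h7 : (⟨_, h1⟩ * ⟨w⁻¹, inv_mem hw⟩ : W) ∈ W₀.subgroupOf W := by
      rw [h6, mem_subgroupOf, mem_subgroupOf]
      exact ⟨fun h8 => absurd h8 h3, fun h8 => absurd ((inv_mem_iff).1 h8) h⟩
    exact mem_subgroupOf.1 h7

/-- `{w ∈ W | [w, O] ⊆ V}` -/
def Fx (O V W : Subgroup G) (h : ∀ x ∈ V, ∀ w ∈ W, w * x * w⁻¹ ∈ V) : Subgroup G where
  carrier := {w | w ∈ W ∧ ∀ o ∈ O, ⁅o, w⁆ ∈ V}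
  one_mem' := ⟨one_mem _, fun o _ => by simp⟩
  mul_mem' := by
    rintro a b ⟨ha, ha'⟩ ⟨hb, hb'⟩
    refine ⟨mul_mem ha hb, fun o ho => ?_⟩
    have e : ⁅o, a * b⁆ = ⁅o, a⁆ * (a * ⁅o, b⁆ * a⁻¹) := by
      simp only [commutatorElement_def]; group
    rw [e]
    exact mul_mem (ha' o ho) (h _ (hb' o ho) _ ha)
  inv_mem' := by
    rintro a ⟨ha, ha'⟩
    refine ⟨inv_mem ha, fun o ho => ?_⟩
    have e : ⁅o, a⁻¹⁆ = a⁻¹ * ⁅o, a⁆⁻¹ * a⁻¹⁻¹ := by
      simp only [commutatorElement_def]; group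
    rw [e]
    exact h _ (inv_mem (ha' o ho)) _ (inv_mem ha)

theorem mem_Fx {O V W : Subgroup G} {h : ∀ x ∈ V, ∀ w ∈ W, w * x * w⁻¹ ∈ V} {w : G} :
    w ∈ Fx O V W h ↔ w ∈ W ∧ ∀ o ∈ O, ⁅o, w⁆ ∈ V := Iff.rfl

theorem rel_mul_card {A B : Subgroup G} (h : A ≤ B) : A.relIndex B * Nat.card A = Nat.card B := by
  have h1 := (A.subgroupOf B).index_mul_card
  rwa [Nat.card_congr (Subgroup.subgroupOfEquivOfLe h).toEquiv] at h1

section main

variable [Finite G] {Y Q A V W O : Subgroup G}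

/-- the chain `V < W₀ < W` of (4) -/
theorem exists_chain (h0 : Ker0 Y Q A) (Aab : ∀ a ∈ A, ∀ b ∈ A, a * b = b * a) (WA : W ≤ A) (W2 : IsPGroup 2 W)
    (VW : V ≤ W) (YV : Y ≤ normalizer (V : Set G))
    (NW : ∀ g ∈ Y, g ∈ normalizer (Q : Set G) → g ∈ normalizer (W : Set G)) (OY : O ≤ Y)
    (ON : Y ≤ normalizer (O : Set G)) (OQ : O ≤ normalizer (Q : Set G)) (O2 : IsPGroup 2 O)
    (c4 : Nat.card W = 4 * Nat.card V) (mv : ¬ ⁅O, W⁆ ≤ V) :
    ∃ W₀ : Subgroup G, V ≤ W₀ ∧ W₀ ≤ W ∧ (∀ y ∈ Y, ∀ v ∈ W₀, ⁅y, v⁆ ∈ V) ∧ ∀ y ∈ Y, ∀ w ∈ W, ⁅y, w⁆ ∈ W₀ := by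
  have hV : ∀ x ∈ V, ∀ w ∈ W, w * x * w⁻¹ ∈ V := fun x hx w hw => by
    rw [Aab w (WA hw) x (WA (VW hx)), mul_inv_cancel_right]; exact hx
  have hOW : O ≤ normalizer (W : Set G) := fun o ho => NW o (OY ho) (OQ ho)
  set W₀ := Fx O V W hV with hW₀
  have h1 : V ≤ W₀ := fun v hv => ⟨VW hv, fun o ho => comm_of_mem_norm (YV (OY ho)) hv⟩
  have h2 : W₀ ≤ W := fun w hw => hw.1
  have h3 : ∀ g ∈ Y, g ∈ normalizer (Q : Set G) → g ∈ normalizer (W₀ : Set G) := by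
    have key : ∀ g ∈ Y ⊓ normalizer (Q : Set G), ∀ w ∈ W₀, g * w * g⁻¹ ∈ W₀ := by
      rintro g ⟨hg, hgQ⟩ w ⟨hw, hw'⟩
      refine ⟨(mem_normalizer_iff.1 (NW g hg hgQ) w).1 hw, fun o ho => ?_⟩
      have h4 : g⁻¹ * o * g ∈ O := by
        have := (mem_normalizer_iff.1 (ON (inv_mem hg)) o).1 ho
        rwa [inv_inv] at this
      have e : ⁅o, g * w * g⁻¹⁆ = g * ⁅g⁻¹ * o * g, w⁆ * g⁻¹ := by
        simp only [commutatorElement_def]; group
      rw [e]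
      exact (mem_normalizer_iff.1 (YV hg) _).1 (hw' _ h4)
    intro g hg hgQ
    refine (le_norm_of_comm (Y := Y ⊓ normalizer (Q : Set G)) fun y hy w hw => ?_) ⟨hg, hgQ⟩
    rw [commutatorElement_def]
    exact mul_mem (key y hy w hw) (inv_mem hw)
  -- `V < W₀ < W`
  have h4 : ¬ W ≤ W₀ := fun h => mv (by
    rw [commutator_le]
    exact fun o ho w hw => (h hw).2 o ho)
  have h5 : ¬ W ≤ V := fun h => by
    have := card_le_of_le h
    have h6 : 0 < Nat.card V := Nat.card_pos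
    omega
  have h6 : ¬ W₀ ≤ V := by
    obtain ⟨m, hm, hmV, hmO⟩ := NO3b.ClosedPow.exists_fixed_mod (S := O) (B := W) (A := V) O2 W2
      (fun x hx b hb => (mem_normalizer_iff.1 (hOW hx) b).1 hb)
      (fun x hx b hb => (mem_normalizer_iff.1 (YV (OY hx)) b).1 hb)
      (fun x hx b hb => hV b hb x hx) h5
    exact fun h => hmV (h ⟨hm, hmO⟩)
  have e1 := relIndex_mul_relIndex V W₀ W h1 h2
  have e2 : V.relIndex W * Nat.card V = Nat.card W := rel_mul_card VW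
  have h7 : V.relIndex W = 4 := by
    have h8 : 0 < Nat.card V := Nat.card_pos
    rw [c4] at e2
    exact Nat.eq_of_mul_eq_mul_right h8 e2
  have h8 : V.relIndex W₀ ≠ 1 := fun h => h6 (relIndex_eq_one.1 h)
  have h9 : W₀.relIndex W ≠ 1 := fun h => h4 (relIndex_eq_one.1 h)
  rw [h7] at e1
  have h10 : V.relIndex W₀ = 2 ∧ W₀.relIndex W = 2 := by
    have hd : V.relIndex W₀ ∣ 4 := ⟨_, e1.symm⟩
    have hle : V.relIndex W₀ ≤ 4 := Nat.le_of_dvd (by norm_num) hd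
    generalize V.relIndex W₀ = a at *
    generalize W₀.relIndex W = b at *
    interval_cases a <;> omega
  have A1 : ∀ y ∈ Y, ∀ v ∈ W₀, ⁅y, v⁆ ∈ V := fun y hy v hv =>
    h0 V (VW.trans WA) YV v (WA (h2 hv)) (fun g hg hgQ => comm_mem_of_two h1 h10.1 (h3 g hg hgQ) (YV hg) hv) y hy
  have A2 : Y ≤ normalizer (W₀ : Set G) := le_norm_of_comm fun y hy v hv => h1 (A1 y hy v hv)
  exact ⟨W₀, h1, h2, A1, fun y hy w hw => h0 W₀ (h2.trans WA) A2 w (WA hw)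
    (fun g hg hgQ => comm_mem_of_two h2 h10.2 (NW g hg hgQ) (A2 hg) hw) y hy⟩

/-- **(4+)**: `Y` normalises `W`. -/
theorem norm_W (h0 : Ker0 Y Q A) (Aab : ∀ a ∈ A, ∀ b ∈ A, a * b = b * a) (WA : W ≤ A) (W2 : IsPGroup 2 W)
    (VW : V ≤ W) (YV : Y ≤ normalizer (V : Set G))
    (NW : ∀ g ∈ Y, g ∈ normalizer (Q : Set G) → g ∈ normalizer (W : Set G)) (OY : O ≤ Y)
    (ON : Y ≤ normalizer (O : Set G)) (OQ : O ≤ normalizer (Q : Set G)) (O2 : IsPGroup 2 O)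
    (c4 : Nat.card W = 4 * Nat.card V) (mv : ¬ ⁅O, W⁆ ≤ V) : Y ≤ normalizer (W : Set G) := by
  obtain ⟨W₀, -, h2, -, h4⟩ := exists_chain h0 Aab WA W2 VW YV NW OY ON OQ O2 c4 mv
  exact le_norm_of_comm fun y hy w hw => h2 (h4 y hy w hw)

/-- An element of odd order which centralises `[x, w]` (of order at most 2) centralises `w`. -/
theorem comm_eq_one_of_odd {x w : G} (hx : Odd (orderOf x)) (h1 : x * ⁅x, w⁆ = ⁅x, w⁆ * x) (h2 : ⁅x, w⁆ ^ 2 = 1) :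
    ⁅x, w⁆ = 1 := by
  set c := ⁅x, w⁆ with hc
  have h3 : x * w * x⁻¹ = c * w := by rw [hc, commutatorElement_def]; group
  have h4 : x * c * x⁻¹ = c := by rw [h1, mul_inv_cancel_right]
  have key : ∀ n : ℕ, x ^ n * w * (x ^ n)⁻¹ = c ^ n * w := by
    intro n
    induction n with
    | zero => simp
    | succ n ih =>
      have e : x ^ (n + 1) * w * (x ^ (n + 1))⁻¹ = x * (x ^ n * w * (x ^ n)⁻¹) * x⁻¹ := by
        rw [pow_succ']; group
      have e2 : x * (c ^ n * w) * x⁻¹ = (x * c * x⁻¹) ^ n * (x * w * x⁻¹) := by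
        rw [conj_pow]; group
      rw [e, ih, e2, h4, h3, pow_succ]
      group
  have h5 := key (orderOf x)
  rw [pow_orderOf_eq_one] at h5
  have h6 : c ^ orderOf x = 1 := by
    have : c ^ orderOf x * w = 1 * w := by rw [← h5]; group
    exact mul_right_cancel this
  obtain ⟨m, hm⟩ := hx
  rw [hm, pow_succ, pow_mul, h2, one_pow, one_mul] at h6
  exact h6

/-- `O²(Y)` centralises `W` if it centralises `V`. -/
theorem cent_W (h0 : Ker0 Y Q A) (Aab : ∀ a ∈ A, ∀ b ∈ A, a * b = b * a) (A2 : ∀ a ∈ A, a ^ 2 = 1) (WA : W ≤ A)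
    (VW : V ≤ W) (YV : Y ≤ normalizer (V : Set G))
    (NW : ∀ g ∈ Y, g ∈ normalizer (Q : Set G) → g ∈ normalizer (W : Set G)) (OY : O ≤ Y)
    (ON : Y ≤ normalizer (O : Set G)) (OQ : O ≤ normalizer (Q : Set G)) (O2 : IsPGroup 2 O)
    (c4 : Nat.card W = 4 * Nat.card V) (mv : ¬ ⁅O, W⁆ ≤ V) (hV : oddGen Y ≤ centralizer (V : Set G)) :
    oddGen Y ≤ centralizer (W : Set G) := by
  have W2 : IsPGroup 2 W := fun w => ⟨1, by
    have := A2 w (WA w.2)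
    ext
    simpa using this⟩
  obtain ⟨W₀, h1, h2, h3, h4⟩ := exists_chain h0 Aab WA W2 VW YV NW OY ON OQ O2 c4 mv
  rw [oddGen_def, closure_le]
  rintro x ⟨hx, ho⟩
  have a1 : ∀ v ∈ V, ⁅x, v⁆ = 1 := fun v hv => by
    rw [commutatorElement_eq_one_iff_mul_comm]
    exact (mem_centralizer_iff.1 (hV (subset_closure ⟨hx, ho⟩)) v hv).symm
  have a2 : ∀ v ∈ W₀, ⁅x, v⁆ = 1 := fun v hv =>
    comm_eq_one_of_odd ho (commutatorElement_eq_one_iff_mul_comm.1 (a1 _ (h3 x hx v hv)))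
      (A2 _ (WA (VW (h3 x hx v hv))))
  have a3 : ∀ w ∈ W, ⁅x, w⁆ = 1 := fun w hw =>
    comm_eq_one_of_odd ho (commutatorElement_eq_one_iff_mul_comm.1 (a2 _ (h4 x hx w hw)))
      (A2 _ (WA (h2 (h4 x hx w hw))))
  exact mem_centralizer_iff.2 fun w hw => (commutatorElement_eq_one_iff_mul_comm.1 (a3 w hw)).symm

end main

section four

theorem mem_norm_sup {g : G} {A B : Subgroup G} (hA : g ∈ normalizer (A : Set G)) (hB : g ∈ normalizer (B : Set G)) :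
    g ∈ normalizer ((A ⊔ B : Subgroup G) : Set G) := by
  rw [Subgroup.mem_normalizer_iff_map_conj_eq] at *
  rw [Subgroup.map_sup, hA, hB]

variable [Finite G] {Y Q A L Wi Wj O P F : Subgroup G}

theorem card_sup_mul {A B V : Subgroup G} (hV : ∀ a ∈ V, ∀ b ∈ V, a * b = b * a) (hA : A ≤ V) (hB : B ≤ V) :
    Nat.card ↥(A ⊔ B) * Nat.card ↥(A ⊓ B) = Nat.card A * Nat.card B :=
  Cfsg.Agent.PLocal.ElemAbSup.card_sup_mul_card_inf fun b hb => mem_centralizer_iff.2 fun a ha =>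
    hV a (hA ha) b (hB hb)

/-- `C_A(Π) = W_j L` -/
theorem cent_eq (WjA : Wj ≤ A) (LA : L ≤ A) (Pj : P ≤ centralizer (Wj : Set G)) (PL : P ≤ centralizer (L : Set G))
    (CQ : A ⊓ centralizer (P : Set G) ⊓ centralizer (F : Set G) ≤ L)
    (off : Nat.card (A ⊓ centralizer (P : Set G) : Subgroup G) ≤
      4 * Nat.card (A ⊓ centralizer (P : Set G) ⊓ centralizer (F : Set G) : Subgroup G))
    (cj : 4 * Nat.card L ≤ Nat.card (Wj ⊔ L : Subgroup G)) : A ⊓ centralizer (P : Set G) = Wj ⊔ L := by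
  refine (Subgroup.eq_of_le_of_card_ge (sup_le (le_inf WjA ?_) (le_inf LA ?_)) ?_).symm
  · rwa [le_centralizer_iff]
  · rwa [le_centralizer_iff]
  · have h1 := card_le_of_le CQ
    omega

/-- **(4)** as printed; `P = Π_j = C_Q(W_j L)`, `F = W_F`. -/
theorem four (h0 : Ker0 Y Q A) (Aab : ∀ a ∈ A, ∀ b ∈ A, a * b = b * a) (A2 : ∀ a ∈ A, a ^ 2 = 1)
    (YA : Y ≤ normalizer (A : Set G)) (YP : Y ≤ normalizer (P : Set G)) (WiA : Wi ≤ A) (WjA : Wj ≤ A) (LA : L ≤ A)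
    (Pj : P ≤ centralizer (Wj : Set G)) (PL : P ≤ centralizer (L : Set G))
    (NW : ∀ g ∈ Y, g ∈ normalizer (Q : Set G) → g ∈ normalizer ((Wi ⊔ L : Subgroup G) : Set G)) (OY : O ≤ Y)
    (ON : Y ≤ normalizer (O : Set G)) (OQ : O ≤ normalizer (Q : Set G)) (O2 : IsPGroup 2 O)
    (ci : Nat.card Wi = 4 * Nat.card (Wi ⊓ centralizer (P : Set G) : Subgroup G))
    (mv : ¬ ⁅O, Wi⁆ ≤ centralizer (P : Set G))
    (CQ : A ⊓ centralizer (P : Set G) ⊓ centralizer (F : Set G) ≤ L)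
    (off : Nat.card (A ⊓ centralizer (P : Set G) : Subgroup G) ≤
      4 * Nat.card (A ⊓ centralizer (P : Set G) ⊓ centralizer (F : Set G) : Subgroup G))
    (cj : 4 * Nat.card L ≤ Nat.card (Wj ⊔ L : Subgroup G)) :
    Y ≤ normalizer ((Wi ⊔ (Wj ⊔ L) : Subgroup G) : Set G) := by
  have hN := cent_eq WjA LA Pj PL CQ off cj
  set N₁ : Subgroup G := A ⊓ centralizer (P : Set G) with hN₁
  rw [← hN]
  have hYN : Y ≤ normalizer (N₁ : Set G) := le_norm_of_comm fun y hy v hv => by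
    have h1 : y * v * y⁻¹ ∈ A := (mem_normalizer_iff.1 (YA hy) v).1 hv.1
    have h2 : y * v * y⁻¹ ∈ centralizer (P : Set G) := by
      rw [mem_centralizer_iff]
      intro p hp
      have h3 : y⁻¹ * p * y ∈ P := by
        have := (mem_normalizer_iff.1 (YP (inv_mem hy)) p).1 hp
        rwa [inv_inv] at this
      have h4 := mem_centralizer_iff.1 hv.2 _ h3
      calc p * (y * v * y⁻¹) = y * (y⁻¹ * p * y * v) * y⁻¹ := by group
        _ = y * (v * (y⁻¹ * p * y)) * y⁻¹ := by rw [h4]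
        _ = y * v * y⁻¹ * p := by group
    rw [commutatorElement_def]
    exact mul_mem (⟨h1, h2⟩ : y * v * y⁻¹ ∈ N₁) (inv_mem hv)
  have A2' : IsPGroup 2 A := fun a => ⟨1, by
    have := A2 a a.2
    ext
    simpa using this⟩
  have hLN : L ≤ N₁ := by rw [hN]; exact le_sup_right
  have hNA : N₁ ≤ A := inf_le_left
  have e1 : Wi ⊔ N₁ = (Wi ⊔ L) ⊔ N₁ := by rw [sup_assoc, sup_eq_right.2 hLN]
  refine norm_W h0 Aab (sup_le WiA hNA) (A2'.to_le (sup_le WiA hNA)) le_sup_right hYN (fun g hg hgQ => ?_) OY ON OQ O2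
    ?_ fun h => mv ?_
  · rw [e1]
    exact mem_norm_sup (NW g hg hgQ) (hYN hg)
  · have h1 := card_sup_mul Aab WiA hNA
    have h2 : Wi ⊓ N₁ = Wi ⊓ centralizer (P : Set G) := by
      rw [hN₁, ← inf_assoc, inf_eq_left.2 WiA]
    rw [h2, ci] at h1
    have h3 : 0 < Nat.card (Wi ⊓ centralizer (P : Set G) : Subgroup G) := Nat.card_pos
    nlinarith
  · exact (commutator_mono le_rfl le_sup_left).trans (h.trans inf_le_right)

end four

end Cfsg.Agent.Omega.NO3S.WY.Tor.Four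

end

section


/-!
# THEOREM TOR (1), over the frame

`KerY Q X Y` : the conclusion of (0), the odd kernel lemma (`TY.odd_ker`).  `W` may be nonsplit (`F ≠ 1`).

* `Cx.L_le_o2` : `V_P ≤ O₂(C_G(Λ_j))`; `TY.clL_le` : `⟨V_P^Y⟩ ≤ O₂(C_G(Λ_j))`;
* `TY.QW` : `A ∈ 𝓦`, `A ≤ S`, `A` moves `W`: `Q = A (Q ∩ O₂(Y))`;
* `TY.comm_V` : `[V_i, Y] ≤ Λ_j` (`i ≠ j`); `TY.norm_VV`, `TY.cent_VV` : `Y` normalises, `O²(Y)` centralises `V_(j)`;
* `TY.PI` : `Q ∩ O₂(Y)` is normal in `Y`.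
-/

set_option autoImplicit false
set_option linter.unusedSectionVars false

namespace Cfsg.Agent.Omega.NO3S.WY.Tor

open Subgroup Cfsg Cfsg.Agent.ZN Cfsg.Agent.ZN.ChoiceBase
open Cfsg.Agent.ZN.ChoiceSit (Syl)
open Cfsg.Agent.MinSimple.MinParabolic (IsMinPar)
open Cfsg.Agent.MinSimple.VModule (oddGen oddGen_def mem_oddGen)
open Cfsg.Agent.Omega.NO3b.EZero (cl cl_le le_cl cj_le_cl le_normalizer_cl)
open scoped commutatorElement

universe u

variable {G : Type u} [Group G] {ι : Type}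

/-- **(0)** -/
def KerY (Q X Y : Subgroup G) : Prop :=
  ∀ N N₀ : Subgroup G, N ≤ X → N₀ ≤ N → Y ≤ normalizer (N : Set G) → Y ≤ normalizer (N₀ : Set G) →
    (∀ n ∈ N, ∀ y ∈ o2 Y, y * n * y⁻¹ * n⁻¹ ∈ N₀) →
    (∀ n ∈ N, ∀ a ∈ Q, ∀ b ∈ Q, b * (a * n * a⁻¹ * n⁻¹) * b⁻¹ * (a * n * a⁻¹ * n⁻¹)⁻¹ ∈ N₀) →
    ∀ v ∈ N, (∀ y ∈ Y, y ∈ normalizer (Q : Set G) → y * v * y⁻¹ * v⁻¹ ∈ N₀) → ∀ y ∈ Y, y * v * y⁻¹ * v⁻¹ ∈ N₀

namespace Cx

variable {S B Q M X L : Subgroup G} {V : ι → Subgroup G} {z : ι → G} (c : Cx S B Q M X L V z)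
include c

theorem Lam_L (j : ι) : Lam z j ≤ L := (c.Lam_VV j).trans (c.VV_L j)

theorem z_Lam {i j : ι} (h : i ≠ j) : z i ∈ Lam z j :=
  (le_iSup₂_of_le (f := fun i (_ : i ≠ j) => zpowers (z i)) i h le_rfl) (mem_zpowers _)

theorem Lam_ne {i j : ι} (h : i ≠ j) : Lam z j ≠ ⊥ := fun e => c.z1 i (by
  have := c.z_Lam h
  rwa [e, mem_bot] at this)

theorem X2 : IsPGroup 2 X := c.S2.to_le c.XS

/-- `[V_i, g] ≤ ⟨z_i⟩` if `g` normalises `V_i`, centralises `z_i` -/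
theorem comm_z [Finite G] {i : ι} {g v : G} (gV : g ∈ normalizer (V i : Set G)) (gz : g * z i = z i * g)
    (hv : v ∈ V i) : g * v * g⁻¹ * v⁻¹ ∈ zpowers (z i) := by
  have h1 : zpowers (z i) ≤ V i := zpowers_le.2 (c.zV i)
  have h2 : Nat.card (zpowers (z i)) = 2 := by
    rw [Nat.card_zpowers]
    exact orderOf_eq_prime (by rw [pow_two]; exact c.Xs _ (c.zX i)) (c.z1 i)
  have h3 := Four.rel_mul_card h1
  rw [h2, c.cV i] at h3
  have h4 : g ∈ normalizer (zpowers (z i) : Set G) := by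
    refine (centralizer_le_normalizer _) (mem_centralizer_iff.2 fun x hx => ?_)
    obtain ⟨n, rfl⟩ := mem_zpowers_iff.1 hx
    exact (Commute.zpow_right (show Commute g (z i) from gz) n).eq.symm
  have h5 := Four.comm_mem_of_two h1 (by omega) gV h4 hv
  rwa [commutatorElement_def] at h5

/-- `V_P ≤ O₂(C_G(Λ_j))` -/
theorem L_le_o2 [Finite G] {i j : ι} (hij : i ≠ j) : L ≤ o2 (centralizer (Lam z j : Set G)) := by
  set D := centralizer (Lam z j : Set G) with hD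
  have h1 : D ≤ centralizer ({z i} : Set G) := centralizer_le (Set.singleton_subset_iff.2 (c.z_Lam hij))
  have h2 : L ≤ D := fun l hl => mem_centralizer_iff.2 fun x hx => c.xc (c.Lam_X j hx) (c.LX hl)
  have h3 : D ≤ normalizer ((o2 (centralizer ({z i} : Set G)) ⊓ D : Subgroup G) : Set G) := fun d hd => by
    rw [mem_normalizer_iff_cj, cj_inf, cj_eq_of_mem_normalizer (MinSimple.VModule.le_normalizer_o2 _ (h1 hd)),
      cj_eq_of_mem_normalizer (le_normalizer hd)]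
  exact (le_inf (c.LO i) h2).trans (MinSimple.VModule.le_o2 inf_le_right
    ((MinSimple.VModule.o2_isPGroup _).to_le inf_le_left) h3)

end Cx

namespace TY

variable {S B Q M X L : Subgroup G} {V : ι → Subgroup G} {z : ι → G} {𝓦 : Set (Subgroup G)} {j : ι}
  {Y W F : Subgroup G}

theorem Y_cLam (h : TY S B Q M X V z 𝓦 j Y W F) : Y ≤ centralizer (Lam z j : Set G) := fun y hy =>
  mem_centralizer_iff.2 fun _ hx => (h.cLam hy hx).symm

theorem clL_X (c : Cx S B Q M X L V z) (h : TY S B Q M X V z 𝓦 j Y W F) : cl L Y ≤ X := cl_le fun y hy => by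
  rw [← cj_eq_of_mem_normalizer (c.MX (h.YM hy))]
  exact cj_mono y c.LX

/-- `⟨V_P^Y⟩ ≤ O₂(C_G(Λ_j))` -/
theorem clL_le [Finite G] (c : Cx S B Q M X L V z) (h : TY S B Q M X V z 𝓦 j Y W F) {i : ι} (hij : i ≠ j) :
    cl L Y ≤ o2 (centralizer (Lam z j : Set G)) := cl_le fun y hy => by
  rw [← cj_eq_of_mem_normalizer (MinSimple.VModule.le_normalizer_o2 _ (h.Y_cLam hy))]
  exact cj_mono y (c.L_le_o2 hij)

theorem W_clL (c : Cx S B Q M X L V z) (h : TY S B Q M X V z 𝓦 j Y W F) : W ≤ cl L Y :=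
  h.gen _ (le_cl L Y (c.VL j (c.zV j))) (le_normalizer_cl L Y)

/-- `W ≤ O₂(C_G(Λ_j))` -/
theorem W_le_Lam [Finite G] (c : Cx S B Q M X L V z) (h : TY S B Q M X V z 𝓦 j Y W F) {i : ι} (hij : i ≠ j) :
    W ≤ o2 (centralizer (Lam z j : Set G)) := (h.W_clL c).trans (h.clL_le c hij)

/-- `A ∈ 𝓦`, `A ≤ S`, moves `W`: `C_W(A) = V_j F` -/
theorem cWA (c : Cx S B Q M X L V z) (h : TY S B Q M X V z 𝓦 j Y W F) {A : Subgroup G} (hA : A ≤ Q)
    (hm : ¬ A ≤ centralizer (W : Set G)) : W ⊓ centralizer (A : Set G) = V j ⊔ F := by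
  refine le_antisymm ?_ (le_inf h.VF_W ?_)
  · rintro w ⟨hw, hwA⟩
    by_contra hne
    apply hm
    intro a ha
    have h1 : a * w * a⁻¹ * w⁻¹ ∈ F := by
      rw [comm_iff.2 (mem_centralizer_iff.1 hwA a ha)]
      exact one_mem _
    exact mem_centralizer_iff.2 fun u hu => (h.free a (hA ha) w hw hne h1 u hu).symm
  · exact fun x hx => mem_centralizer_iff.2 fun a ha => c.cQL a (hA ha) x (h.VF_L c hx)

/-- **`Q = A (Q ∩ O₂(Y))`** -/
theorem QW [Finite G] (c : Cx S B Q M X L V z) (o : Off S Q M X L 𝓦) (h : TY S B Q M X V z 𝓦 j Y W F) {i : ι}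
    (hij : i ≠ j) {A : Subgroup G} (hA : A ∈ 𝓦) (hAS : A ≤ S) (hm : ¬ A ≤ centralizer (W : Set G)) {q : G}
    (hq : q ∈ Q) : ∃ a ∈ A, ∃ p ∈ Q ⊓ o2 Y, a * p = q := by
  have hAQ : A ≤ Q := o.AQ A hA hAS
  set P := Q ⊓ centralizer (W : Set G) with hP
  have h1 := o.best A hA hAS 1 (one_mem _) (Lam z j) (c.Lam_ne hij) (by rw [cj_one]; exact c.Lam_L j) W h.WX
    (h.W_le_Lam c hij) (A ⊓ centralizer (W : Set G)) (by rw [cj_one]; exact inf_le_left)
  rw [cj_one, h.cWA c hAQ hm, h.card_VF c] at h1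
  have h2 : W ⊓ centralizer ((A ⊓ centralizer (W : Set G) : Subgroup G) : Set G) = W := by
    rw [inf_eq_left, ← le_centralizer_iff]
    exact inf_le_right
  rw [h2, h.cW] at h1
  have hF : 0 < Nat.card F := Nat.card_pos
  have h3 : 4 * Nat.card ↥(A ⊓ centralizer (W : Set G)) ≤ Nat.card A := by
    have h4 : (4 * Nat.card ↥(A ⊓ centralizer (W : Set G))) * (4 * Nat.card F) ≤ Nat.card A * (4 * Nat.card F) := by
      calc _ = Nat.card ↥(A ⊓ centralizer (W : Set G)) * (16 * Nat.card F) := by ring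
        _ ≤ _ := h1
    exact Nat.le_of_mul_le_mul_right h4 (by positivity)
  have hQW : Q ≤ normalizer (W : Set G) := (h.QY c).trans h.YW
  have hQP : Q ≤ normalizer (P : Set G) := fun q hq => by
    rw [mem_normalizer_iff_cj, hP, cj_inf, cj_eq_of_mem_normalizer (le_normalizer hq), cj_centralizer,
      cj_eq_of_mem_normalizer (hQW hq)]
  have h5 := ZN.Block.card_sup_mul_card_inf (hAQ.trans hQP)
  have h6 : A ⊓ P = A ⊓ centralizer (W : Set G) := by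
    rw [hP, ← inf_assoc, inf_eq_left.2 hAQ]
  rw [h6] at h5
  have h7 : A ⊔ P = Q := by
    refine Subgroup.eq_of_le_of_card_ge (sup_le hAQ inf_le_left) ?_
    rw [h.cardQ]
    have h8 : 0 < Nat.card ↥(A ⊓ centralizer (W : Set G)) := Nat.card_pos
    have h9 : 0 < Nat.card P := Nat.card_pos
    have h10 : (4 * Nat.card P) * Nat.card ↥(A ⊓ centralizer (W : Set G)) ≤
        Nat.card ↥(A ⊔ P) * Nat.card ↥(A ⊓ centralizer (W : Set G)) := by
      rw [h5]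
      calc _ = (4 * Nat.card ↥(A ⊓ centralizer (W : Set G))) * Nat.card P := by ring
        _ ≤ _ := Nat.mul_le_mul_right _ h3
    exact Nat.le_of_mul_le_mul_right h10 h8
  rw [h.PIW c]
  exact mem_sup_of_normalizer_le (fun a ha => hQP (hAQ ha)) (by rw [h7]; exact hq)

/-- `O₂(Y)` centralises `⟨V_P^Y⟩ / Λ_j` -/
theorem o2_clL [Finite G] (c : Cx S B Q M X L V z) (h : TY S B Q M X V z 𝓦 j Y W F) {n y : G} (hn : n ∈ cl L Y)
    (hy : y ∈ o2 Y) : y * n * y⁻¹ * n⁻¹ ∈ Lam z j := by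
  have hYX : Y ≤ normalizer (X : Set G) := h.YM.trans c.MX
  let R : Subgroup G :=
    { carrier := {n | n ∈ X ∧ ∀ y ∈ o2 Y, y * n * y⁻¹ * n⁻¹ ∈ Lam z j}
      one_mem' := ⟨one_mem _, fun y _ => by
        have e : y * 1 * y⁻¹ * 1⁻¹ = 1 := by group
        rw [e]; exact one_mem _⟩
      mul_mem' := by
        rintro a b ⟨ha, ha'⟩ ⟨hb, hb'⟩
        refine ⟨mul_mem ha hb, fun y hy => ?_⟩
        have h1 := hb' y hy
        have h2 := c.xc ha (c.Lam_X j h1)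
        have e : y * (a * b) * y⁻¹ * (a * b)⁻¹ = (y * a * y⁻¹ * a⁻¹) * (a * (y * b * y⁻¹ * b⁻¹)) * a⁻¹ := by group
        rw [e, h2]
        have e2 : ∀ x t : G, x * (t * a) * a⁻¹ = x * t := fun x t => by group
        rw [e2]
        exact mul_mem (ha' y hy) h1
      inv_mem' := by
        rintro a ⟨ha, ha'⟩
        refine ⟨inv_mem ha, fun y hy => ?_⟩
        have h1 := ha' y hy
        have h2 := c.xc (inv_mem ha) (c.Lam_X j (inv_mem h1))
        have e : y * a⁻¹ * y⁻¹ * a⁻¹⁻¹ = (a⁻¹ * (y * a * y⁻¹ * a⁻¹)⁻¹) * a := by group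
        rw [e, h2]
        have e2 : ∀ t : G, t * a⁻¹ * a = t := fun t => by group
        rw [e2]
        exact inv_mem h1 }
  have hL : L ≤ R := by
    rw [c.eL]
    refine iSup_le fun i v hv => ⟨c.VX i hv, fun y hy => ?_⟩
    by_cases hi : i = j
    · rw [hi] at hv
      have h1 := mem_centralizer_iff.1 (h.o2_cW c hy) v (h.VW hv)
      rw [comm_iff.2 h1.symm]
      exact one_mem _
    · have hyB : y ∈ B := h.o2B c hy
      exact (zpowers_le.2 (c.z_Lam hi)) (c.comm_z (c.BV i hyB) (c.Bz y hyB i) hv)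
  have hYR : Y ≤ normalizer (R : Set G) := by
    intro g hg
    refine mem_normalizer_of_cj_le ?_
    rintro _ ⟨n, ⟨hn, hn'⟩, rfl⟩
    refine ⟨conj_mem (hYX hg) hn, fun y hy => ?_⟩
    have h1 : g⁻¹ * y * g ∈ o2 Y := by
      have := conj_mem (ChoiceSit.le_normalizer_o2 Y (inv_mem hg)) hy
      rwa [inv_inv] at this
    have h2 := hn' _ h1
    change y * (g * n * g⁻¹) * y⁻¹ * (g * n * g⁻¹)⁻¹ ∈ _
    have e : y * (g * n * g⁻¹) * y⁻¹ * (g * n * g⁻¹)⁻¹ =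
        g * ((g⁻¹ * y * g) * n * (g⁻¹ * y * g)⁻¹ * n⁻¹) * g⁻¹ := by group
    rw [e, h.cLam hg h2]
    have e2 : ∀ t : G, t * g * g⁻¹ = t := fun t => by group
    rw [e2]
    exact h2
  have h3 : cl L Y ≤ R := cl_le fun y hy => by
    rw [← cj_eq_of_mem_normalizer (hYR hy)]
    exact cj_mono y hL
  exact (h3 hn).2 y hy

/-- `Q` is quadratic on `⟨V_P^Y⟩ / Λ_j` -/
theorem quad_clL [Finite G] (c : Cx S B Q M X L V z) (o : Off S Q M X L 𝓦) (h : TY S B Q M X V z 𝓦 j Y W F) {i : ι}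
    (hij : i ≠ j) {n a b : G} (hn : n ∈ cl L Y) (ha : a ∈ Q) (hb : b ∈ Q) :
    b * (a * n * a⁻¹ * n⁻¹) * b⁻¹ * (a * n * a⁻¹ * n⁻¹)⁻¹ ∈ Lam z j := by
  obtain ⟨A, hA, hAS, hm⟩ := h.mv
  have hAQ : A ≤ Q := o.AQ A hA hAS
  obtain ⟨a', ha', p, ⟨_, hp⟩, rfl⟩ := h.QW c o hij hA hAS hm ha
  obtain ⟨b', hb', r, ⟨_, hr⟩, rfl⟩ := h.QW c o hij hA hAS hm hb
  have hY : ∀ x ∈ Q, ∀ n ∈ cl L Y, x * n * x⁻¹ ∈ cl L Y := fun x hx n hn =>
    conj_mem (le_normalizer_cl L Y (h.QY c hx)) hn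
  have hX : cl L Y ≤ X := h.clL_X c
  have hΛ : ∀ x ∈ Q, ∀ t ∈ Lam z j, x * t * x⁻¹ = t := fun x hx t ht => by
    rw [c.cQL x hx t (c.Lam_L j ht)]; group
  -- `[a, n] = λ [a', n]`
  have h1 := h.o2_clL c hn hp
  set l := p * n * p⁻¹ * n⁻¹ with hl
  have h2 : a' * p * n * (a' * p)⁻¹ * n⁻¹ = l * (a' * n * a'⁻¹ * n⁻¹) := by
    calc a' * p * n * (a' * p)⁻¹ * n⁻¹ = (a' * l * a'⁻¹) * (a' * n * a'⁻¹ * n⁻¹) := by rw [hl]; group
      _ = l * (a' * n * a'⁻¹ * n⁻¹) := by rw [hΛ a' (hAQ ha') l h1]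
  set d := a' * n * a'⁻¹ * n⁻¹ with hd
  have hdc : d ∈ cl L Y := mul_mem (hY a' (hAQ ha') n hn) (inv_mem hn)
  have h3 := h.o2_clL c hdc hr
  set m := r * d * r⁻¹ * d⁻¹ with hm'
  have h4 : b' * d = d * b' := by
    refine o.quad A hA hAS 1 (one_mem _) (Lam z j) (c.Lam_ne hij) (by rw [cj_one]; exact c.Lam_L j) n (hX hn)
      (h.clL_le c hij hn) a' (by rwa [cj_one]) b' (by rwa [cj_one])
  have h5 : r ∈ Q := by
    have := ‹r ∈ Q›
    exact this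
  have h6 : b' * r * (l * d) * (b' * r)⁻¹ * (l * d)⁻¹ = m := by
    have e1 : b' * r * (l * d) * (b' * r)⁻¹ * (l * d)⁻¹ =
        (b' * (r * l * r⁻¹) * b'⁻¹) * (b' * m * b'⁻¹) * (b' * d * b'⁻¹) * d⁻¹ * l⁻¹ := by rw [hm']; group
    have e2 : b' * d * b'⁻¹ = d := by rw [h4]; group
    rw [e1, hΛ r h5 l h1, hΛ b' (hAQ hb') l h1, hΛ b' (hAQ hb') m h3, e2]
    have e3 : l * m = m * l := c.xc (c.Lam_X j h1) (c.Lam_X j h3)
    rw [e3]; group
  rw [h2, h6]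
  exact h3

/-- **`[V_i, Y] ≤ Λ_j`** -/
theorem comm_V [Finite G] (c : Cx S B Q M X L V z) (o : Off S Q M X L 𝓦) (h : TY S B Q M X V z 𝓦 j Y W F)
    (hk : KerY Q X Y) {i : ι} (hij : i ≠ j) {y v : G} (hy : y ∈ Y) (hv : v ∈ V i) :
    y * v * y⁻¹ * v⁻¹ ∈ Lam z j := by
  refine hk (cl L Y) (Lam z j) (h.clL_X c) ((c.Lam_L j).trans (le_cl L Y)) (le_normalizer_cl L Y)
    (h.Y_cLam.trans (centralizer_le_normalizer _)) (fun n hn y hy => h.o2_clL c hn hy)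
    (fun n hn a ha b hb => h.quad_clL c o hij hn ha hb) v (le_cl L Y (c.VL i hv)) (fun g hg hgQ => ?_) y hy
  obtain ⟨m, hm⟩ := c.perm g hgQ i
  have h1 : z i ∈ V m := by
    rw [← hm, mem_cj]
    have := h.Yz g hg i hij
    have e : g⁻¹ * z i * g = z i := by rw [mul_assoc, ← this]; group
    rw [e]
    exact c.zV i
  have h2 := c.V_of_mem (c.zV i) h1 (c.z1 i)
  have h3 : g ∈ normalizer (V i : Set G) := by
    rw [mem_normalizer_iff_cj, hm, h2]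
  exact (zpowers_le.2 (c.z_Lam hij)) (c.comm_z h3 (h.Yz g hg i hij) hv)

/-- **`Y` normalises `V_(j)`** -/
theorem norm_VV [Finite G] (c : Cx S B Q M X L V z) (o : Off S Q M X L 𝓦) (h : TY S B Q M X V z 𝓦 j Y W F)
    (hk : KerY Q X Y) : Y ≤ normalizer (VV V j : Set G) := by
  intro y hy
  refine mem_normalizer_of_cj_le ?_
  unfold VV
  rw [ChoiceBase.cj, Subgroup.map_iSup]
  refine iSup_le fun i => ?_
  rw [Subgroup.map_iSup]
  refine iSup_le fun hi => ?_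
  rintro _ ⟨v, hv, rfl⟩
  have h1 := c.Lam_VV j (h.comm_V c o hk hi hy hv)
  have h2 := mul_mem h1 (c.V_VV hi hv)
  change y * v * y⁻¹ ∈ VV V j
  have e : y * v * y⁻¹ * v⁻¹ * v = y * v * y⁻¹ := by group
  rwa [e] at h2

/-- **`O²(Y)` centralises `V_(j)`** -/
theorem cent_VV [Finite G] (c : Cx S B Q M X L V z) (o : Off S Q M X L 𝓦) (h : TY S B Q M X V z 𝓦 j Y W F)
    (hk : KerY Q X Y) : oddGen Y ≤ centralizer (VV V j : Set G) := by
  rw [le_centralizer_iff]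
  refine iSup₂_le fun i hi => ?_
  rw [le_centralizer_iff, oddGen_def, closure_le]
  rintro x ⟨hx, ho⟩
  refine mem_centralizer_iff.2 fun v hv => ?_
  have h1 := h.comm_V c o hk hi hx hv
  exact (odd_comm ho (c.Xs _ (c.Lam_X j h1)) (h.cLam hx h1) (c.xc (c.Lam_X j h1) (c.VX i hv)) rfl).symm

/-- `Q ∩ O₂(Y) = C_{O₂(Y)}(V_(j))` -/
theorem PI_eq [Finite G] (c : Cx S B Q M X L V z) (h : TY S B Q M X V z 𝓦 j Y W F) :
    Q ⊓ o2 Y = o2 Y ⊓ centralizer (VV V j : Set G) := by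
  refine le_antisymm (le_inf inf_le_right fun q hq => mem_centralizer_iff.2 fun v hv =>
    (c.cQL q hq.1 v (c.VV_L j hv)).symm) ?_
  rintro y ⟨hy, hyV⟩
  refine ⟨c.cSL y (c.BS (h.o2B c hy)) fun l hl => ?_, hy⟩
  obtain ⟨v, hv, v', hv', rfl⟩ := c.split j hl
  have h1 : Commute y v := (mem_centralizer_iff.1 (h.o2_cW c hy) v (h.VW hv)).symm
  have h2 : Commute y v' := (mem_centralizer_iff.1 hyV v' hv').symm
  exact (h1.mul_right h2).eq

/-- **`Q ∩ O₂(Y)` is normal in `Y`** -/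
theorem PI [Finite G] (c : Cx S B Q M X L V z) (o : Off S Q M X L 𝓦) (h : TY S B Q M X V z 𝓦 j Y W F)
    (hk : KerY Q X Y) : Y ≤ normalizer ((Q ⊓ o2 Y : Subgroup G) : Set G) := by
  rw [h.PI_eq c]
  intro y hy
  rw [mem_normalizer_iff_cj, cj_inf, cj_centralizer, cj_eq_of_mem_normalizer (ChoiceSit.le_normalizer_o2 Y hy),
    cj_eq_of_mem_normalizer (h.norm_VV c o hk hy)]

end TY

end Cfsg.Agent.Omega.NO3S.WY.Tor

end

section


/-!
# THEOREM TOR (helper474 #25011), (3): `W_l ≤ O₂(C_G(V_i))` for all `l`, `i`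

Pure group theory.  `V l` the lines of `L = Ω₁(Z(Q))`, permuted by `N_G(Q)`; `x l` of odd order on `V l`, irreducible
there, trivial on the other lines; `W l = ⟨z_l^{Y_l}⟩ ≥ V l` with `[W l, Q] ≤ V l`; `K l` (`= O²(Y_l)` or `⟨Q^{Y_l}⟩`)
irreducible on `W l`, trivial on `V i`, `i ≠ l` ((1)).

* `le_o2_of_comm` : a subgroup of `C` stabilising `O₂(C) ≥ V ≥ 1`, `V ≤ Z(C)`, lies in `O₂(C)`;
* `Lines` : `V`, `x`; `Lines.cent_V`, `Lines.cent_L`, `Lines.le_Q` : `O₂(C_G(V_i))` centralises `L`, lies in `Q`;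
* `Lines.self`, `Lines.other` : a single `W ≤ O₂(C_G(V_i))`;
* `Three.W_le` : `W l ≤ O₂(C_G(V_i))`; `Three.V_le`, `Three.L_le`;
* `Three.W_le_Q`, `Three.disj` : `W l ≤ Q`, `W l ⊓ W m = ⊥`;
* `moves` : `t = q o` moves `W i / V i`, then so does `o` (the `mv` of `Four.norm_W`).
-/

set_option autoImplicit false
set_option linter.unusedSectionVars false
set_option linter.dupNamespace false

namespace Cfsg.Agent.Omega.NO3S.WY.Tor

open Subgroup Cfsg Cfsg.Agent.ZN Cfsg.Agent.ZN.ChoiceBase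
open scoped commutatorElement

universe u

variable {G : Type u} [Group G] [Finite G]

/-- **The stabiliser of the chain `O₂(C) ≥ V ≥ 1`.** -/
theorem le_o2_of_comm {C V W : Subgroup G} (hV : C ≤ centralizer (V : Set G)) (V2 : ∀ v ∈ V, v * v = 1)
    (char : C ⊓ centralizer (o2 C : Set G) ≤ o2 C) (WC : W ≤ C)
    (hW : ∀ w ∈ W, ∀ o ∈ o2 C, w * o * w⁻¹ * o⁻¹ ∈ V) : W ≤ o2 C := by
  have hc : ∀ c ∈ C, ∀ v ∈ V, c * v * c⁻¹ = v := fun c hc v hv => by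
    rw [← mem_centralizer_iff.1 (hV hc) v hv, mul_inv_cancel_right]
  let N : Subgroup G :=
    { carrier := {g | g ∈ C ∧ ∀ o ∈ o2 C, g * o * g⁻¹ * o⁻¹ ∈ V}
      one_mem' := ⟨one_mem _, fun o _ => by
        have e : (1 : G) * o * 1⁻¹ * o⁻¹ = 1 := by group
        rw [e]; exact one_mem _⟩
      mul_mem' := by
        rintro a b ⟨ha, ha'⟩ ⟨hb, hb'⟩
        refine ⟨mul_mem ha hb, fun o ho => ?_⟩
        have e : a * b * o * (a * b)⁻¹ * o⁻¹ = (a * (b * o * b⁻¹ * o⁻¹) * a⁻¹) * (a * o * a⁻¹ * o⁻¹) := by group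
        rw [e, hc a ha _ (hb' o ho)]
        exact mul_mem (hb' o ho) (ha' o ho)
      inv_mem' := by
        rintro a ⟨ha, ha'⟩
        refine ⟨inv_mem ha, fun o ho => ?_⟩
        have e : a⁻¹ * o * a⁻¹⁻¹ * o⁻¹ = (a⁻¹ * (a * o * a⁻¹ * o⁻¹) * a⁻¹⁻¹)⁻¹ := by group
        rw [e, hc _ (inv_mem ha) _ (ha' o ho)]
        exact inv_mem (ha' o ho) }
  have hNC : N ≤ C := fun g hg => hg.1
  have hCN : C ≤ normalizer (N : Set G) := by
    have key : ∀ c ∈ C, ∀ g ∈ N, c * g * c⁻¹ ∈ N := by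
      rintro c hcC g ⟨hg, hg'⟩
      refine ⟨mul_mem (mul_mem hcC hg) (inv_mem hcC), fun o ho => ?_⟩
      have h1 : c⁻¹ * o * c ∈ o2 C := by
        have := (mem_normalizer_iff.1 (MinSimple.VModule.le_normalizer_o2 C (inv_mem hcC)) o).1 ho
        rwa [inv_inv] at this
      have e : c * g * c⁻¹ * o * (c * g * c⁻¹)⁻¹ * o⁻¹ =
          c * (g * (c⁻¹ * o * c) * g⁻¹ * (c⁻¹ * o * c)⁻¹) * c⁻¹ := by group
      rw [e, hc c hcC _ (hg' _ h1)]
      exact hg' _ h1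
    intro c hcC
    rw [mem_normalizer_iff]
    refine fun g => ⟨key c hcC g, fun h => ?_⟩
    have h1 := key c⁻¹ (inv_mem hcC) _ h
    have e : c⁻¹ * (c * g * c⁻¹) * c⁻¹⁻¹ = g := by group
    rwa [e] at h1
  have hN2 : IsPGroup 2 N := by
    rintro ⟨g, hg, hg'⟩
    have h1 : g * g ∈ o2 C := char ⟨mul_mem hg hg, mem_centralizer_iff.2 fun o ho => by
      have h2 := hg' o ho
      have h3 : g * o * g⁻¹ = (g * o * g⁻¹ * o⁻¹) * o := by group
      have h4 : g * (g * o * g⁻¹) * g⁻¹ = o := by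
        rw [h3]
        have e : g * (g * o * g⁻¹ * o⁻¹ * o) * g⁻¹ = (g * (g * o * g⁻¹ * o⁻¹) * g⁻¹) * (g * o * g⁻¹) := by group
        rw [e, hc g hg _ h2]
        have e2 : g * o * g⁻¹ * o⁻¹ * (g * o * g⁻¹) = (g * o * g⁻¹ * o⁻¹) * (g * o * g⁻¹ * o⁻¹) * o := by group
        rw [e2, V2 _ h2, one_mul]
      calc o * (g * g) = (g * (g * o * g⁻¹) * g⁻¹) * (g * g) := by rw [h4]
        _ = g * g * o := by group⟩
    obtain ⟨n, hn⟩ := MinSimple.VModule.o2_isPGroup C ⟨_, h1⟩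
    refine ⟨n + 1, Subtype.ext ?_⟩
    have h2 : (g * g) ^ 2 ^ n = 1 := congrArg Subtype.val hn
    change g ^ 2 ^ (n + 1) = 1
    rw [pow_succ, mul_comm (2 ^ n) 2, pow_mul, pow_two, h2]
  have hWN : W ≤ N := fun w hw => ⟨WC hw, hW w hw⟩
  exact hWN.trans (MinSimple.VModule.le_o2 hNC hN2 hCN)

/-- `C_G(V)` normalises `O₂(C_G(V))`, in conjugation form. -/
theorem conj_o2 {C : Subgroup G} {c o : G} (hc : c ∈ C) (ho : o ∈ o2 C) : c * o * c⁻¹ ∈ o2 C :=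
  (mem_normalizer_iff.1 (MinSimple.VModule.le_normalizer_o2 C hc) o).1 ho

/-- The lines `V l` of `L`, permuted by `N_G(Q)`, and the elements `x l`. -/
structure Lines {ι : Type*} (Q L : Subgroup G) (V : ι → Subgroup G) (x : ι → G) : Prop where
  /-- `C_G(V_i)` has characteristic 2 -/
  char : ∀ i, centralizer (V i : Set G) ⊓ centralizer (o2 (centralizer (V i : Set G)) : Set G) ≤
    o2 (centralizer (V i : Set G))
  /-- `Q` weakly closed -/
  ON : ∀ i, o2 (centralizer (V i : Set G)) ≤ normalizer (Q : Set G)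
  QO : ∀ i, o2 (centralizer (V i : Set G)) ≤ centralizer (L : Set G) → o2 (centralizer (V i : Set G)) ≤ Q
  perm : ∀ g ∈ normalizer (Q : Set G), ∀ l, ∃ m, cj g (V l) = V m
  LV : L ≤ ⨆ l, V l
  ne : ∀ l, V l ≠ ⊥
  V2 : ∀ l, ∀ v ∈ V l, v * v = 1
  Vab : ∀ l, V l ≤ centralizer (V l : Set G)
  xN : ∀ l, x l ∈ normalizer (V l : Set G)
  xC : ∀ l m, m ≠ l → x l ∈ centralizer (V m : Set G)
  xodd : ∀ l, ∃ n, Odd n ∧ x l ^ n ∈ centralizer (V l : Set G)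
  xmv : ∀ l, x l ∉ centralizer (V l : Set G)
  xirr : ∀ l, ∀ U ≤ V l, x l ∈ normalizer (U : Set G) → U ≠ ⊥ → U = V l

namespace Lines

variable {ι : Type*} {Q L : Subgroup G} {V : ι → Subgroup G} {x : ι → G} (H : Lines Q L V x)
include H

theorem isPGroup_V (l : ι) : IsPGroup 2 (V l) := fun w => ⟨1, by
  ext
  simpa [pow_two] using H.V2 l w w.2⟩

/-- `O₂(C_G(V_i))` fixes every line. -/
theorem fix (i l : ι) {o : G} (ho : o ∈ o2 (centralizer (V i : Set G))) (hl : l ≠ i) : cj o (V l) = V l := by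
  set C := centralizer (V i : Set G) with hC
  obtain ⟨m, hm⟩ := H.perm o⁻¹ (inv_mem (H.ON i ho)) l
  by_cases hml : m = l
  · rw [hml] at hm
    have h1 := congrArg (cj o) hm
    rwa [cj_cj_inv, eq_comm] at h1
  exfalso
  have hxC : x l ∈ C := H.xC l i (Ne.symm hl)
  set y := (x l)⁻¹ * (o * x l * o⁻¹) with hy
  have hyO : y ∈ o2 C := by
    have e : y = ((x l)⁻¹ * o * (x l)⁻¹⁻¹) * o⁻¹ := by rw [hy]; group
    rw [e]
    exact mul_mem (conj_o2 (inv_mem hxC) ho) (inv_mem ho)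
  have hv1 : ∀ v ∈ V l, y * v * y⁻¹ = (x l)⁻¹ * v * x l := by
    intro v hv
    have h1 : o⁻¹ * v * o ∈ V m := by
      rw [← hm]
      exact ⟨v, hv, by simp⟩
    have h2 := mem_centralizer_iff.1 (H.xC l m hml) _ h1
    have h3 : (o * x l * o⁻¹) * v * (o * x l * o⁻¹)⁻¹ = v := by
      calc (o * x l * o⁻¹) * v * (o * x l * o⁻¹)⁻¹ = o * (x l * (o⁻¹ * v * o)) * (x l)⁻¹ * o⁻¹ := by group
        _ = o * ((o⁻¹ * v * o) * x l) * (x l)⁻¹ * o⁻¹ := by rw [← h2]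
        _ = v := by group
    calc y * v * y⁻¹ = (x l)⁻¹ * ((o * x l * o⁻¹) * v * (o * x l * o⁻¹)⁻¹) * x l := by rw [hy]; group
      _ = (x l)⁻¹ * v * x l := by rw [h3]
  have hxV : ∀ n : ℕ, ∀ v ∈ V l, (x l ^ n)⁻¹ * v * x l ^ n ∈ V l := fun n v hv => by
    have := (mem_normalizer_iff.1 (inv_mem (pow_mem (H.xN l) n)) v).1 hv
    rwa [inv_inv] at this
  have hvn : ∀ n : ℕ, ∀ v ∈ V l, y ^ n * v * (y ^ n)⁻¹ = (x l ^ n)⁻¹ * v * x l ^ n := by
    intro n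
    induction n with
    | zero => intro v _; simp
    | succ n ih =>
      intro v hv
      have h1 := hxV n v hv
      calc y ^ (n + 1) * v * (y ^ (n + 1))⁻¹ = y * (y ^ n * v * (y ^ n)⁻¹) * y⁻¹ := by rw [pow_succ']; group
        _ = y * ((x l ^ n)⁻¹ * v * x l ^ n) * y⁻¹ := by rw [ih v hv]
        _ = (x l)⁻¹ * ((x l ^ n)⁻¹ * v * x l ^ n) * x l := hv1 _ h1
        _ = (x l ^ (n + 1))⁻¹ * v * x l ^ (n + 1) := by rw [pow_succ]; group
  obtain ⟨k, hk⟩ := MinSimple.VModule.o2_isPGroup C ⟨y, hyO⟩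
  have hk' : y ^ 2 ^ k = 1 := congrArg Subtype.val hk
  have h2c : x l ^ 2 ^ k ∈ centralizer (V l : Set G) := by
    rw [mem_centralizer_iff]
    intro v hv
    have h1 := hvn (2 ^ k) v hv
    rw [hk'] at h1
    calc v * x l ^ 2 ^ k = x l ^ 2 ^ k * ((x l ^ 2 ^ k)⁻¹ * v * x l ^ 2 ^ k) := by group
      _ = x l ^ 2 ^ k * (1 * v * 1⁻¹) := by rw [← h1]
      _ = x l ^ 2 ^ k * v := by group
  obtain ⟨n, hn, hnc⟩ := H.xodd l
  apply H.xmv l
  have hco : Nat.Coprime (2 ^ k) n := Nat.Coprime.pow_left k (Nat.coprime_two_left.2 hn)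
  have h3 : x l ^ (Nat.gcd (2 ^ k) n) ∈ centralizer (V l : Set G) := by
    rw [← zpow_natCast, Nat.gcd_eq_gcd_ab, zpow_add, zpow_mul, zpow_mul, zpow_natCast, zpow_natCast]
    exact mul_mem (zpow_mem h2c _) (zpow_mem hnc _)
  rwa [Nat.Coprime.gcd_eq_one hco, pow_one] at h3

/-- `O₂(C_G(V_i))` centralises every line. -/
theorem cent_V (i l : ι) : o2 (centralizer (V i : Set G)) ≤ centralizer (V l : Set G) := by
  by_cases hl : l = i
  · rw [hl]; exact MinSimple.VModule.o2_le _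
  set C := centralizer (V i : Set G) with hC
  have hN : ∀ o ∈ o2 C, ∀ v ∈ V l, o * v * o⁻¹ ∈ V l := fun o ho v hv => by
    rw [← H.fix i l ho hl]
    exact ⟨v, hv, rfl⟩
  have h2 : IsPGroup 2 (V l) := H.isPGroup_V l
  have hxC : x l ∈ C := H.xC l i (Ne.symm hl)
  have hU : V l ⊓ centralizer (o2 C : Set G) ≠ ⊥ := by
    obtain ⟨m, hm, hm1, hmO⟩ := NO3b.ClosedPow.exists_fixed_mod (S := o2 C) (B := V l) (A := ⊥)
      (MinSimple.VModule.o2_isPGroup C) h2 hN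
      (fun t _ b hb => by rw [mem_bot] at hb ⊢; rw [hb]; group)
      (fun t _ b hb => by rw [mem_bot] at hb ⊢; rw [hb]; group) (fun h => H.ne l (le_bot_iff.1 h))
    intro h0
    apply hm1
    rw [← h0]
    refine ⟨hm, mem_centralizer_iff.2 fun o ho => ?_⟩
    have h1 := mem_bot.1 (hmO o ho)
    unfold NO3b.ClosedPow.cm at h1
    exact mul_inv_eq_one.1 (by rw [← h1]; group)
  have h3 : x l ∈ normalizer ((V l ⊓ centralizer (o2 C : Set G) : Subgroup G) : Set G) := by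
    rw [mem_normalizer_iff_cj, cj_inf, cj_eq_of_mem_normalizer (H.xN l), cj_centralizer,
      cj_eq_of_mem_normalizer (MinSimple.VModule.le_normalizer_o2 C hxC)]
  have h4 := H.xirr l _ inf_le_left h3 hU
  rw [le_centralizer_iff]
  exact inf_eq_left.1 h4

theorem cent_L (i : ι) : o2 (centralizer (V i : Set G)) ≤ centralizer (L : Set G) := by
  rw [le_centralizer_iff]
  refine H.LV.trans (iSup_le fun l => ?_)
  rw [le_centralizer_iff]
  exact H.cent_V i l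

theorem le_Q (i : ι) : o2 (centralizer (V i : Set G)) ≤ Q := H.QO i (H.cent_L i)

/-- **(3), `l = i`**: a subgroup `W` of `C_G(V_i)` with `[W, Q] ≤ V_i` lies in `O₂(C_G(V_i))`. -/
theorem self (i : ι) {W : Subgroup G} (WV : W ≤ centralizer (V i : Set G))
    (WQ : ∀ w ∈ W, ∀ q ∈ Q, q * w * q⁻¹ * w⁻¹ ∈ V i) : W ≤ o2 (centralizer (V i : Set G)) := by
  refine le_o2_of_comm (V := V i) le_rfl (fun v hv => H.V2 i v hv) (H.char i) WV fun w hw o ho => ?_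
  have h1 := WQ w hw o (H.le_Q i ho)
  have e : w * o * w⁻¹ * o⁻¹ = (o * w * o⁻¹ * w⁻¹)⁻¹ := by group
  rw [e]
  exact inv_mem h1

/-- **(3), `l ≠ i`**: `K ≤ C_G(V_i)` irreducible on `W ≤ C_G(V_i)`, `Q` normalises `W`: `W ≤ O₂(C_G(V_i))`. -/
theorem other (i : ι) {W K : Subgroup G} (W2 : ∀ w ∈ W, w * w = 1) (WV : W ≤ centralizer (V i : Set G))
    (QW : Q ≤ normalizer (W : Set G)) (KV : K ≤ centralizer (V i : Set G)) (KW : K ≤ normalizer (W : Set G))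
    (irr : ∀ U ≤ W, K ≤ normalizer (U : Set G) → U ≠ ⊥ → U = W) : W ≤ o2 (centralizer (V i : Set G)) := by
  by_cases hW : W = ⊥
  · rw [hW]; exact bot_le
  set C := centralizer (V i : Set G) with hC
  have hW2 : IsPGroup 2 W := fun w => ⟨1, by
    ext
    simpa [pow_two] using W2 w w.2⟩
  have hU : W ⊓ centralizer (o2 C : Set G) ≠ ⊥ := by
    obtain ⟨m, hm, hm1, hmO⟩ := NO3b.ClosedPow.exists_fixed_mod (S := o2 C) (B := W) (A := ⊥)
      (MinSimple.VModule.o2_isPGroup C) hW2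
      (fun t ht b hb => (mem_normalizer_iff.1 (QW (H.le_Q i ht)) b).1 hb)
      (fun t _ b hb => by rw [mem_bot] at hb ⊢; rw [hb]; group)
      (fun t _ b hb => by rw [mem_bot] at hb ⊢; rw [hb]; group)
      (fun h => hW (le_bot_iff.1 h))
    intro h0
    apply hm1
    rw [← h0]
    refine ⟨hm, mem_centralizer_iff.2 fun o ho => ?_⟩
    have h1 := mem_bot.1 (hmO o ho)
    unfold NO3b.ClosedPow.cm at h1
    exact mul_inv_eq_one.1 (by rw [← h1]; group)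
  have h3 : K ≤ normalizer ((W ⊓ centralizer (o2 C : Set G) : Subgroup G) : Set G) := fun k hk => by
    rw [mem_normalizer_iff_cj, cj_inf, cj_eq_of_mem_normalizer (KW hk), cj_centralizer,
      cj_eq_of_mem_normalizer (MinSimple.VModule.le_normalizer_o2 C (KV hk))]
  have h4 := inf_eq_left.1 (irr _ inf_le_left h3 hU)
  exact (le_inf WV h4).trans (H.char i)

end Lines

/-- The input of (3). -/
structure Three {ι : Type*} (Q L : Subgroup G) (V W K : ι → Subgroup G) (x : ι → G) : Prop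
    extends Lines Q L V x where
  VW : ∀ l, V l ≤ W l
  W2 : ∀ l, ∀ w ∈ W l, w * w = 1
  WV : ∀ i l, W l ≤ centralizer (V i : Set G)
  WQ : ∀ i, ∀ w ∈ W i, ∀ q ∈ Q, q * w * q⁻¹ * w⁻¹ ∈ V i
  KV : ∀ i l, i ≠ l → K l ≤ centralizer (V i : Set G)
  KW : ∀ l, K l ≤ normalizer (W l : Set G)
  irr : ∀ l, ∀ U ≤ W l, K l ≤ normalizer (U : Set G) → U ≠ ⊥ → U = W l

namespace Three

variable {ι : Type*} {Q L : Subgroup G} {V W K : ι → Subgroup G} {x : ι → G} (H : Three Q L V W K x)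
include H

theorem isPGroup_W (l : ι) : IsPGroup 2 (W l) := fun w => ⟨1, by
  ext
  simpa [pow_two] using H.W2 l w w.2⟩

theorem QW (l : ι) : Q ≤ normalizer (W l : Set G) := by
  have key : ∀ q ∈ Q, ∀ w ∈ W l, q * w * q⁻¹ ∈ W l := fun q hq w hw => by
    have h1 := mul_mem (H.VW l (H.WQ l w hw q hq)) hw
    rwa [inv_mul_cancel_right] at h1
  intro q hq
  rw [mem_normalizer_iff]
  refine fun w => ⟨key q hq w, fun h => ?_⟩
  have h1 := key q⁻¹ (inv_mem hq) _ h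
  have e : q⁻¹ * (q * w * q⁻¹) * q⁻¹⁻¹ = w := by group
  rwa [e] at h1

/-- **(3)** -/
theorem W_le (i l : ι) : W l ≤ o2 (centralizer (V i : Set G)) := by
  by_cases hl : l = i
  · rw [hl]
    exact H.toLines.self i (H.WV i i) (H.WQ i)
  · exact H.toLines.other i (H.W2 l) (H.WV i l) (H.QW l) (H.KV i l (Ne.symm hl)) (H.KW l) (H.irr l)

theorem V_le (i l : ι) : V l ≤ o2 (centralizer (V i : Set G)) := (H.VW l).trans (H.W_le i l)

theorem L_le (i : ι) : L ≤ o2 (centralizer (V i : Set G)) := H.LV.trans (iSup_le fun l => H.V_le i l)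

theorem W_le_Q (i l : ι) : W l ≤ Q := (H.W_le i l).trans (H.toLines.le_Q i)

/-- `W_l ∩ W_m = 1` -/
theorem disj {l m : ι} (hQ : W l ⊓ centralizer (Q : Set G) ≤ V l) (hQ' : W m ⊓ centralizer (Q : Set G) ≤ V m)
    (hd : V l ⊓ V m = ⊥) (Q2 : IsPGroup 2 Q) : W l ⊓ W m = ⊥ := by
  by_contra hne
  have hN : ∀ l, ∀ q ∈ Q, ∀ w ∈ W l, q * w * q⁻¹ ∈ W l := fun l q hq w hw => by
    have h1 := mul_mem (H.VW l (H.WQ l w hw q hq)) hw
    rwa [inv_mul_cancel_right] at h1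
  obtain ⟨v, hv, hv1, hvQ⟩ := NO3b.ClosedPow.exists_fixed_mod (S := Q) (B := W l ⊓ W m) (A := ⊥)
    Q2 ((H.isPGroup_W l).to_le inf_le_left) (fun q hq w hw => ⟨hN l q hq w hw.1, hN m q hq w hw.2⟩)
    (fun t _ b hb => by rw [mem_bot] at hb ⊢; rw [hb]; group)
    (fun t _ b hb => by rw [mem_bot] at hb ⊢; rw [hb]; group) (fun h => hne (le_bot_iff.1 h))
  apply hv1
  have hc : v ∈ centralizer (Q : Set G) := mem_centralizer_iff.2 fun o ho => by
    have h1 := mem_bot.1 (hvQ o ho)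
    unfold NO3b.ClosedPow.cm at h1
    exact mul_inv_eq_one.1 (by rw [← h1]; group)
  rw [← hd]
  exact ⟨hQ ⟨hv.1, hc⟩, hQ' ⟨hv.2, hc⟩⟩

end Three

/-- `t = q o` moves `W / V`, `q` does not: `o` moves `W / V`. -/
theorem moves {Q O V W : Subgroup G} {t q o w : G} (hq : q ∈ Q) (ho : o ∈ O) (e : t = q * o)
    (hQ : ∀ q ∈ Q, ∀ w ∈ W, q * w * q⁻¹ * w⁻¹ ∈ V) (VW : V ≤ W) (hw : w ∈ W)
    (ht : t * w * t⁻¹ * w⁻¹ ∉ V) : ¬ ⁅O, W⁆ ≤ V := by
  intro h
  apply ht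
  have h1 : o * w * o⁻¹ * w⁻¹ ∈ V := h (commutator_mem_commutator ho hw)
  have h2 : o * w * o⁻¹ ∈ W := by
    have := mul_mem (VW h1) hw
    rwa [inv_mul_cancel_right] at this
  have h3 := hQ q hq _ h2
  have e2 : t * w * t⁻¹ * w⁻¹ = (q * (o * w * o⁻¹) * q⁻¹ * (o * w * o⁻¹)⁻¹) * (o * w * o⁻¹ * w⁻¹) := by
    rw [e]; group
  rw [e2]
  exact mul_mem h3 h1

end Cfsg.Agent.Omega.NO3S.WY.Tor

end

section


/-!
# THEOREM TOR (3), over the frame

* `Cx.exists_cj_le` : Sylow; `Cx.lines` : the lines `V_i` and the elements `d_i` satisfy `Lines`;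
* `Cx.o2_le_Q`, `Cx.o2_cL` : `O₂(C_G(V_i)) ≤ Q`;
* `TY.W_le_o2'` : `W_j ≤ O₂(C_G(V_l))`, `l ≠ j` (any `F`); `TY.W_le_o2` : all `l` (`F = 1`); `TY.W_le_Q`;
* `TY.YV` : `Y_j` normalises `V_i`.
-/

set_option autoImplicit false
set_option linter.unusedSectionVars false

namespace Cfsg.Agent.Omega.NO3S.WY.Tor

open Subgroup Cfsg Cfsg.Agent.ZN Cfsg.Agent.ZN.ChoiceBase
open Cfsg.Agent.ZN.ChoiceSit (Syl)
open Cfsg.Agent.MinSimple.MinParabolic (IsMinPar)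
open Cfsg.Agent.MinSimple.VModule (oddGen oddGen_def mem_oddGen)
open scoped commutatorElement

universe u

variable {G : Type u} [Group G] {ι : Type}

namespace Cx

variable {S B Q M X L : Subgroup G} {V : ι → Subgroup G} {z : ι → G} (c : Cx S B Q M X L V z)
include c

theorem exists_cj_le [Finite G] {R : Subgroup G} (hR : IsPGroup 2 R) : ∃ g, cj g R ≤ S := by
  have : Fact (Nat.Prime 2) := ⟨Nat.prime_two⟩
  obtain ⟨T, hT⟩ := hR.exists_le_sylow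
  obtain ⟨g, hg⟩ := MulAction.exists_smul_eq G T (c.S2.toSylow c.Sidx)
  refine ⟨g, fun x hx => ?_⟩
  obtain ⟨r, hr, rfl⟩ := hx
  have h1 : (g • T : Sylow 2 G) = c.S2.toSylow c.Sidx := hg
  have h2 : g * r * g⁻¹ ∈ ((g • T : Sylow 2 G) : Subgroup G) := by
    rw [Sylow.coe_subgroup_smul, mem_pointwise_smul_iff_inv_smul_mem]
    have : (MulAut.conj g)⁻¹ • (g * r * g⁻¹) = r := by
      rw [← map_inv, MulAut.smul_def, MulAut.conj_apply]; group
    rw [this]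
    exact hT hr
  rw [h1] at h2
  exact h2

/-- a 2-group normalised by `Q` normalises `Q`; it lies in `Q` if it centralises `L` -/
theorem norm_Q [Finite G] {R : Subgroup G} (hR : IsPGroup 2 R) (hQ : Q ≤ normalizer (R : Set G)) :
    R ≤ normalizer (Q : Set G) ∧ (R ≤ centralizer (L : Set G) → R ≤ Q) := by
  obtain ⟨g, hg⟩ := c.exists_cj_le (IsPGroup.to_sup_of_normal_right' (c.S2.to_le c.QS) hR hQ)
  have h1 : cj g Q = Q := c.wc g ((cj_mono g le_sup_left).trans hg)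
  have h2 : g ∈ normalizer (Q : Set G) := mem_normalizer_iff_cj.2 h1
  have h3 : ∀ r ∈ R, g * r * g⁻¹ ∈ S := fun r hr => ((cj_mono g le_sup_right).trans hg) ⟨r, hr, rfl⟩
  refine ⟨fun r hr => ?_, fun hc r hr => ?_⟩
  · have h4 := c.SQ (h3 r hr)
    have e : r = g⁻¹ * (g * r * g⁻¹) * g := by group
    rw [e]
    exact mul_mem (mul_mem (inv_mem h2) h4) h2
  · have h4 : g * r * g⁻¹ ∈ Q := c.cSL _ (h3 r hr) fun l hl => by
      have h5 : g⁻¹ * l * g ∈ L := by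
        have := conj_mem (c.norm_L (inv_mem h2)) hl
        rwa [inv_inv] at this
      have h6 := mem_centralizer_iff.1 (hc hr) _ h5
      calc g * r * g⁻¹ * l = g * (r * (g⁻¹ * l * g)) * g⁻¹ := by group
        _ = g * ((g⁻¹ * l * g) * r) * g⁻¹ := by rw [h6]
        _ = l * (g * r * g⁻¹) := by group
    exact (mem_normalizer_iff.1 h2 r).2 h4

theorem V2 (i : ι) : IsPGroup 2 (V i) := c.S2.to_le ((c.VX i).trans c.XS)

theorem Q_cV (i : ι) : Q ≤ centralizer (V i : Set G) := fun q hq => mem_centralizer_iff.2 fun v hv =>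
  (c.cQL q hq v (c.VL i hv)).symm

theorem char (i : ι) [Finite G] : centralizer (V i : Set G) ⊓ centralizer (o2 (centralizer (V i : Set G)) : Set G) ≤
    o2 (centralizer (V i : Set G)) := NOne.LemmaT.char2_centralizer c.char2 (c.V2 i) (c.V_ne_bot i)

/-- the lines, with the properties of the `d_i` -/
theorem lines' [Finite G] : ∃ x : ι → G, Lines Q L V x ∧ (∀ i, x i ∈ M) ∧ (∀ i, x i ∈ normalizer (Q : Set G)) ∧
    ∀ i, x i * z i * (x i)⁻¹ ≠ z i := by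
  choose d hdM hdQ ho hdc hdz using c.d
  have hN : ∀ i, d i ∈ normalizer (V i : Set G) := by
    intro i
    obtain ⟨m, hm⟩ := c.perm (d i) (hdQ i) i
    by_cases hmi : m = i
    · rw [mem_normalizer_iff_cj, hm, hmi]
    · exfalso
      apply hmi
      apply c.V_inj
      have h1 : cj (d i) (V m) = V m := cj_eq_of_mem_normalizer
        ((centralizer_le_normalizer _) (mem_centralizer_iff.2 fun v hv => (hdc i m hmi v hv).symm))
      have h2 := congrArg (cj (d i)⁻¹) (h1.trans hm.symm)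
      rwa [cj_inv_cj, cj_inv_cj] at h2
  have hQO : ∀ i, Q ≤ normalizer (o2 (centralizer (V i : Set G)) : Set G) := fun i =>
    (c.Q_cV i).trans (MinSimple.VModule.le_normalizer_o2 _)
  refine ⟨d, ⟨fun i => c.char i, fun i => (c.norm_Q (MinSimple.VModule.o2_isPGroup _) (hQO i)).1,
    fun i => (c.norm_Q (MinSimple.VModule.o2_isPGroup _) (hQO i)).2, c.perm, c.eL.le, c.V_ne_bot,
    fun l v hv => c.Xs v (c.VX l hv), fun l v hv => mem_centralizer_iff.2 fun w hw => c.xc (c.VX l hw) (c.VX l hv),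
    hN, fun l m hm => mem_centralizer_iff.2 fun v hv => (hdc l m hm v hv).symm,
    fun l => ⟨orderOf (d l), ho l, by rw [pow_orderOf_eq_one]; exact one_mem _⟩, fun l hl => ?_,
    fun l U hU hUn hU1 => ?_⟩, hdM, hdQ, hdz⟩
  · apply hdz l
    rw [← mem_centralizer_iff.1 hl _ (c.zV l)]
    group
  · have h1 : Nat.card U ∣ 4 := by
      rw [← c.cV l]
      exact Subgroup.card_dvd_of_le hU
    have h2 : Nat.card U ≠ 1 := fun e => hU1 (Subgroup.card_eq_one.1 e)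
    have h3 : Nat.card U = 2 ∨ Nat.card U = 4 := by
      have h4 := Nat.le_of_dvd (by norm_num) h1
      have h5 : 0 < Nat.card U := Nat.card_pos
      generalize Nat.card U = n at *
      interval_cases n
      · exact absurd rfl h2
      · exact Or.inl rfl
      · exact absurd h1 (by norm_num)
      · exact Or.inr rfl
    rcases h3 with h3 | h3
    · exfalso
      have h4 := Four.rel_mul_card hU
      rw [h3, c.cV l] at h4
      have h5 := Four.comm_mem_of_two hU (by omega) (hN l) hUn (c.zV l)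
      rw [commutatorElement_def] at h5
      -- `d` centralises `U`
      have h6 : ∀ u ∈ U, d l * u = u * d l := by
        intro u hu
        have h7 : (⊥ : Subgroup G).relIndex U = 2 := by
          rw [relIndex_bot_left, h3]
        have h8 := Four.comm_mem_of_two (W₀ := ⊥) bot_le h7 hUn (by
          rw [mem_normalizer_iff]; intro x; simp) hu
        rw [mem_bot, commutatorElement_def] at h8
        exact comm_iff.1 h8
      have h9 := odd_comm (ho l) (c.Xs _ (c.VX l (hU h5))) (h6 _ h5) (c.xc (c.VX l (hU h5)) (c.zX l)) rfl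
      apply hdz l
      rw [h9]; group
    · exact Subgroup.eq_of_le_of_card_ge hU (by rw [h3, c.cV l])

/-- the lines -/
theorem lines [Finite G] : ∃ x : ι → G, Lines Q L V x := by
  obtain ⟨x, H, -⟩ := c.lines'
  exact ⟨x, H⟩

theorem o2_cL [Finite G] (i : ι) : o2 (centralizer (V i : Set G)) ≤ centralizer (L : Set G) := by
  obtain ⟨x, H⟩ := c.lines
  exact H.cent_L i

/-- **`O₂(C_G(V_i)) ≤ Q`** -/
theorem o2_le_Q [Finite G] (i : ι) : o2 (centralizer (V i : Set G)) ≤ Q := by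
  obtain ⟨x, H⟩ := c.lines
  exact H.le_Q i

end Cx

namespace TY

variable {S B Q M X L : Subgroup G} {V : ι → Subgroup G} {z : ι → G} {𝓦 : Set (Subgroup G)} {j : ι}
  {Y W F : Subgroup G}

/-- **(3)**, `l ≠ j`, any `F` -/
theorem W_le_o2' [Finite G] (c : Cx S B Q M X L V z) (h : TY S B Q M X V z 𝓦 j Y W F)
    (hc : oddGen Y ≤ centralizer (VV V j : Set G)) {l : ι} (hl : l ≠ j) : W ≤ o2 (centralizer (V l : Set G)) := by
  set C := centralizer (V l : Set G) with hC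
  have hKC : oddGen Y ≤ C := hc.trans (centralizer_le (c.V_VV hl))
  have hWC : W ≤ C := fun w hw => mem_centralizer_iff.2 fun v hv => c.xc (c.VX l hv) (h.WX hw)
  by_cases hm : o2 C ≤ centralizer (W : Set G)
  · rw [le_centralizer_iff] at hm
    exact (le_inf hWC hm).trans (c.char l)
  exfalso
  have e := h.cWA c (c.o2_le_Q l) hm
  have h1 : oddGen Y ≤ normalizer ((V j ⊔ F : Subgroup G) : Set G) := fun y hy => by
    have hyY : y ∈ Y := MinSimple.VModule.oddGen_le Y hy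
    rw [← e, mem_normalizer_iff_cj, cj_inf, cj_eq_of_mem_normalizer (h.YW hyY), cj_centralizer,
      cj_eq_of_mem_normalizer (MinSimple.VModule.le_normalizer_o2 C (hKC hy))]
  have h2 : B ≤ normalizer ((V j ⊔ F : Subgroup G) : Set G) := fun b hb => by
    have h3 : b ∈ normalizer (F : Set G) := (centralizer_le_normalizer _) (mem_centralizer_iff.2 fun f hf =>
      (h.cF (h.BY hb) hf).symm)
    rw [mem_normalizer_iff_cj, cjs, cj_eq_of_mem_normalizer (c.BV j hb), cj_eq_of_mem_normalizer h3]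
  have h3 : Y ≤ normalizer ((V j ⊔ F : Subgroup G) : Set G) := by
    rw [← h.oddB c]
    exact sup_le h1 h2
  have h4 := Subgroup.card_le_of_le (h.gen _ ((le_sup_left : V j ≤ V j ⊔ F) (c.zV j)) h3)
  rw [h.cW, h.card_VF c] at h4
  have h5 : 0 < Nat.card F := Nat.card_pos
  omega

/-- **(3)** -/
theorem W_le_o2 [Finite G] (c : Cx S B Q M X L V z) (h : TY S B Q M X V z 𝓦 j Y W F) (hF : F = ⊥)
    (hc : oddGen Y ≤ centralizer (VV V j : Set G)) (l : ι) : W ≤ o2 (centralizer (V l : Set G)) := by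
  by_cases hl : l = j
  · subst hl
    obtain ⟨x, H⟩ := c.lines
    refine H.self l (fun w hw => mem_centralizer_iff.2 fun v hv => c.xc (c.VX l hv) (h.WX hw)) fun w hw q hq => ?_
    have := h.quad q hq w hw
    rwa [hF, sup_bot_eq] at this
  · exact h.W_le_o2' c hc hl

/-- `W ≤ Q` -/
theorem W_le_Q [Finite G] (c : Cx S B Q M X L V z) (h : TY S B Q M X V z 𝓦 j Y W F) (hF : F = ⊥)
    (hc : oddGen Y ≤ centralizer (VV V j : Set G)) : W ≤ Q := (h.W_le_o2 c hF hc j).trans (c.o2_le_Q j)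

/-- `Y_j` normalises `V_i`, `i ≠ j` -/
theorem YV [Finite G] (c : Cx S B Q M X L V z) (h : TY S B Q M X V z 𝓦 j Y W F)
    (hc : oddGen Y ≤ centralizer (VV V j : Set G)) {i : ι} (hi : i ≠ j) : Y ≤ normalizer (V i : Set G) := by
  rw [← h.oddB c]
  exact sup_le ((hc.trans (centralizer_le (c.V_VV hi))).trans (centralizer_le_normalizer _)) (c.BV i)

end TY

end Cfsg.Agent.Omega.NO3S.WY.Tor

end

section


/-!
# THEOREM TOR: `Ker0` and (4+) over the frame `Cx`, `Off`, `TY` of helper474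

* `OddK X Q Y` : the conclusion of (0) (literal `TY.odd_ker` of helper491);
* `QW` : a member of `𝓦` in `S` which moves `W` covers `Q / C_Q(W)`;
* `ker0` : `Four.Ker0 Y Q (X ⊓ O₂(C_G(D)))` for every `1 ≠ D ≤ L` normalised by `Y`;
* `Ln5`, `exists_ln5` : the five lines if `F = 1`; `Ln5.cent` : `y ∈ Y` which centralises a line and one vector `≠ 1` of
  another line centralises `W`; `exists_q` : `[Q, w] = V_j` for `w ∈ W - V_j`;
* `mem_QO` : `t ∈ B`, `t` centralises `V_j` ⇒ `t ∈ Q O₂(Y)`; `mv_quot` : `t ∈ B` moves `V_j` ⇒ `t` moves `W / V_j`;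
* `kc` : **(4+)** = the input `KC` of `TY.false_end`.
-/

set_option autoImplicit false
set_option linter.unusedSectionVars false

namespace Cfsg.Agent.Omega.NO3S.WY.Tor.FourTY

open Subgroup Cfsg Cfsg.Agent.ZN Cfsg.Agent.ZN.ChoiceBase
open Cfsg.Agent.ZN.ChoiceSit (Syl)
open Cfsg.Agent.MinSimple.VModule (oddGen oddGen_le mem_oddGen)
open Cfsg.Agent.Omega.SQ1.Bau (mem_sup_comm card_sup_comm)
open scoped commutatorElement

universe u

variable {G : Type u} [Group G] {ι : Type}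

/-- **(0)**: literal of `TY.odd_ker` -/
def OddK (X Q Y : Subgroup G) : Prop :=
  ∀ N N₀ : Subgroup G, N ≤ X → N₀ ≤ N → Y ≤ normalizer (N : Set G) → Y ≤ normalizer (N₀ : Set G) →
    (∀ n ∈ N, ∀ y ∈ o2 Y, y * n * y⁻¹ * n⁻¹ ∈ N₀) →
    (∀ n ∈ N, ∀ a ∈ Q, ∀ b ∈ Q, b * (a * n * a⁻¹ * n⁻¹) * b⁻¹ * (a * n * a⁻¹ * n⁻¹)⁻¹ ∈ N₀) →
    ∀ v ∈ N, (∀ y ∈ Y, y ∈ normalizer (Q : Set G) → y * v * y⁻¹ * v⁻¹ ∈ N₀) → ∀ y ∈ Y, y * v * y⁻¹ * v⁻¹ ∈ N₀

variable [Finite G] {S B Q M X L : Subgroup G} {V : ι → Subgroup G} {z : ι → G} {𝓦 : Set (Subgroup G)} {j : ι}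
  {Y W F : Subgroup G}

/-- a member of `𝓦` which moves `W` covers `Q / C_Q(W)` -/
theorem QW (c : Cx S B Q M X L V z) (o : Off S Q M X L 𝓦) (h : TY S B Q M X V z 𝓦 j Y W F)
    {D : Subgroup G} (hD : D ≠ ⊥) (hDL : D ≤ L) (hW : W ≤ o2 (centralizer (D : Set G)))
    {A : Subgroup G} (hA : A ∈ 𝓦) (hAS : A ≤ S) (hm : ¬ A ≤ centralizer (W : Set G)) :
    Q ≤ A ⊔ (Q ⊓ centralizer (W : Set G)) := by
  have hAQ : A ≤ Q := o.AQ A hA hAS
  have h1 := o.best A hA hAS 1 (one_mem _) D hD (by rw [cj_one]; exact hDL) W h.WX hW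
    (A ⊓ centralizer (W : Set G)) (by rw [cj_one]; exact inf_le_left)
  rw [cj_one] at h1
  have h2 : W ⊓ centralizer ((A ⊓ centralizer (W : Set G) : Subgroup G) : Set G) = W := by
    refine inf_eq_left.2 ?_
    rw [le_centralizer_iff]
    exact inf_le_right
  have h3 : W ⊓ centralizer (A : Set G) ≤ V j ⊔ F := by
    rintro w ⟨hw, hwA⟩
    by_contra hcon
    apply hm
    intro a ha
    have h4 := h.free a (hAQ ha) w hw hcon (by
      have h5 : a * w = w * a := mem_centralizer_iff.1 hwA a ha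
      rw [h5, mul_inv_cancel_right, mul_inv_cancel]
      exact one_mem _)
    exact mem_centralizer_iff.2 fun u hu => (h4 u hu).symm
  have h4 := Subgroup.card_le_of_le h3
  rw [h.card_VF c] at h4
  rw [h2, h.cW] at h1
  have hF : 0 < Nat.card F := Nat.card_pos
  have h5 : 4 * Nat.card ↥(A ⊓ centralizer (W : Set G)) ≤ Nat.card A := by
    have h6 : Nat.card ↥(A ⊓ centralizer (W : Set G)) * (16 * Nat.card F) ≤ Nat.card A * (4 * Nat.card F) :=
      h1.trans (Nat.mul_le_mul_left _ h4)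
    have h7 : (4 * Nat.card ↥(A ⊓ centralizer (W : Set G))) * (4 * Nat.card F) ≤ Nat.card A * (4 * Nat.card F) := by
      calc (4 * Nat.card ↥(A ⊓ centralizer (W : Set G))) * (4 * Nat.card F)
          = Nat.card ↥(A ⊓ centralizer (W : Set G)) * (16 * Nat.card F) := by ring
        _ ≤ _ := h6
    exact Nat.le_of_mul_le_mul_right h7 (by omega)
  set C := Q ⊓ centralizer (W : Set G) with hC
  have hAC : A ⊓ centralizer (W : Set G) = A ⊓ C := by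
    rw [hC, ← inf_assoc, inf_eq_left.2 hAQ]
  -- indices
  have i1 : C.relIndex Q * Nat.card C = Nat.card Q := Four.rel_mul_card inf_le_left
  rw [h.cardQ] at i1
  have hCp : 0 < Nat.card C := Nat.card_pos
  have i2 : C.relIndex Q = 4 := Nat.eq_of_mul_eq_mul_right hCp i1
  have i3 : (A ⊓ C).relIndex A * Nat.card ↥(A ⊓ C) = Nat.card A := Four.rel_mul_card inf_le_left
  have i4 : 4 ≤ C.relIndex A := by
    have e : (A ⊓ C).relIndex A = C.relIndex A := inf_relIndex_left A C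
    rw [e, ← hAC] at i3
    have hp : 0 < Nat.card ↥(A ⊓ centralizer (W : Set G)) := Nat.card_pos
    rw [← i3] at h5
    exact Nat.le_of_mul_le_mul_right h5 hp
  have i5 : C.relIndex (A ⊔ C) * (A ⊔ C).relIndex Q = C.relIndex Q :=
    relIndex_mul_relIndex C (A ⊔ C) Q le_sup_right (sup_le hAQ inf_le_left)
  have i6 : C.relIndex A ≤ C.relIndex (A ⊔ C) := relIndex_le_of_le_right le_sup_left (by
    intro h0; rw [h0] at i5; omega)
  rw [i2] at i5
  have i7 : (A ⊔ C).relIndex Q = 1 := by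
    have h8 : 0 < (A ⊔ C).relIndex Q := Nat.pos_of_ne_zero (by intro h0; rw [h0] at i5; omega)
    by_contra h9
    have h10 : 2 ≤ (A ⊔ C).relIndex Q := by omega
    nlinarith
  exact relIndex_eq_one.1 i7

/-- **`Ker0` over the frame.** -/
theorem ker0 (c : Cx S B Q M X L V z) (o : Off S Q M X L 𝓦) (h : TY S B Q M X V z 𝓦 j Y W F)
    {D : Subgroup G} (hD : D ≠ ⊥) (hDL : D ≤ L) (hYD : Y ≤ normalizer (D : Set G))
    (hW : W ≤ o2 (centralizer (D : Set G))) (ok : OddK X Q Y) :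
    Four.Ker0 Y Q (X ⊓ o2 (centralizer (D : Set G))) := by
  set A := X ⊓ o2 (centralizer (D : Set G)) with hA
  intro N₁ hN₁ hYN v hv hf
  have hYA : Y ≤ normalizer (A : Set G) := by
    intro y hy
    rw [hA, mem_normalizer_iff_cj, cj_inf, cj_eq_of_mem_normalizer (c.MX (h.YM hy)),
      cj_eq_of_mem_normalizer (normalizer_le_of_cj (F := fun T => o2 (centralizer (T : Set G)))
        (fun g T => by rw [← ChoiceSit.o2_cj, cj_centralizer]) D (hYD hy))]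
  have hVn : ∀ x ∈ N₁, ∀ w ∈ A, w * x * w⁻¹ ∈ N₁ := fun x hx w hw => by
    rw [c.xc hw.1 (hN₁ hx).1, mul_inv_cancel_right]; exact hx
  obtain ⟨A₀, hA₀, hA₀S, hA₀m⟩ := h.mv
  have hA₀Q : A₀ ≤ Q := o.AQ A₀ hA₀ hA₀S
  have hQW := QW c o h hD hDL hW hA₀ hA₀S hA₀m
  have hBY := h.BY
  have hQY : Q ≤ Y := c.QB.trans hBY
  have ho2Q : o2 Y ≤ normalizer (Q : Set G) := (h.o2B c).trans c.BQ
  set N := Four.Fx (o2 Y) N₁ A hVn with hN
  have hN₁N : N₁ ≤ N := fun x hx => ⟨hN₁ hx, fun y hy => by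
    have h1 : y ∈ Y := MinSimple.VModule.o2_le Y hy
    exact Four.comm_of_mem_norm (hYN h1) hx⟩
  have hNA : N ≤ A := fun x hx => hx.1
  have hYNN : Y ≤ normalizer (N : Set G) := Four.le_norm_of_comm fun y hy w hw => by
    have h2 : y * w * y⁻¹ ∈ N := by
      refine ⟨(mem_normalizer_iff.1 (hYA hy) w).1 hw.1, fun o ho => ?_⟩
      have h4 : y⁻¹ * o * y ∈ o2 Y := by
        have := (mem_normalizer_iff.1 (ChoiceSit.le_normalizer_o2 Y (inv_mem hy)) o).1 ho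
        rwa [inv_inv] at this
      have e : ⁅o, y * w * y⁻¹⁆ = y * ⁅y⁻¹ * o * y, w⁆ * y⁻¹ := by
        simp only [commutatorElement_def]; group
      rw [e]
      exact (mem_normalizer_iff.1 (hYN hy) _).1 (hw.2 _ h4)
    rw [commutatorElement_def]
    exact mul_mem h2 (inv_mem hw)
  have hvN : v ∈ N := ⟨hv, fun y hy => hf y (MinSimple.VModule.o2_le Y hy) (ho2Q hy)⟩
  have hYX : ∀ y ∈ Y, ∀ x ∈ X, y * x * y⁻¹ ∈ X := fun y hy x hx =>
    (mem_normalizer_iff.1 (c.MX (h.YM hy)) x).1 hx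
  -- decomposition
  have hdec : ∀ a ∈ Q, ∃ a₁ ∈ A₀, ∃ p ∈ o2 Y, a = a₁ * p := by
    intro a ha
    have hnC : A₀ ≤ normalizer ((Q ⊓ centralizer (W : Set G) : Subgroup G) : Set G) := by
      rw [← h.PIW c]
      intro x hx
      have hxY := hQY (hA₀Q hx)
      rw [mem_normalizer_iff_cj, cj_inf, cj_eq_of_mem_normalizer (c.BQ (c.QB (hA₀Q hx))),
        cj_eq_of_mem_normalizer (ChoiceSit.le_normalizer_o2 Y hxY)]
    obtain ⟨a₁, ha₁, p, hp, e⟩ := SQ1.Bau.mem_sup_norm hnC (hQW ha)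
    rw [← h.PIW c] at hp
    exact ⟨a₁, ha₁, p, hp.2, e⟩
  have hq : ∀ n ∈ N, ∀ a ∈ A₀, ∀ b ∈ A₀, b * (a * n * a⁻¹ * n⁻¹) = (a * n * a⁻¹ * n⁻¹) * b := by
    intro n hn a ha b hb
    exact o.quad A₀ hA₀ hA₀S 1 (one_mem _) D hD (by rw [cj_one]; exact hDL) n (hNA hn).1 (hNA hn).2 a
      (by rw [cj_one]; exact ha) b (by rw [cj_one]; exact hb)
  intro y hy
  rw [commutatorElement_def]
  refine ok N N₁ (hNA.trans inf_le_left) hN₁N hYNN hYN (fun n hn y hy => hn.2 y hy) ?_ v hvN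
    (fun y hy hyQ => hf y hy hyQ) y hy
  intro n hn a ha b hb
  obtain ⟨a₁, ha₁, p, hp, rfl⟩ := hdec a ha
  obtain ⟨b₁, hb₁, p', hp', rfl⟩ := hdec b hb
  have ha₁Y := hQY (hA₀Q ha₁)
  have hb₁Y := hQY (hA₀Q hb₁)
  have hpY : p ∈ Y := MinSimple.VModule.o2_le Y hp
  have hp'Y : p' ∈ Y := MinSimple.VModule.o2_le Y hp'
  set m := a₁ * n * a₁⁻¹ * n⁻¹ with hm
  have hmN : m ∈ N := mul_mem ((mem_normalizer_iff.1 (hYNN ha₁Y) n).1 hn) (inv_mem hn)
  set k := a₁ * (p * n * p⁻¹ * n⁻¹) * a₁⁻¹ with hk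
  have hkN : k ∈ N₁ := (mem_normalizer_iff.1 (hYN ha₁Y) _).1 (hn.2 p hp)
  have e1 : a₁ * p * n * (a₁ * p)⁻¹ * n⁻¹ = k * m := by rw [hk, hm]; group
  rw [e1]
  have hmX : m ∈ X := (hNA hmN).1
  have hkX : k ∈ X := (hN₁ hkN).1
  have e2 : b₁ * m = m * b₁ := hq n hn a₁ ha₁ b₁ hb₁
  have hk2 : b₁ * (p' * m * p'⁻¹ * m⁻¹) * b₁⁻¹ ∈ N₁ := (mem_normalizer_iff.1 (hYN hb₁Y) _).1 (hmN.2 p' hp')
  have hk3 : b₁ * p' * k * (b₁ * p')⁻¹ ∈ N₁ := (mem_normalizer_iff.1 (hYN (mul_mem hb₁Y hp'Y)) _).1 hkN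
  have e3 : b₁ * p' * (k * m) * (b₁ * p')⁻¹ * (k * m)⁻¹ =
      (b₁ * p' * k * (b₁ * p')⁻¹) * (b₁ * (p' * m * p'⁻¹ * m⁻¹) * b₁⁻¹) * ((b₁ * m) * b₁⁻¹ * m⁻¹) * k⁻¹ := by
    group
  rw [e3, e2]
  have e4 : m * b₁ * b₁⁻¹ * m⁻¹ = 1 := by group
  rw [e4, mul_one]
  exact mul_mem (mul_mem hk3 hk2) (inv_mem hkN)

/-! ### The lines, `F = 1` -/

/-- the five lines -/
structure Ln5 (Y W V₀ : Subgroup G) (ℓ : Fin 5 → Subgroup G) (π : ↥Y →* Equiv.Perm (Fin 5)) : Prop where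
  e0 : ℓ 0 = V₀
  le : ∀ a, ℓ a ≤ W
  disj : ∀ a b, a ≠ b → ℓ a ⊓ ℓ b = ⊥
  act : ∀ (y : Y) a, cj (y : G) (ℓ a) = ℓ (π y a)
  card : ∀ a, Nat.card (ℓ a) = 4
  sup : ∀ a b, a ≠ b → W ≤ ℓ a ⊔ ℓ b

theorem exists_ln5 (c : Cx S B Q M X L V z) (h : TY S B Q M X V z 𝓦 j Y W F) (hF : F = ⊥) :
    ∃ ℓ π, Ln5 Y W (V j) ℓ π := by
  subst hF
  obtain ⟨ℓ, π, e0, hℓW, hℓ, hπ, hA, -⟩ := h.act
  rw [sup_bot_eq] at e0
  have htr : ∀ a, ∃ g : Y, π g 0 = a := by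
    intro a
    by_cases ha : a = 0
    · exact ⟨1, by rw [ha]; simp⟩
    · obtain ⟨b, hb0, hba⟩ : ∃ b : Fin 5, b ≠ 0 ∧ b ≠ a := by
        by_cases h1 : a = 1
        · exact ⟨2, by decide, by rw [h1]; decide⟩
        · exact ⟨1, by decide, fun e => h1 e.symm⟩
      have h4 : (Equiv.swap (0 : Fin 5) b * Equiv.swap 0 a) ∈ alternatingGroup (Fin 5) := by
        rw [Equiv.Perm.mem_alternatingGroup, map_mul, Equiv.Perm.sign_swap (Ne.symm ha),
          Equiv.Perm.sign_swap hb0.symm]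
        decide
      obtain ⟨g, hg⟩ := hA h4
      refine ⟨g, ?_⟩
      rw [hg, Equiv.Perm.mul_apply, Equiv.swap_apply_left, Equiv.swap_apply_of_ne_of_ne ha hba.symm]
  have hcard : ∀ a, Nat.card (ℓ a) = 4 := by
    intro a
    obtain ⟨g, hg⟩ := htr a
    rw [← hg, ← hπ g 0, card_cj, e0, c.cV j]
  refine ⟨ℓ, π, e0, hℓW, hℓ, hπ, hcard, fun a b hab => ?_⟩
  have h1 := card_sup_comm (A := ℓ a) (B := ℓ b) (fun x hx y hy => c.xc (h.WX (hℓW a hx)) (h.WX (hℓW b hy)))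
  rw [hℓ a b hab, Subgroup.card_bot, mul_one, hcard, hcard] at h1
  have h2 := h.cW
  rw [Subgroup.card_bot] at h2
  exact (Subgroup.eq_of_le_of_card_ge (sup_le (hℓW a) (hℓW b)) (by rw [h1, h2])).ge

namespace Ln5

variable {V₀ : Subgroup G} {ℓ : Fin 5 → Subgroup G} {π : ↥Y →* Equiv.Perm (Fin 5)}

/-- an element with a fixed vector on a line normalises the line -/
theorem fix (l : Ln5 Y W V₀ ℓ π) {y x : G} (hy : y ∈ Y) {a : Fin 5} (hx : x ∈ ℓ a) (hx1 : x ≠ 1)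
    (hyx : y * x = x * y) : cj y (ℓ a) = ℓ a := by
  have h1 := l.act ⟨y, hy⟩ a
  by_cases e : π ⟨y, hy⟩ a = a
  · rw [e] at h1; exact h1
  · exfalso
    have h2 : x ∈ ℓ (π ⟨y, hy⟩ a) := by
      rw [← h1]
      refine ⟨x, hx, ?_⟩
      show y * x * y⁻¹ = x
      rw [hyx, mul_inv_cancel_right]
    have h3 : x ∈ ℓ (π ⟨y, hy⟩ a) ⊓ ℓ a := ⟨h2, hx⟩
    rw [l.disj _ _ e, mem_bot] at h3
    exact hx1 h3

theorem conj_mem (l : Ln5 Y W V₀ ℓ π) {y x u : G} (hy : y ∈ Y) {a : Fin 5} (hx : x ∈ ℓ a) (hx1 : x ≠ 1)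
    (hyx : y * x = x * y) (hu : u ∈ ℓ a) : y * u * y⁻¹ ∈ ℓ a := by
  rw [← l.fix hy hx hx1 hyx]
  exact ⟨u, hu, rfl⟩

/-- an element which centralises a line and a vector of another line centralises `W` -/
theorem cent (l : Ln5 Y W V₀ ℓ π) (hW : ∀ x ∈ W, ∀ y ∈ W, x * y = y * x) {y : G} (hy : y ∈ Y) {a b : Fin 5}
    (hab : a ≠ b) (hca : ∀ v ∈ ℓ a, y * v = v * y) {x : G} (hx : x ∈ ℓ b) (hx1 : x ≠ 1) (hyx : y * x = x * y) :
    ∀ w ∈ W, y * w = w * y := by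
  obtain ⟨d, hda, hdb⟩ : ∃ d : Fin 5, d ≠ a ∧ d ≠ b := by
    have : ∀ a b : Fin 5, ∃ d, d ≠ a ∧ d ≠ b := by decide
    exact this a b
  have hcm : ∀ p ∈ ℓ d, ∀ q ∈ ℓ a, p * q = q * p := fun p hp q hq => hW p (l.le d hp) q (l.le a hq)
  obtain ⟨e, he, v, hv, hxe⟩ := mem_sup_comm hcm (l.sup d a hda (l.le b hx))
  have he1 : e ≠ 1 := by
    rintro rfl
    rw [one_mul] at hxe
    have h3 : x ∈ ℓ a ⊓ ℓ b := ⟨hxe ▸ hv, hx⟩
    rw [l.disj _ _ hab, mem_bot] at h3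
    exact hx1 h3
  have hye : y * e = e * y := by
    have h1 := hca v hv
    have h2 : y * (e * v) = (e * v) * y := by rw [← hxe]; exact hyx
    have h3 : y * e * v = e * y * v := by
      calc y * e * v = y * (e * v) := by group
        _ = e * (v * y) := by rw [h2]; group
        _ = e * y * v := by rw [← h1]; group
    exact mul_right_cancel h3
  have hb : ∀ u ∈ ℓ b, y * u = u * y := by
    intro u hu
    obtain ⟨e', he', v', hv', hue⟩ := mem_sup_comm hcm (l.sup d a hda (l.le b hu))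
    have h1 := hca v' hv'
    have h2 : y * u * y⁻¹ * u⁻¹ ∈ ℓ b := mul_mem (l.conj_mem hy hx hx1 hyx hu) (inv_mem hu)
    have h3 : y * e' * y⁻¹ * e'⁻¹ ∈ ℓ d := mul_mem (l.conj_mem hy he he1 hye he') (inv_mem he')
    have h4 : y * u * y⁻¹ * u⁻¹ = y * e' * y⁻¹ * e'⁻¹ := by
      rw [hue]
      calc y * (e' * v') * y⁻¹ * (e' * v')⁻¹ = y * e' * (v' * y⁻¹) * v'⁻¹ * e'⁻¹ := by group
        _ = y * e' * (y⁻¹ * v') * v'⁻¹ * e'⁻¹ := by
            have h5 : v' * y⁻¹ = y⁻¹ * v' := by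
              calc v' * y⁻¹ = y⁻¹ * (y * v') * y⁻¹ := by group
                _ = y⁻¹ * (v' * y) * y⁻¹ := by rw [h1]
                _ = _ := by group
            rw [h5]
        _ = _ := by group
    have h5 : y * u * y⁻¹ * u⁻¹ ∈ ℓ d ⊓ ℓ b := ⟨h4 ▸ h3, h2⟩
    rw [l.disj _ _ hdb, mem_bot] at h5
    exact comm_iff.1 h5
  intro w hw
  obtain ⟨p, hp, q, hq, rfl⟩ := mem_sup_comm (fun p hp q hq => hW p (l.le a hp) q (l.le b hq)) (l.sup a b hab hw)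
  calc y * (p * q) = (y * p) * q := by group
    _ = p * (y * q) := by rw [hca p hp]; group
    _ = p * q * y := by rw [hb q hq]; group

end Ln5

/-- `[Q, w] = V_j` for `w ∈ W - V_j` -/
theorem exists_q (c : Cx S B Q M X L V z) (h : TY S B Q M X V z 𝓦 j Y W F) (hF : F = ⊥) {w v : G} (hw : w ∈ W)
    (hwV : w ∉ V j) (hv : v ∈ V j) : ∃ q ∈ Q, q * w * q⁻¹ * w⁻¹ = v := by
  subst hF
  have hQV : ∀ q ∈ Q, ∀ u ∈ V j, q * u = u * q := fun q hq u hu => c.cQL q hq u (c.VL j hu)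
  have hq : ∀ q ∈ Q, q * w * q⁻¹ * w⁻¹ ∈ V j := fun q hq => by
    have := h.quad q hq w hw
    rwa [sup_bot_eq] at this
  let f : Q →* V j :=
    { toFun := fun q => ⟨(q : G) * w * (q : G)⁻¹ * w⁻¹, hq q q.2⟩
      map_one' := by ext; simp
      map_mul' := fun a b => by
        ext
        have h1 := hQV a a.2 _ (hq b b.2)
        have h2 := c.xc (c.VX j (hq a a.2)) (c.VX j (hq b b.2))
        show (a : G) * b * w * ((a : G) * b)⁻¹ * w⁻¹ =
          ((a : G) * w * (a : G)⁻¹ * w⁻¹) * ((b : G) * w * (b : G)⁻¹ * w⁻¹)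
        calc (a : G) * b * w * ((a : G) * b)⁻¹ * w⁻¹
            = ((a : G) * ((b : G) * w * (b : G)⁻¹ * w⁻¹)) * w * (a : G)⁻¹ * w⁻¹ := by group
          _ = ((b : G) * w * (b : G)⁻¹ * w⁻¹) * ((a : G) * w * (a : G)⁻¹ * w⁻¹) := by rw [h1]; group
          _ = _ := h2.symm }
  have hk : Nat.card f.ker = Nat.card ↥(Q ⊓ centralizer (W : Set G)) := by
    have e : f.ker.map Q.subtype = Q ⊓ centralizer (W : Set G) := by
      ext x
      constructor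
      · rintro ⟨q, hq', rfl⟩
        refine ⟨q.2, mem_centralizer_iff.2 fun u hu => ?_⟩
        have h1 : (q : G) * w * (q : G)⁻¹ * w⁻¹ = 1 := congrArg Subtype.val ((MonoidHom.mem_ker).1 hq')
        exact (h.free q q.2 w hw (by rwa [sup_bot_eq]) (by rw [h1]; exact one_mem _) u hu).symm
      · rintro ⟨hx, hxW⟩
        refine ⟨⟨x, hx⟩, MonoidHom.mem_ker.2 (Subtype.ext ?_), rfl⟩
        show x * w * x⁻¹ * w⁻¹ = 1
        exact comm_iff.2 (mem_centralizer_iff.1 hxW w hw).symm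
    rw [← e]
    exact (Nat.card_congr (f.ker.equivMapOfInjective Q.subtype Q.subtype_injective).toEquiv)
  have h1 := f.ker.card_mul_index
  rw [Subgroup.index_ker, hk, h.cardQ] at h1
  have h2 : Nat.card f.range = 4 := by
    have h3 : 0 < Nat.card ↥(Q ⊓ centralizer (W : Set G)) := Nat.card_pos
    rw [mul_comm] at h1
    exact Nat.eq_of_mul_eq_mul_right h3 h1
  have h3 : f.range = ⊤ := Subgroup.eq_top_of_card_eq _ (by rw [h2, c.cV j])
  have h4 : (⟨v, hv⟩ : V j) ∈ f.range := by rw [h3]; exact mem_top _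
  obtain ⟨q, hq'⟩ := h4
  exact ⟨q, q.2, congrArg Subtype.val hq'⟩

/-- **`C_B(V_j) = Q O₂(Y)`** -/
theorem mem_QO (c : Cx S B Q M X L V z) (h : TY S B Q M X V z 𝓦 j Y W F) (hF : F = ⊥) {t : G} (ht : t ∈ B)
    (htV : ∀ v ∈ V j, t * v = v * t) : ∃ q ∈ Q, ∃ o ∈ o2 Y, t = q * o := by
  obtain ⟨ℓ, π, l⟩ := exists_ln5 c h hF
  have hWc : ∀ x ∈ W, ∀ y ∈ W, x * y = y * x := fun x hx y hy => c.xc (h.WX hx) (h.WX hy)
  have hW2 : IsPGroup 2 W := c.S2.to_le (h.WX.trans c.XS)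
  have hne : ¬ W ≤ V j := by
    intro h1
    have h2 := Subgroup.card_le_of_le h1
    rw [h.cW, c.cV j] at h2
    have h3 : 0 < Nat.card F := Nat.card_pos
    omega
  obtain ⟨w, hw, hwV, hwB⟩ := NO3b.ClosedPow.exists_fixed_mod (S := B) (B := W) (A := V j) c.B2 hW2
    (fun x hx b hb => (mem_normalizer_iff.1 (h.YW (h.BY hx)) b).1 hb)
    (fun x hx b hb => (mem_normalizer_iff.1 (c.BV j hx) b).1 hb)
    (fun x hx b hb => by rw [hWc x hx b (h.VW hb), mul_inv_cancel_right]; exact hb) hne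
  have h01 : (0 : Fin 5) ≠ 1 := by decide
  obtain ⟨v, hv, e, he, hwe⟩ := mem_sup_comm (fun p hp q hq => hWc p (l.le 0 hp) q (l.le 1 hq)) (l.sup 0 1 h01 hw)
  rw [l.e0] at hv
  have heW := l.le 1 he
  have heV : e ∉ V j := fun h1 => hwV (by rw [hwe]; exact mul_mem hv h1)
  have he1 : e ≠ 1 := fun h1 => heV (by rw [h1]; exact one_mem _)
  have hte : t * e * t⁻¹ * e⁻¹ ∈ V j := by
    have h1 : t * w * t⁻¹ * w⁻¹ ∈ V j := hwB t ht
    have h2 := htV v hv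
    have h3 : t * w * t⁻¹ * w⁻¹ = v * (t * e * t⁻¹ * e⁻¹) * v⁻¹ := by
      rw [hwe]
      calc t * (v * e) * t⁻¹ * (v * e)⁻¹ = (t * v) * e * t⁻¹ * e⁻¹ * v⁻¹ := by group
        _ = v * (t * e * t⁻¹ * e⁻¹) * v⁻¹ := by rw [h2]; group
    rw [h3] at h1
    have h4 := mul_mem (mul_mem (inv_mem hv) h1) hv
    have e5 : v⁻¹ * (v * (t * e * t⁻¹ * e⁻¹) * v⁻¹) * v = t * e * t⁻¹ * e⁻¹ := by group
    rwa [e5] at h4
  obtain ⟨q, hq, hqe⟩ := exists_q c h hF heW heV hte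
  have hqV : ∀ u ∈ V j, q * u = u * q := fun u hu => c.cQL q hq u (c.VL j hu)
  set t' := q⁻¹ * t with ht'
  have ht'B : t' ∈ B := mul_mem (inv_mem (c.QB hq)) ht
  have h1 : t' * e = e * t' := by
    have h2 : q * e * q⁻¹ = t * e * t⁻¹ := mul_right_cancel hqe
    calc t' * e = q⁻¹ * (t * e * t⁻¹) * t := by rw [ht']; group
      _ = q⁻¹ * (q * e * q⁻¹) * t := by rw [h2]
      _ = e * t' := by rw [ht']; group
  have h2 : ∀ u ∈ ℓ 0, t' * u = u * t' := by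
    intro u hu
    rw [l.e0] at hu
    have h3 := hqV u hu
    have h4 : q⁻¹ * u = u * q⁻¹ := by
      calc q⁻¹ * u = q⁻¹ * (u * q) * q⁻¹ := by group
        _ = q⁻¹ * (q * u) * q⁻¹ := by rw [h3]
        _ = _ := by group
    calc t' * u = q⁻¹ * (t * u) := by rw [ht']; group
      _ = (q⁻¹ * u) * t := by rw [htV u hu]; group
      _ = u * t' := by rw [h4, ht']; group
  have h3 := l.cent hWc (h.BY ht'B) h01 h2 he he1 h1
  refine ⟨q, hq, t', ?_, by rw [ht']; group⟩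
  rw [h.o2W c]
  exact ⟨ht'B, mem_centralizer_iff.2 fun w hw => (h3 w hw).symm⟩

/-- **an element of `B` which moves `V_j` moves `W / V_j`** -/
theorem mv_quot (c : Cx S B Q M X L V z) (h : TY S B Q M X V z 𝓦 j Y W F) (hF : F = ⊥) {t : G} (ht : t ∈ B)
    (htV : ∃ v ∈ V j, t * v ≠ v * t) : ∃ w ∈ W, t * w * t⁻¹ * w⁻¹ ∉ V j := by
  by_contra hcon
  push Not at hcon
  obtain ⟨ℓ, π, l⟩ := exists_ln5 c h hF
  have hWc : ∀ x ∈ W, ∀ y ∈ W, x * y = y * x := fun x hx y hy => c.xc (h.WX hx) (h.WX hy)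
  have h01 : (0 : Fin 5) ≠ 1 := by decide
  obtain ⟨e, he, he1⟩ : ∃ e ∈ ℓ 1, e ≠ 1 := by
    by_contra h1
    push Not at h1
    have h2 : ℓ 1 = ⊥ := (Subgroup.eq_bot_iff_forall _).2 h1
    have h3 := l.card 1
    rw [h2, Subgroup.card_bot] at h3
    omega
  have heV : e ∉ V j := fun h1 => by
    have h2 : e ∈ ℓ 0 ⊓ ℓ 1 := ⟨by rw [l.e0]; exact h1, he⟩
    rw [l.disj _ _ h01, mem_bot] at h2
    exact he1 h2
  obtain ⟨q, hq, hqe⟩ := exists_q c h hF (l.le 1 he) heV (hcon e (l.le 1 he))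
  have hqV : ∀ u ∈ V j, q * u = u * q := fun u hu => c.cQL q hq u (c.VL j hu)
  set t' := q⁻¹ * t with ht'
  have ht'B : t' ∈ B := mul_mem (inv_mem (c.QB hq)) ht
  have ht'Y := h.BY ht'B
  have h1 : t' * e = e * t' := by
    have h2 : q * e * q⁻¹ = t * e * t⁻¹ := mul_right_cancel hqe
    calc t' * e = q⁻¹ * (t * e * t⁻¹) * t := by rw [ht']; group
      _ = q⁻¹ * (q * e * q⁻¹) * t := by rw [h2]
      _ = e * t' := by rw [ht']; group
  have hQW : ∀ u ∈ W, q⁻¹ * u * q * u⁻¹ ∈ V j := fun u hu => by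
    have := h.quad q⁻¹ (inv_mem hq) u hu
    rwa [hF, sup_bot_eq, inv_inv] at this
  have h2 : ∀ u ∈ ℓ 1, t' * u = u * t' := by
    intro u hu
    have hu' := l.le 1 hu
    have h3 : t' * u * t'⁻¹ * u⁻¹ ∈ ℓ 1 := mul_mem (l.conj_mem ht'Y he he1 h1 hu) (inv_mem hu)
    have h4 : t' * u * t'⁻¹ * u⁻¹ ∈ V j := by
      have h5 := hcon u hu'
      have hk : q⁻¹ * (t * u * t⁻¹ * u⁻¹) * q = t * u * t⁻¹ * u⁻¹ := by
        have h6 := hqV _ h5
        calc q⁻¹ * (t * u * t⁻¹ * u⁻¹) * q = q⁻¹ * ((t * u * t⁻¹ * u⁻¹) * q) := by group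
          _ = q⁻¹ * (q * (t * u * t⁻¹ * u⁻¹)) := by rw [h6]
          _ = _ := by group
      have e6 : t' * u * t'⁻¹ * u⁻¹ = (q⁻¹ * (t * u * t⁻¹ * u⁻¹) * q) * (q⁻¹ * u * q * u⁻¹) := by rw [ht']; group
      rw [e6, hk]
      exact mul_mem h5 (hQW u hu')
    have h5 : t' * u * t'⁻¹ * u⁻¹ ∈ ℓ 0 ⊓ ℓ 1 := ⟨by rw [l.e0]; exact h4, h3⟩
    rw [l.disj _ _ h01, mem_bot] at h5
    exact comm_iff.1 h5
  have h3 := l.cent hWc ht'Y h01.symm h2 (x := z j) (by rw [l.e0]; exact c.zV j) (c.z1 j) (c.Bz t' ht'B j)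
  obtain ⟨v, hv, hne⟩ := htV
  apply hne
  have h4 := h3 v (h.VW hv)
  have h5 := hqV v hv
  have e6 : t = q * t' := by rw [ht']; group
  calc t * v = q * (t' * v) := by rw [e6]; group
    _ = (q * v) * t' := by rw [h4]; group
    _ = v * t := by rw [h5, e6]; group

/-- `S` normalises `B` -/
theorem conj_B (c : Cx S B Q M X L V z) {s b : G} (hs : s ∈ S) (hb : b ∈ B) : s * b * s⁻¹ ∈ B := by
  refine c.memB _ (mul_mem (mul_mem hs (c.BS hb)) (inv_mem hs)) fun i => ?_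
  obtain ⟨m, hm⟩ := c.zS s⁻¹ (inv_mem hs) i
  rw [inv_inv] at hm
  have h1 := c.Bz b hb m
  rw [← hm] at h1
  calc s * b * s⁻¹ * z i = s * (b * (s⁻¹ * z i * s)) * s⁻¹ := by group
    _ = s * (s⁻¹ * z i * s * b) * s⁻¹ := by rw [h1]
    _ = z i * (s * b * s⁻¹) := by group

/-- **(4+)** `i ≠ j`: `O²(Y_j)` centralises `W_i`. -/
theorem kc (c : Cx S B Q M X L V z) (o : Off S Q M X L 𝓦) (h : TY S B Q M X V z 𝓦 j Y W F) (hF : F = ⊥)
    (ok : OddK X Q Y) (cVV : oddGen Y ≤ centralizer ((VV V j : Subgroup G) : Set G))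
    (W3 : ∀ i, W ≤ o2 (centralizer (V i : Set G)))
    (up : ∀ g ∈ M, g ∈ normalizer (Q : Set G) → cj g (V j) = V j → cj g W = W) :
    ∀ s ∈ S, cj s (V j) ≠ V j → oddGen Y ≤ centralizer ((cj s W : Subgroup G) : Set G) := by
  intro s hs hne
  obtain ⟨i, hi⟩ := c.perm s (c.SQ hs) j
  have hij : i ≠ j := by rintro rfl; exact hne hi
  have hsX : s ∈ normalizer (X : Set G) := c.MX (c.SM hs)
  have hsWX : cj s W ≤ X := by
    have := cj_mono s h.WX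
    rwa [cj_eq_of_mem_normalizer hsX] at this
  have hs3 : ∀ m, cj s W ≤ o2 (centralizer (V m : Set G)) := by
    intro m
    obtain ⟨k, hk⟩ := c.perm s⁻¹ (inv_mem (c.SQ hs)) m
    have h1 := cj_mono s (W3 k)
    rw [← ChoiceSit.o2_cj, cj_centralizer, ← hk, cj_cj_inv] at h1
    exact h1
  have hYi : Y ≤ normalizer (V i : Set G) := by
    rw [← h.oddB c]
    refine sup_le ((cVV.trans (centralizer_le (c.V_VV hij))).trans (centralizer_le_normalizer _)) (c.BV i)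
  have k0 := ker0 c o h (c.V_ne_bot i) (c.VL i) hYi (W3 i) ok
  have hYQ : o2 Y ≤ normalizer (Q : Set G) := (h.o2B c).trans c.BQ
  refine Four.cent_W (V := V i) (O := o2 Y) k0 (fun a ha b hb => c.xc ha.1 hb.1)
    (fun a ha => by rw [pow_two]; exact c.Xs a ha.1) (le_inf hsWX (hs3 i)) ?_ hYi ?_
    (MinSimple.VModule.o2_le Y) (ChoiceSit.le_normalizer_o2 Y) hYQ (MinSimple.VModule.o2_isPGroup Y) ?_ ?_
    (cVV.trans (centralizer_le (c.V_VV hij)))
  · rw [← hi]; exact cj_mono s h.VW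
  · intro g hg hgQ
    have h1 : cj (s⁻¹ * g * s) (V j) = V j := by
      rw [← cj_cj, ← cj_cj, hi, cj_eq_of_mem_normalizer (hYi hg), ← hi, cj_inv_cj]
    have h2 := up (s⁻¹ * g * s) (mul_mem (mul_mem (inv_mem (c.SM hs)) (h.YM hg)) (c.SM hs))
      (mul_mem (mul_mem (inv_mem (c.SQ hs)) hgQ) (c.SQ hs)) h1
    rw [mem_normalizer_iff_cj]
    have h3 := congrArg (cj s) h2
    rwa [← cj_cj, ← cj_cj, cj_cj_inv] at h3
  · rw [card_cj, h.cW, hF, Subgroup.card_bot, c.cV i]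
  · -- `O₂(Y)` moves `W_i / V_i`
    obtain ⟨t, ht, htV, v, hv, hvt⟩ := c.t i
    obtain ⟨q, hq, p, hp, e⟩ := mem_QO c h hF ht (htV j (Ne.symm hij))
    have hsv : s⁻¹ * v * s ∈ V j := by
      rw [← mem_cj, hi]; exact hv
    have hst : s⁻¹ * t * s ∈ B := by
      have := conj_B c (inv_mem hs) ht
      rwa [inv_inv] at this
    obtain ⟨w, hw, hwn⟩ := mv_quot c h hF hst ⟨_, hsv, fun h1 => hvt (by
      calc t * v = s * ((s⁻¹ * t * s) * (s⁻¹ * v * s)) * s⁻¹ := by group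
        _ = s * ((s⁻¹ * v * s) * (s⁻¹ * t * s)) * s⁻¹ := by rw [h1]
        _ = v * t := by group)⟩
    have hmv : t * (s * w * s⁻¹) * t⁻¹ * (s * w * s⁻¹)⁻¹ ∉ V i := by
      intro h1
      rw [← hi, mem_cj] at h1
      apply hwn
      have e1 : s⁻¹ * (t * (s * w * s⁻¹) * t⁻¹ * (s * w * s⁻¹)⁻¹) * s =
          s⁻¹ * t * s * w * (s⁻¹ * t * s)⁻¹ * w⁻¹ := by group
      rwa [e1] at h1
    intro hle
    apply hmv
    have hw' : s * w * s⁻¹ ∈ cj s W := ⟨w, hw, rfl⟩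
    set u := s * w * s⁻¹ with hu
    have h1 : p * u * p⁻¹ * u⁻¹ ∈ V i := hle (commutator_mem_commutator hp hw')
    have h2 : p * u * p⁻¹ ∈ cj s W := by
      have h3 : p * u * p⁻¹ * u⁻¹ ∈ cj s W := by
        have := cj_mono s h.VW
        rw [hi] at this
        exact this h1
      have h4 := mul_mem h3 hw'
      rwa [inv_mul_cancel_right] at h4
    have h3 : q * (p * u * p⁻¹) * q⁻¹ * (p * u * p⁻¹)⁻¹ ∈ V i := by
      obtain ⟨w', hw'', e1⟩ := h2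
      have e1' : s * w' * s⁻¹ = p * u * p⁻¹ := e1
      rw [← e1', ← hi, mem_cj]
      have h4 : s⁻¹ * q * s ∈ Q := by
        have := (mem_normalizer_iff.1 (c.SQ (inv_mem hs)) q).1 hq
        rwa [inv_inv] at this
      have h5 := h.quad _ h4 w' hw''
      rw [hF, sup_bot_eq] at h5
      have e2 : s⁻¹ * (q * (s * w' * s⁻¹) * q⁻¹ * (s * w' * s⁻¹)⁻¹) * s =
          s⁻¹ * q * s * w' * (s⁻¹ * q * s)⁻¹ * w'⁻¹ := by group
      rwa [e2]
    have e3 : t * u * t⁻¹ * u⁻¹ = (q * (p * u * p⁻¹) * q⁻¹ * (p * u * p⁻¹)⁻¹) * (p * u * p⁻¹ * u⁻¹) := by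
      rw [e]; group
    rw [e3]
    exact mul_mem h3 h1

end Cfsg.Agent.Omega.NO3S.WY.Tor.FourTY

end

end
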