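import Cfsg.Agent.Mrg.Omega.NO3S.RedC.MaxMin
import Cfsg.Agent.Mrg.Omega.OM.Lev.Low.TorusK.PBCj
import Cfsg.Agent.Mrg.Omega.OM.Lev.Low.TorusK.Pair
import Cfsg.Agent.MinSimple.MinParabolic
import Cfsg.Agent.Mrg.Omega.CaseLQ.OneY
import Cfsg.Agent.Mrg.Omega.NO3S.WY.Tor.Lit
import Cfsg.Agent.Mrg.Omega.NO3b.EZeroBase
import Cfsg.Agent.PLocal.OffenderStep
import Cfsg.Agent.Mrg.Omega.FrameI
import Cfsg.Agent.Mrg.Omega.NO3S.WY.OddKerA
import Cfsg.Agent.MinSimple.VModule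
import Cfsg.Agent.Mrg.Omega.NO3S.WY.Tor.TYOf
import Cfsg.Agent.Mrg.Omega.EK3.Base
import Cfsg.Agent.Mrg.Omega.NO3S.Level.Cut
import Cfsg.Agent.Mrg.Omega.NO3S.Sym.Light
import Cfsg.Agent.Mrg.Omega.NTwo.Core
import Cfsg.Agent.ZN.ChoiceBase

-- merged: Cfsg.Agent.Mrg.Omega.NO3S.WY.TorFive
section

/-!
# (TOR) for one block `S₅` (helper499 #25327 (2)-(5)), abstract

`N` elementary abelian, `R ≤ N_G(N)` generated by `R0 ≤ N(Q)` and groups `K i`; `Q ≤ S ≤ R`, `L ≤ N` centralised by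
`Q`, `N = ⟨L^R⟩`; `K i` normalises `C_Q(W i)`, `Q` acts on `W i` as a root group, `c i ≤ [W i, Q] ≤ l i` (`l i` the line of `W i` centralised by `Q`).

* `Five.le_Q` : a maximal offender of least rank in `S` lies in `Q`;
* `Five.cent_W` : it centralises all `W i`;
* **`Five.false_of`**.
-/

set_option autoImplicit false
set_option linter.unusedSectionVars false

namespace Cfsg.Agent.Omega.NO3S.WY.TorFive

open Subgroup Cfsg Cfsg.Agent.ZN Cfsg.Agent.ZN.ChoiceBase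
open Cfsg.Agent.Omega.FFThm (OffM ElemM NoOverM)
open Cfsg.Agent.Omega.NO3S.RedC (MaxMin exists_maxMin)
open Cfsg.Agent.Omega.NO3b.EZero (cent_symm)
open Cfsg.Agent.Omega.SQ1.Bau (mem_sup_comm card_sup_comm)
open Cfsg.Agent.Omega.NO3S.Fld (relIndex_mul_card)
open Cfsg.Agent.Omega.NOThreeL.VF (elemM_mono)

universe u v

variable {G : Type u} [Group G] [Finite G]

/-- `[E, U] ≤ Z` -/
def CIn (E U Z : Subgroup G) : Prop := ∀ e ∈ E, ∀ u ∈ U, e * u * e⁻¹ * u⁻¹ ∈ Z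

/-- The situation. -/
structure Five (R S Q L N R0 : Subgroup G) {ι : Type v} (W K c l E : ι → Subgroup G) : Prop where
  Nc : N ≤ centralizer (N : Set G)
  Ns : ∀ n ∈ N, n ^ 2 = 1
  RN : R ≤ normalizer (N : Set G)
  SR : S ≤ R
  syl : ∀ X ≤ R, IsPGroup 2 X → ∃ g ∈ R, cj g X ≤ S
  QS : Q ≤ S
  SQL : S ⊓ centralizer (L : Set G) ≤ Q
  LN : L ≤ N
  QL : Q ≤ centralizer (L : Set G)
  R0R : R0 ≤ R
  R0Q : R0 ≤ normalizer (Q : Set G)
  KR : ∀ i, K i ≤ R
  gen : R ≤ R0 ⊔ ⨆ i, K i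
  Ngen : ∀ X : Subgroup G, L ≤ X → R ≤ normalizer (X : Set G) → N ≤ X
  WN : ∀ i, W i ≤ N
  KPI : ∀ i, K i ≤ normalizer ((Q ⊓ centralizer (W i : Set G) : Subgroup G) : Set G)
  QPI : ∀ i, Q ≤ normalizer ((Q ⊓ centralizer (W i : Set G) : Subgroup G) : Set G)
  off : ∃ A ≤ R, OffM N A
  noL : ∀ A ≤ S, ElemM L A → ¬ A ≤ centralizer (L : Set G) →
    Nat.card A * Nat.card ↥(L ⊓ centralizer (A : Set G)) ≤ Nat.card L * Nat.card ↥(A ⊓ centralizer (L : Set G))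
  actL : ∀ A ≤ S, OffM L A → ∃ a ∈ A, ∃ i,
    (centralizer ({a} : Set G)).relIndex L < (centralizer ({a} : Set G)).relIndex (W i)
  noW : ∀ i, ∀ A ≤ Q, ElemM (W i) A → ¬ A ≤ centralizer (W i : Set G) →
    Nat.card A * Nat.card ↥(W i ⊓ centralizer (A : Set G)) ≤
      Nat.card (W i) * Nat.card ↥(A ⊓ centralizer (W i : Set G))
  lineW : ∀ i, ∀ A ≤ Q, OffM (W i) A → CIn A (W i) (l i) ∧ ∀ Z' : Subgroup G, CIn A (W i) Z' → c i ≤ Z'
  sep : ∀ i, ∃ j, ¬ c i ≤ l j ∧ ∀ g ∈ K j ⊔ Q, cj g (c i) ≤ l i → g ∈ normalizer (l j : Set G)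
  EQ : ∀ j, E j ≤ Q
  quad : ∀ j, ∀ t ∈ E j, ∀ n ∈ N, t * n * t⁻¹ * n⁻¹ ∈ centralizer (E j : Set G)
  reg : ∀ j, ∃ y ∈ K j ⊔ Q, ∃ t ∈ E j, ∃ t' ∈ E j, t ∉ normalizer (cj y (l j) : Set G) ∧
    t' ∉ normalizer (cj y (l j) : Set G) ∧ t * t' ∉ normalizer (cj y (l j) : Set G)

/-- **hereditary** : `N = X C_N(A)` -/
theorem her {R N X A : Subgroup G} (hNc : N ≤ centralizer (N : Set G)) (hRN : R ≤ normalizer (N : Set G))
    (m : MaxMin N R A) (hX : X ≤ N)
    (hno : Nat.card A * Nat.card ↥(X ⊓ centralizer (A : Set G)) ≤ Nat.card X * Nat.card ↥(A ⊓ centralizer (X : Set G)))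
    (hne : ¬ A ≤ centralizer (X : Set G)) :
    OffM X A ∧ X ⊔ (N ⊓ centralizer (A : Set G)) = N := by
  have hEX : ElemM X A := ⟨fun a ha => centralizer_le hX (m.elem.sq a ha),
    fun a ha b hb => centralizer_le hX (m.elem.comm a ha b hb)⟩
  obtain ⟨no, mo⟩ := m.minOff hRN hX hno hne
  have hcut := mo.cut hX hno hne
  have i0 : (centralizer (N : Set G)).relIndex A = (centralizer (A : Set G)).relIndex N :=
    le_antisymm (FFThm.relIndex_le_iff.1 (no A m.le m.elem)) (m.off hNc le_rfl)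
  have i1 : (centralizer (X : Set G)).relIndex A ≤ (centralizer (A : Set G)).relIndex X :=
    FFThm.relIndex_le_iff.1 hno
  have e1 : (centralizer (X : Set G)).relIndex A = (centralizer (N : Set G)).relIndex A := by
    rw [← inf_relIndex_right, ← inf_relIndex_right (centralizer (N : Set G))]
    congr 1
    refine le_antisymm (le_inf ?_ inf_le_right) (inf_le_inf_right _ (centralizer_le hX))
    rw [inf_comm]
    exact hcut
  have i2 : (centralizer (A : Set G)).relIndex N ≤ (centralizer (A : Set G)).relIndex X := by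
    rw [← i0, ← e1]
    exact i1
  refine ⟨⟨hEX, hne, FFThm.relIndex_le_iff.2 (m.off hNc hX)⟩, ?_⟩
  set K := N ⊓ centralizer (A : Set G) with hK
  have hcom' : ∀ x ∈ X, ∀ y ∈ K, x * y = y * x := fun x hx y hy => mem_centralizer_iff.1 (hNc hy.1) x (hX hx)
  have e2 : X ⊓ K = X ⊓ centralizer (A : Set G) := by
    rw [hK, ← inf_assoc, inf_eq_left.2 hX]
  have c1 := card_sup_comm hcom'
  rw [e2] at c1
  have c2 := relIndex_mul_card X (centralizer (A : Set G))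
  have c3 := relIndex_mul_card N (centralizer (A : Set G))
  refine Subgroup.eq_of_le_of_card_ge (sup_le hX inf_le_left) ?_
  have p1 : 0 < Nat.card ↥(X ⊓ centralizer (A : Set G)) := Nat.card_pos
  refine Nat.le_of_mul_le_mul_right (c := Nat.card ↥(X ⊓ centralizer (A : Set G))) ?_ p1
  calc Nat.card N * Nat.card ↥(X ⊓ centralizer (A : Set G))
      = (centralizer (A : Set G)).relIndex N * (Nat.card K * Nat.card ↥(X ⊓ centralizer (A : Set G))) := by
        rw [← c3, ← hK]; ring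
    _ ≤ (centralizer (A : Set G)).relIndex X * (Nat.card K * Nat.card ↥(X ⊓ centralizer (A : Set G))) :=
        Nat.mul_le_mul_right _ i2
    _ = Nat.card X * Nat.card K := by rw [← c2]; ring
    _ = _ := c1.symm

/-- `N = X C_N(A)` ⟹ `[N, A] = [X, A]` -/
theorem cin_of {N X A Z : Subgroup G} (hNc : N ≤ centralizer (N : Set G)) (hX : X ≤ N)
    (hs : X ⊔ (N ⊓ centralizer (A : Set G)) = N) (h : CIn A X Z) : CIn A N Z := by
  intro e he u hu
  have hcom' : ∀ x ∈ X, ∀ y ∈ N ⊓ centralizer (A : Set G), x * y = y * x := fun x hx y hy =>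
    mem_centralizer_iff.1 (hNc hy.1) x (hX hx)
  obtain ⟨n, hn, y, hy, rfl⟩ := mem_sup_comm hcom' (hs.symm ▸ hu : u ∈ X ⊔ (N ⊓ centralizer (A : Set G)))
  have h2 := mem_centralizer_iff.1 hy.2 e he
  have e1 : e * (n * y) * e⁻¹ * (n * y)⁻¹ = e * n * (y * e⁻¹ * y⁻¹) * n⁻¹ := by group
  have e2 : y * e⁻¹ * y⁻¹ = e⁻¹ := by
    have h3 := mem_centralizer_iff.1 hy.2 e⁻¹ (inv_mem he)
    rw [← h3]
    group
  rw [e1, e2]
  exact h e he n hn

theorem CIn.cj {E U Z : Subgroup G} (h : CIn E U Z) {g : G} (hg : g ∈ normalizer (U : Set G)) :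
    CIn (cj g E) U (cj g Z) := by
  rintro _ ⟨e, he, rfl⟩ u hu
  have h1 : g⁻¹ * u * g ∈ U := by
    have h2 : g⁻¹ ∈ normalizer (U : Set G) := inv_mem hg
    have h3 := (mem_normalizer_iff.1 h2 u).1 hu
    rwa [inv_inv] at h3
  refine ⟨_, h e he _ h1, ?_⟩
  show g * (e * (g⁻¹ * u * g) * e⁻¹ * (g⁻¹ * u * g)⁻¹) * g⁻¹ = (g * e * g⁻¹) * u * (g * e * g⁻¹)⁻¹ * u⁻¹
  group

namespace Five

variable {R S Q L N R0 : Subgroup G} {ι : Type v} {W K c l E : ι → Subgroup G} (s : Five R S Q L N R0 W K c l E)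
include s

theorem le_Q {A : Subgroup G} (m : MaxMin N R A) (hA : A ≤ S) : A ≤ Q := by
  by_contra hAQ
  have hne : ¬ A ≤ centralizer (L : Set G) := fun h => hAQ ((le_inf hA h).trans s.SQL)
  have hEL : ElemM L A := ⟨fun a ha => centralizer_le s.LN (m.elem.sq a ha),
    fun a ha b hb => centralizer_le s.LN (m.elem.comm a ha b hb)⟩
  obtain ⟨hoff, hs⟩ := her s.Nc s.RN m s.LN (s.noL A hA hEL hne) hne
  obtain ⟨a, ha, i, hlt⟩ := s.actL A hA hoff
  have hle : (centralizer ({a} : Set G)).relIndex (W i) ≤ (centralizer ({a} : Set G)).relIndex N :=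
    relIndex_le_of_le_right (s.WN i) index_ne_zero_of_finite
  have hsa : L ⊔ (N ⊓ centralizer ({a} : Set G)) = N := by
    refine le_antisymm (sup_le s.LN inf_le_left) ?_
    conv_lhs => rw [← hs]
    exact sup_le_sup_left (inf_le_inf_left _ (centralizer_le (Set.singleton_subset_iff.2 ha))) _
  set D := N ⊓ centralizer ({a} : Set G) with hD
  have hcom' : ∀ x ∈ L, ∀ y ∈ D, x * y = y * x := fun x hx y hy => mem_centralizer_iff.1 (s.Nc hy.1) x (s.LN hx)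
  have e2 : L ⊓ D = L ⊓ centralizer ({a} : Set G) := by
    rw [hD, ← inf_assoc, inf_eq_left.2 s.LN]
  have c1 := card_sup_comm hcom'
  rw [e2, hsa] at c1
  have c2 := relIndex_mul_card L (centralizer ({a} : Set G))
  have c3 := relIndex_mul_card N (centralizer ({a} : Set G))
  rw [← hD] at c3
  have p1 : 0 < Nat.card ↥(L ⊓ centralizer ({a} : Set G)) := Nat.card_pos
  have p2 : 0 < Nat.card D := Nat.card_pos
  have h5 : (centralizer ({a} : Set G)).relIndex N = (centralizer ({a} : Set G)).relIndex L := by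
    refine Nat.eq_of_mul_eq_mul_right (Nat.mul_pos p2 p1) ?_
    calc (centralizer ({a} : Set G)).relIndex N * (Nat.card D * Nat.card ↥(L ⊓ centralizer ({a} : Set G)))
        = Nat.card N * Nat.card ↥(L ⊓ centralizer ({a} : Set G)) := by rw [← c3]; ring
      _ = Nat.card L * Nat.card D := c1
      _ = _ := by rw [← c2]; ring
  omega

/-- `A ≤ Q` moves `W i` ⟹ `c i ≤ [N, A] ≤ l i` -/
theorem act {A : Subgroup G} (m : MaxMin N R A) (hA : A ≤ Q) {i : ι} (hne : ¬ A ≤ centralizer (W i : Set G)) :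
    CIn A N (l i) ∧ ∀ Z' : Subgroup G, CIn A N Z' → c i ≤ Z' := by
  have hEL : ElemM (W i) A := ⟨fun a ha => centralizer_le (s.WN i) (m.elem.sq a ha),
    fun a ha b hb => centralizer_le (s.WN i) (m.elem.comm a ha b hb)⟩
  obtain ⟨hoff, hs⟩ := her s.Nc s.RN m (s.WN i) (s.noW i A hA hEL hne) hne
  obtain ⟨h1, h2⟩ := s.lineW i A hA hoff
  exact ⟨cin_of s.Nc (s.WN i) hs h1, fun Z' hZ' => h2 Z' fun e he u hu => hZ' e he u (s.WN i hu)⟩

theorem QR : Q ≤ R := s.QS.trans s.SR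

theorem KQR (j : ι) : K j ⊔ Q ≤ R := sup_le (s.KR j) s.QR

/-- `A^g ≤ Q` for `A ≤ C_Q(W j)`, `g ∈ K j Q` -/
theorem cj_le {j : ι} {A : Subgroup G} (hA : A ≤ Q) (hAW : A ≤ centralizer (W j : Set G)) {g : G}
    (hg : g ∈ K j ⊔ Q) : cj g A ≤ Q := by
  have h1 : K j ⊔ Q ≤ normalizer ((Q ⊓ centralizer (W j : Set G) : Subgroup G) : Set G) := sup_le (s.KPI j) (s.QPI j)
  have h2 := cj_mono g (le_inf hA hAW)
  rw [cj_eq_of_mem_normalizer (h1 hg)] at h2
  exact h2.trans inf_le_left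

theorem cent_W {A : Subgroup G} (m : MaxMin N R A) (hAQ : A ≤ Q) (i : ι) : A ≤ centralizer (W i : Set G) := by
  by_contra hne
  obtain ⟨hin, hmin⟩ := s.act m hAQ hne
  obtain ⟨j, hij, hsep⟩ := s.sep i
  have hAj : A ≤ centralizer (W j : Set G) := by
    by_contra hj
    obtain ⟨hin', hmin'⟩ := s.act m hAQ hj
    exact hij (hmin _ hin')
  -- `A^g` centralises `W i` if `g` moves the line `l j`
  have key : ∀ g ∈ K j ⊔ Q, g ∉ normalizer (l j : Set G) → cj g A ≤ centralizer (W i : Set G) := by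
    intro g hg hgn
    by_contra hcon
    have hgR := s.KQR j hg
    obtain ⟨hin', -⟩ := s.act (m.cj hgR s.RN) (s.cj_le hAQ hAj hg) hcon
    have h1 := hin'.cj (g := g⁻¹) (inv_mem (s.RN hgR))
    rw [cj_inv_cj] at h1
    have h2 := cj_mono g (hmin _ h1)
    rw [cj_cj_inv] at h2
    exact hgn (hsep g hg h2)
  obtain ⟨y, hy, t, ht, t', ht', n1, n2, n3⟩ := s.reg j
  have hEK : ∀ t ∈ E j, t ∈ K j ⊔ Q := fun t ht => (le_sup_right : Q ≤ K j ⊔ Q) (s.EQ j ht)
  -- `cj y A` centralises `cj (t y) (W i)` for `t` moving the line `cj y (l j)`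
  have key2 : ∀ t ∈ K j ⊔ Q, t ∉ normalizer (cj y (l j) : Set G) → ∀ w ∈ W i, ∀ a ∈ A,
      (y * a * y⁻¹) * (t * (y * w * y⁻¹) * t⁻¹) = (t * (y * w * y⁻¹) * t⁻¹) * (y * a * y⁻¹) := by
    intro t ht hn w hw a ha
    have hg : y⁻¹ * t⁻¹ * y ∈ K j ⊔ Q := mul_mem (mul_mem (inv_mem hy) (inv_mem ht)) hy
    have hgn : y⁻¹ * t⁻¹ * y ∉ normalizer (l j : Set G) := by
      intro h
      apply hn
      rw [mem_normalizer_iff_cj] at h ⊢
      have h1 : cj (y⁻¹ * t⁻¹ * y) (l j) = cj y⁻¹ (cj t⁻¹ (cj y (l j))) := by rw [cj_cj, cj_cj, mul_assoc]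
      rw [h1] at h
      have h2 := congrArg (fun X => cj t (cj y X)) h
      simp only [cj_cj_inv] at h2
      exact h2.symm
    have h3 := key _ hg hgn
    have h4 := mem_centralizer_iff.1 (h3 ⟨a, ha, rfl⟩) w hw
    have h5 : w * ((y⁻¹ * t⁻¹ * y) * a * (y⁻¹ * t⁻¹ * y)⁻¹) = ((y⁻¹ * t⁻¹ * y) * a * (y⁻¹ * t⁻¹ * y)⁻¹) * w := h4
    have h6 := congrArg (fun x => t * y * x * (t * y)⁻¹) h5
    have e1 : (y * a * y⁻¹) * (t * (y * w * y⁻¹) * t⁻¹) =
        t * y * (((y⁻¹ * t⁻¹ * y) * a * (y⁻¹ * t⁻¹ * y)⁻¹) * w) * (t * y)⁻¹ := by group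
    have e2 : (t * (y * w * y⁻¹) * t⁻¹) * (y * a * y⁻¹) =
        t * y * (w * ((y⁻¹ * t⁻¹ * y) * a * (y⁻¹ * t⁻¹ * y)⁻¹)) * (t * y)⁻¹ := by group
    rw [e1, e2]
    exact h6.symm
  apply hne
  intro a ha
  refine mem_centralizer_iff.2 fun w hw => ?_
  -- the four commuting conjugates
  have hyR := s.KQR j hy
  set n := y * w * y⁻¹ with hn
  have hnN : n ∈ N := by
    have := (mem_normalizer_iff.1 (s.RN hyR) w).1 (s.WN i hw)
    exact this
  have k1 := key2 t (hEK t ht) n1 w hw a ha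
  have k2 := key2 t' (hEK t' ht') n2 w hw a ha
  have k3 := key2 (t * t') (mul_mem (hEK t ht) (hEK t' ht')) n3 w hw a ha
  rw [← hn] at k1 k2 k3
  -- quadratic
  have hcN : ∀ r ∈ K j ⊔ Q, ∀ x ∈ N, r * x * r⁻¹ ∈ N := fun r hr x hx =>
    (mem_normalizer_iff.1 (s.RN (s.KQR j hr)) x).1 hx
  have hq := s.quad j t' ht' n hnN
  have hq1 := mem_centralizer_iff.1 hq t ht
  -- `t [t', n] = [t', n] t`, so `n = n^t n^{t'} n^{t t'}`
  have hcomm : ∀ x ∈ N, ∀ z ∈ N, x * z = z * x := fun x hx z hz => mem_centralizer_iff.1 (s.Nc hz) x hx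
  have m1 := hcN t (hEK t ht) n hnN
  have m2 := hcN t' (hEK t' ht') n hnN
  have m3 := hcN (t * t') (mul_mem (hEK t ht) (hEK t' ht')) n hnN
  have hfour : n = (t * t') * n * (t * t')⁻¹ * (t' * n * t'⁻¹)⁻¹ * (t * n * t⁻¹) := by
    have e1 : t * (t' * n * t'⁻¹ * n⁻¹) * t⁻¹ = t' * n * t'⁻¹ * n⁻¹ := by
      rw [hq1, mul_inv_cancel_right]
    have e2 : t * (t' * n * t'⁻¹ * n⁻¹) * t⁻¹ = (t * t') * n * (t * t')⁻¹ * (t * n * t⁻¹)⁻¹ := by group
    rw [e2] at e1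
    -- `m3 m1⁻¹ = m2 n⁻¹`
    have h1 : (t * t') * n * (t * t')⁻¹ * n = (t' * n * t'⁻¹) * (t * n * t⁻¹) := by
      have h2 : (t * t') * n * (t * t')⁻¹ = (t' * n * t'⁻¹) * n⁻¹ * (t * n * t⁻¹) := by
        rw [← e1, inv_mul_cancel_right]
      rw [h2, mul_assoc, hcomm _ m1 _ hnN, ← mul_assoc, inv_mul_cancel_right]
    have h3 : n⁻¹ = n := by
      have := s.Ns n hnN
      rw [pow_two] at this
      exact inv_eq_of_mul_eq_one_left this
    have h4 : (t' * n * t'⁻¹)⁻¹ = t' * n * t'⁻¹ := by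
      have := s.Ns _ m2
      rw [pow_two] at this
      exact inv_eq_of_mul_eq_one_left this
    have h5 : (t * n * t⁻¹) * (t * n * t⁻¹) = 1 := by
      have := s.Ns _ m1
      rwa [pow_two] at this
    have h6 : (t' * n * t'⁻¹) * (t' * n * t'⁻¹) = 1 := by
      have := s.Ns _ m2
      rwa [pow_two] at this
    have h7 : (t * t') * n * (t * t')⁻¹ * ((t * t') * n * (t * t')⁻¹) = 1 := by
      have := s.Ns _ m3
      rwa [pow_two] at this
    -- `n = m3 (m2 m1)`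
    calc n = (t * t') * n * (t * t')⁻¹ * ((t * t') * n * (t * t')⁻¹) * n := by rw [h7, one_mul]
      _ = (t * t') * n * (t * t')⁻¹ * ((t * t') * n * (t * t')⁻¹ * n) := by rw [mul_assoc]
      _ = (t * t') * n * (t * t')⁻¹ * ((t' * n * t'⁻¹) * (t * n * t⁻¹)) := by rw [h1]
      _ = _ := by rw [h4, ← mul_assoc (t * t' * n * (t * t')⁻¹)]
  -- `a^y` commutes with `n`
  have hcn : (y * a * y⁻¹) * n = n * (y * a * y⁻¹) := by
    have c1 : (y * a * y⁻¹) ∈ centralizer ({t * n * t⁻¹, t' * n * t'⁻¹, (t * t') * n * (t * t')⁻¹} : Set G) := by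
      rw [mem_centralizer_iff]
      intro x hx
      rcases hx with rfl | rfl | hx
      · exact k1.symm
      · exact k2.symm
      · rw [Set.mem_singleton_iff.1 hx]
        exact k3.symm
    have c2 : n ∈ centralizer ({y * a * y⁻¹} : Set G) := by
      rw [hfour]
      have d : ∀ x : G, (y * a * y⁻¹) * x = x * (y * a * y⁻¹) → x ∈ centralizer ({y * a * y⁻¹} : Set G) := by
        intro x hx
        rw [mem_centralizer_iff]
        intro z hz
        rw [Set.mem_singleton_iff.1 hz]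
        exact hx
      exact mul_mem (mul_mem (d _ k3) (inv_mem (d _ k2))) (d _ k1)
    exact mem_centralizer_iff.1 c2 _ (Set.mem_singleton _)
  rw [hn] at hcn
  have h8 := congrArg (fun x => y⁻¹ * x * y) hcn
  have e1 : y⁻¹ * (y * a * y⁻¹ * (y * w * y⁻¹)) * y = a * w := by group
  have e2 : y⁻¹ * (y * w * y⁻¹ * (y * a * y⁻¹)) * y = w * a := by group
  simp only [e1, e2] at h8
  exact h8.symm

/-- **(TOR) for one block `S₅`** -/
theorem false_of : False := by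
  classical
  obtain ⟨A₀, m₀⟩ := exists_maxMin s.RN s.off
  obtain ⟨g₀, hg₀, hA₀⟩ := s.syl A₀ m₀.le m₀.pg
  have m₁ := m₀.cj hg₀ s.RN
  -- the members in `S` are permuted by `R`
  let 𝓔 : Set (Subgroup G) := {A | MaxMin N R A ∧ A ≤ S}
  have hinv : ∀ g ∈ R, ∀ A ∈ 𝓔, cj g A ∈ 𝓔 := by
    let D : Subgroup G :=
      { carrier := {g | g ∈ R ∧ ∀ A ∈ 𝓔, cj g A ∈ 𝓔 ∧ cj g⁻¹ A ∈ 𝓔}
        one_mem' := ⟨one_mem _, fun A hA => by rw [inv_one, cj_one]; exact ⟨hA, hA⟩⟩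
        mul_mem' := fun {a b} ha hb => ⟨mul_mem ha.1 hb.1, fun A hA => by
          rw [mul_inv_rev, ← cj_cj, ← cj_cj]
          exact ⟨(ha.2 _ (hb.2 A hA).1).1, (hb.2 _ (ha.2 A hA).2).2⟩⟩
        inv_mem' := fun {a} ha => ⟨inv_mem ha.1, fun A hA => by
          rw [inv_inv]
          exact ⟨(ha.2 A hA).2, (ha.2 A hA).1⟩⟩ }
    have hRD : R ≤ D := by
      refine s.gen.trans (sup_le (fun g hg => ?_) (iSup_le fun i g hg => ?_))
      · refine ⟨s.R0R hg, fun A hA => ?_⟩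
        have hAQ := s.le_Q hA.1 hA.2
        have h1 := cj_mono g hAQ
        rw [cj_eq_of_mem_normalizer (s.R0Q hg)] at h1
        have h2 := cj_mono g⁻¹ hAQ
        rw [cj_eq_of_mem_normalizer (inv_mem (s.R0Q hg))] at h2
        exact ⟨⟨hA.1.cj (s.R0R hg) s.RN, h1.trans s.QS⟩, ⟨hA.1.cj (inv_mem (s.R0R hg)) s.RN, h2.trans s.QS⟩⟩
      · refine ⟨s.KR i hg, fun A hA => ?_⟩
        have hAQ := s.le_Q hA.1 hA.2
        have hAW := s.cent_W hA.1 hAQ i
        exact ⟨⟨hA.1.cj (s.KR i hg) s.RN, (s.cj_le hAQ hAW (le_sup_left (a := K i) hg)).trans s.QS⟩,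
          ⟨hA.1.cj (inv_mem (s.KR i hg)) s.RN, (s.cj_le hAQ hAW (le_sup_left (a := K i) (inv_mem hg))).trans s.QS⟩⟩
    exact fun g hg A hA => ((hRD hg).2 A hA).1
  let X : Subgroup G := sSup 𝓔
  have hX : R ≤ normalizer (X : Set G) := by
    intro g hg
    rw [mem_normalizer_iff_cj]
    have h1 : ∀ g ∈ R, cj g X ≤ X := by
      intro g hg
      have h2 : X ≤ cj g⁻¹ X := by
        refine sSup_le fun A hA => ?_
        have h3 := cj_mono g⁻¹ (le_sSup (hinv g hg A hA) : cj g A ≤ X)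
        rwa [cj_inv_cj] at h3
      have h4 := cj_mono g h2
      rwa [cj_cj_inv] at h4
    refine le_antisymm (h1 g hg) ?_
    have h2 := cj_mono g (h1 g⁻¹ (inv_mem hg))
    rwa [cj_cj_inv] at h2
  have hXL : X ≤ centralizer (L : Set G) := sSup_le fun A hA => (s.le_Q hA.1 hA.2).trans s.QL
  have h1 : N ≤ centralizer (X : Set G) := s.Ngen _ (cent_symm hXL) (by
    intro g hg
    rw [mem_normalizer_iff_cj, cj_centralizer, cj_eq_of_mem_normalizer (hX hg)])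
  have h2 : cj g₀ A₀ ≤ X := le_sSup ⟨m₁, hA₀⟩
  exact m₁.ne (h2.trans (cent_symm h1))

end Five

end Cfsg.Agent.Omega.NO3S.WY.TorFive

end

-- merged: Cfsg.Agent.Mrg.Omega.NO3S.WY.Tor.End
section

section


/-!
# THEOREM TOR (helper474 #25011, `q = 2`, every `k ≥ 2`): (Sig) and (6)

`L = V_P = ∏ V i`, `z i ∈ V i`, `B = C_S(z i : i)`; `W = W_j` is a natural `SL₂(4)`-module for `K Q`, `V j = C_W(Q)`
(`j = i₀`); `W^s` depends only on `(V j)^s` (`WS`, (2+) of helper491 #25169 or (chi)); `K` centralises the other `W^s`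
(`KC`, (4+)).  Every `S`-minimal `R ≤ ⟨K, S⟩` normalises `L` or centralises `z₀ = ∏ z i`.

* `Dat.sig` : `N_S(V j)` permutes the five lines of `W` (472's `Sig.N4.sig`);
* `Dat.false` : the contradiction (`EndK.Sys.false_of`).
-/

set_option autoImplicit false
set_option linter.unusedSectionVars false

namespace Cfsg.Agent.Omega.NO3S.WY.Tor.End

open Subgroup Cfsg Cfsg.Agent.ZN.ChoiceBase Cfsg.Agent.MinSimple.MinParabolic
open Cfsg.Agent.Omega.OM.Lev.Low.TorusK (Sig.N4)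
open Cfsg.Agent.Omega.OM.Lev.Low.TorusK.EndK (Sys)

universe u

variable {G : Type u} [Group G] {ι : Type*}

/-- The situation of (5), (6). -/
structure Dat (S Q B L K W : Subgroup G) (V : ι → Subgroup G) (z : ι → G) (z₀ : G) (i₀ : ι) : Prop where
  two : IsPGroup 2 S
  syl : ¬ 2 ∣ S.index
  nS : normalizer (S : Set G) ≤ normalizer (L : Set G)
  par : ∀ R : Subgroup G, IsMinPar S R → R ≤ K ⊔ S →
    R ≤ normalizer (L : Set G) ∨ ∀ r ∈ R, r * z₀ = z₀ * r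
  LV : L = ⨆ i, V i
  dir : ∀ i, V i ⊓ (⨆ j, ⨆ (_ : j ≠ i), V j) = ⊥
  perm : ∀ s ∈ S, ∀ i, ∃ j, cj s (V i) = V j
  tr : ∀ i, ∃ s ∈ S, cj s (V i₀) = V i
  zV : ∀ i, z i ∈ V i
  z1 : z i₀ ≠ 1
  z0 : ∀ i, ∃ y ∈ (⨆ j, ⨆ (_ : j ≠ i), V j), z₀ = z i * y
  zs : ∀ s ∈ S, ∀ i, cj s (V i₀) = V i → s * z i₀ * s⁻¹ = z i
  QB : Q ≤ B
  BS : B ≤ S
  SB : S ≤ normalizer (B : Set G)
  SQ : S ≤ normalizer (Q : Set G)
  Bz : ∀ i, ∀ b ∈ B, b * z i = z i * b
  /-- `B` is a Sylow 2-subgroup of `C_G(z i : i ≠ i₀)` -/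
  Bsyl : ∀ T : Subgroup G, IsPGroup 2 T → B ≤ T → (∀ i, i ≠ i₀ → ∀ t ∈ T, t * z i = z i * t) → T ≤ B
  Bmv : ∃ t ∈ B, ∃ v ∈ V i₀, t * v ≠ v * t
  BK : B ≤ normalizer (K : Set G)
  nat : Sig.N4 Q (K ⊔ Q) W (V i₀)
  /-- (2+) -/
  WS : ∀ s ∈ S, cj s (V i₀) = V i₀ → cj s W = W
  /-- (4+) -/
  KC : ∀ s ∈ S, cj s (V i₀) ≠ V i₀ → K ≤ centralizer ((cj s W : Subgroup G) : Set G)
  Wc : ∀ s ∈ S, ∀ w ∈ W, ∀ w' ∈ W, w * (s * w' * s⁻¹) = s * w' * s⁻¹ * w

theorem inj_cj {g : G} {H K : Subgroup G} (h : cj g H = cj g K) : H = K := by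
  rw [← cj_inv_cj g H, h, cj_inv_cj]

theorem mem_cj_of {g x : G} {H : Subgroup G} (hx : x ∈ H) : g * x * g⁻¹ ∈ cj g H := ⟨x, hx, rfl⟩

theorem exists_of_mem_cj {g x : G} {H : Subgroup G} (hx : x ∈ cj g H) : ∃ y ∈ H, x = g * y * g⁻¹ := by
  obtain ⟨y, hy, e⟩ := hx
  exact ⟨y, hy, e.symm⟩

theorem cj_eq_of_centralizer {g : G} {H : Subgroup G} (h : g ∈ centralizer (H : Set G)) : cj g H = H :=
  cj_eq_of_mem_normalizer (centralizer_le_normalizer _ h)

theorem exists_fix [Finite G] {P M : Subgroup G} (hP : IsPGroup 2 P) (hM : IsPGroup 2 M) (hM1 : M ≠ ⊥)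
    (hn : ∀ x ∈ P, ∀ v ∈ M, x * v * x⁻¹ ∈ M) : ∃ v ∈ M, v ≠ 1 ∧ ∀ x ∈ P, x * v * x⁻¹ = v := by
  have : Fact (Nat.Prime 2) := ⟨Nat.prime_two⟩
  let act : MulAction P M :=
    { smul := fun x v => ⟨(x : G) * v * (x : G)⁻¹, hn x x.2 v v.2⟩
      one_smul := fun v => Subtype.ext (by show (1 : G) * v * (1 : G)⁻¹ = v; group)
      mul_smul := fun x y v => Subtype.ext (by
        show ((x : G) * y) * v * ((x : G) * y)⁻¹ = x * (y * v * (y : G)⁻¹) * (x : G)⁻¹; group) }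
  have h2 : 2 ∣ Nat.card M := by
    obtain ⟨n, hn⟩ := IsPGroup.iff_card.1 hM
    rcases Nat.eq_zero_or_pos n with h0 | h0
    · rw [h0, pow_zero] at hn
      exact absurd (Subgroup.card_eq_one.1 hn) hM1
    · rw [hn]; exact dvd_pow_self 2 h0.ne'
  obtain ⟨v, hv, hv1⟩ := hP.exists_fixed_point_of_prime_dvd_card_of_fixed_point M h2 (a := (1 : M))
    (fun x => Subtype.ext (by show (x : G) * 1 * (x : G)⁻¹ = 1; group))
  exact ⟨v, v.2, fun h => hv1 (Subtype.ext h.symm), fun x hx => congrArg Subtype.val (hv ⟨x, hx⟩)⟩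

namespace Dat

variable {S Q B L K W : Subgroup G} {V : ι → Subgroup G} {z : ι → G} {z₀ : G} {i₀ : ι}
  (h : Dat S Q B L K W V z z₀ i₀)
include h

theorem QS : Q ≤ S := h.QB.trans h.BS

theorem KW : K ≤ normalizer (W : Set G) := le_sup_left.trans h.nat.KV

theorem QW : Q ≤ normalizer (W : Set G) := le_sup_right.trans h.nat.KV

/-- the element of `S` which maps `V i₀` to `V i` -/
noncomputable def g (i : ι) : G := (h.tr i).choose

theorem gS (i : ι) : h.g i ∈ S := (h.tr i).choose_spec.1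

theorem gV (i : ι) : cj (h.g i) (V i₀) = V i := (h.tr i).choose_spec.2

/-- `W i` -/
noncomputable def Wi (i : ι) : Subgroup G := cj (h.g i) W

/-- `W^s` depends only on `(V i₀)^s` -/
theorem W_eq {s s' : G} (hs : s ∈ S) (hs' : s' ∈ S) (e : cj s (V i₀) = cj s' (V i₀)) : cj s W = cj s' W := by
  have h1 : cj (s'⁻¹ * s) (V i₀) = V i₀ := by rw [← cj_cj, e, cj_inv_cj]
  have h2 := h.WS _ (mul_mem (inv_mem hs') hs) h1
  rw [← cj_cj] at h2
  have h3 := congrArg (cj s') h2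
  rwa [cj_cj_inv] at h3

theorem Wi_eq {s : G} (hs : s ∈ S) {i : ι} (e : cj s (V i₀) = V i) : cj s W = h.Wi i :=
  h.W_eq hs (h.gS i) (e.trans (h.gV i).symm)

theorem z_ne (i : ι) : z i ≠ 1 := by
  intro e
  have h1 := h.zs _ (h.gS i) i (h.gV i)
  rw [e] at h1
  apply h.z1
  have h2 : z i₀ = (h.g i)⁻¹ * (h.g i * z i₀ * (h.g i)⁻¹) * h.g i := by group
  rw [h2, h1]; group

theorem V_inj {i j : ι} (e : V i = V j) : i = j := by
  by_contra hne
  have h1 : V i ≤ ⨆ l, ⨆ (_ : l ≠ i), V l := by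
    rw [e]
    exact le_iSup₂_of_le (f := fun l (_ : l ≠ i) => V l) j (Ne.symm hne) le_rfl
  have h2 : z i ∈ V i ⊓ ⨆ l, ⨆ (_ : l ≠ i), V l := ⟨h.zV i, h1 (h.zV i)⟩
  rw [h.dir i, mem_bot] at h2
  exact h.z_ne i h2

theorem Wi₀ : h.Wi i₀ = W := by
  have h1 := h.Wi_eq (one_mem S) (i := i₀) (cj_one _)
  rw [← h1, cj_one]

theorem V_le (i : ι) : V i ≤ h.Wi i := by
  have h1 := cj_mono (h.g i) h.nat.V1V
  rwa [h.gV i] at h1

/-- `S` permutes the `W i` as the `V i` -/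
theorem Wi_perm {s : G} (hs : s ∈ S) {i j : ι} (e : cj s (V i) = V j) : cj s (h.Wi i) = h.Wi j := by
  rw [Wi, cj_cj]
  refine h.Wi_eq (mul_mem hs (h.gS i)) ?_
  rw [← cj_cj, h.gV i, e]

/-- `K^(g i)` centralises `W l`, `l ≠ i` -/
theorem K_cent {i l : ι} (hl : l ≠ i) {k : G} (hk : k ∈ K) :
    h.g i * k * (h.g i)⁻¹ ∈ centralizer (h.Wi l : Set G) := by
  have h1 : cj ((h.g i)⁻¹ * h.g l) (V i₀) ≠ V i₀ := by
    intro e
    rw [← cj_cj, h.gV l] at e
    have h2 := congrArg (cj (h.g i)) e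
    rw [cj_cj_inv, h.gV i] at h2
    exact hl (h.V_inj h2)
  have h2 := h.KC _ (mul_mem (inv_mem (h.gS i)) (h.gS l)) h1 hk
  rw [mem_centralizer_iff] at h2 ⊢
  intro w hw
  obtain ⟨y, hy, rfl⟩ := exists_of_mem_cj hw
  have h3 := h2 ((h.g i)⁻¹ * h.g l * y * ((h.g i)⁻¹ * h.g l)⁻¹) (mem_cj_of hy)
  calc h.g l * y * (h.g l)⁻¹ * (h.g i * k * (h.g i)⁻¹)
      = h.g i * ((h.g i)⁻¹ * h.g l * y * ((h.g i)⁻¹ * h.g l)⁻¹ * k) * (h.g i)⁻¹ := by group
    _ = h.g i * (k * ((h.g i)⁻¹ * h.g l * y * ((h.g i)⁻¹ * h.g l)⁻¹)) * (h.g i)⁻¹ := by rw [h3]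
    _ = h.g i * k * (h.g i)⁻¹ * (h.g l * y * (h.g l)⁻¹) := by group

theorem K_cent₀ {l : ι} (hl : l ≠ i₀) {k : G} (hk : k ∈ K) : k ∈ centralizer (h.Wi l : Set G) := by
  have h2 := h.KC _ (h.gS l) (by rw [h.gV l]; exact fun e => hl (h.V_inj e)) hk
  exact h2

/-- the `W i` commute -/
theorem Wi_comm (i l : ι) : ∀ u ∈ h.Wi i, ∀ v ∈ h.Wi l, u * v = v * u := by
  intro u hu v hv
  obtain ⟨a, ha, rfl⟩ := exists_of_mem_cj hu
  obtain ⟨b, hb, rfl⟩ := exists_of_mem_cj hv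
  have h1 := h.Wc _ (mul_mem (inv_mem (h.gS i)) (h.gS l)) a ha b hb
  calc h.g i * a * (h.g i)⁻¹ * (h.g l * b * (h.g l)⁻¹)
      = h.g i * (a * ((h.g i)⁻¹ * h.g l * b * ((h.g i)⁻¹ * h.g l)⁻¹)) * (h.g i)⁻¹ := by group
    _ = h.g i * ((h.g i)⁻¹ * h.g l * b * ((h.g i)⁻¹ * h.g l)⁻¹ * a) * (h.g i)⁻¹ := by rw [h1]
    _ = h.g l * b * (h.g l)⁻¹ * (h.g i * a * (h.g i)⁻¹) := by group

/-- `B` normalises the `V i` -/
theorem BV (i : ι) : B ≤ normalizer (V i : Set G) := by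
  intro b hb
  rw [mem_normalizer_iff_cj]
  obtain ⟨j, hj⟩ := h.perm b (h.BS hb) i
  by_cases e : j = i
  · rw [hj, e]
  · exfalso
    have h1 : b * z i * b⁻¹ ∈ V j := by rw [← hj]; exact mem_cj_of (h.zV i)
    have h2 : b * z i * b⁻¹ = z i := by rw [h.Bz i b hb]; group
    rw [h2] at h1
    have h3 : z i ∈ V i ⊓ ⨆ l, ⨆ (_ : l ≠ i), V l :=
      ⟨h.zV i, le_iSup₂_of_le (f := fun l (_ : l ≠ i) => V l) j e le_rfl h1⟩
    rw [h.dir i, mem_bot] at h3
    exact h.z_ne i h3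

/-- `B` normalises the `W i` -/
theorem BW (i : ι) {b : G} (hb : b ∈ B) : cj b (h.Wi i) = h.Wi i :=
  h.Wi_perm (h.BS hb) (cj_eq_of_mem_normalizer (h.BV i hb))

/-- **(Sig)** -/
theorem sig [Finite G] : ∀ s ∈ S, cj s (V i₀) = V i₀ → ∀ k ∈ K ⊔ Q, ∃ k' ∈ K ⊔ Q,
    cj s (cj k (V i₀)) = cj k' (V i₀) := by
  intro s hs hsV
  have hS1 : S ⊓ normalizer (V i₀ : Set G) ≤ S := inf_le_left
  have hz : ∀ x ∈ S ⊓ normalizer (V i₀ : Set G), x * z i₀ = z i₀ * x := by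
    rintro x ⟨hx, hxn⟩
    have h1 := h.zs x hx i₀ (cj_eq_of_mem_normalizer hxn)
    calc x * z i₀ = x * z i₀ * x⁻¹ * x := by group
      _ = z i₀ * x := by rw [h1]
  obtain ⟨t, ht, hmv⟩ := h.Bmv
  have hBV := h.BV i₀
  refine h.nat.sig (S1 := S ⊓ normalizer (V i₀ : Set G)) (B := B) (h.two.to_le inf_le_left) (le_inf h.BS hBV) h.QB
    (inf_le_left.trans h.SB) (inf_le_left.trans h.SQ) ?_ inf_le_right ?_ (h.zV i₀) h.z1 hz ht hmv ?_ s
    ⟨hs, mem_normalizer_iff_cj.2 hsV⟩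
  · rintro x ⟨hx, hxn⟩
    exact mem_normalizer_iff_cj.2 (h.WS x hx (cj_eq_of_mem_normalizer hxn))
  · intro b hb k hk
    have h1 := h.BK hb
    have h2 := h.SQ (h.BS hb)
    have h3 : b ∈ normalizer ((K ⊔ Q : Subgroup G) : Set G) := by
      rw [mem_normalizer_iff_cj] at h1 h2 ⊢
      rw [show cj b (K ⊔ Q) = cj b K ⊔ cj b Q from Subgroup.map_sup _ _ _, h1, h2]
    refine ⟨b * k * b⁻¹, (mem_normalizer_iff.1 h3 k).1 hk, ?_⟩
    conv_rhs => rw [← cj_eq_of_mem_normalizer (hBV hb)]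
    rw [cj_cj, cj_cj, inv_mul_cancel_right]
  · rintro x ⟨hx, hxn⟩ T hT hBT hTle
    refine h.Bsyl T hT hBT fun i hi t ht => ?_
    have hxV := cj_eq_of_mem_normalizer hxn
    -- everything commutes with `z i`
    have hKz : ∀ l, l ≠ i₀ → ∀ k ∈ K ⊔ Q, k * z l = z l * k := by
      intro l hl k hk
      have h1 : K ⊔ Q ≤ centralizer ({z l} : Set G) := by
        refine sup_le (fun k hk => ?_) fun q hq => ?_
        · have h2 := mem_centralizer_iff.1 (h.K_cent₀ hl hk) _ (h.V_le l (h.zV l))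
          exact mem_centralizer_singleton_iff.2 h2.symm
        · exact mem_centralizer_singleton_iff.2 (h.Bz l q (h.QB hq))
      exact mem_centralizer_singleton_iff.1 (h1 hk)
    have h1 : (K ⊔ Q) ⊔ cj x (K ⊔ Q) ⊔ B ≤ centralizer ({z i} : Set G) := by
      refine sup_le (sup_le (fun k hk => mem_centralizer_singleton_iff.2 (hKz i hi k hk)) ?_) fun b hb =>
        mem_centralizer_singleton_iff.2 (h.Bz i b hb)
      rintro _ ⟨k, hk, rfl⟩
      rw [mem_centralizer_singleton_iff]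
      -- `x⁻¹ z i x = z l`
      obtain ⟨l, hl⟩ := h.perm x⁻¹ (inv_mem hx) i
      have hli : l ≠ i₀ := by
        rintro rfl
        have h2 := congrArg (cj x) hl
        rw [cj_cj_inv, hxV] at h2
        exact hi (h.V_inj h2)
      have h3 : x⁻¹ * z i * x = z l := by
        have h4 := h.zs _ (h.gS i) i (h.gV i)
        have h5 := h.zs (x⁻¹ * h.g i) (mul_mem (inv_mem hx) (h.gS i)) l (by rw [← cj_cj, h.gV i, hl])
        rw [← h4, ← h5]; group
      have h4 := hKz l hli k hk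
      show x * k * x⁻¹ * z i = z i * (x * k * x⁻¹)
      calc x * k * x⁻¹ * z i = x * (k * (x⁻¹ * z i * x)) * x⁻¹ := by group
        _ = x * ((x⁻¹ * z i * x) * k) * x⁻¹ := by rw [h3, h4]
        _ = z i * (x * k * x⁻¹) := by group
    exact mem_centralizer_singleton_iff.1 (h1 (hTle ht))

/-- the lines of `W i` -/
def Sp (i : ι) : Set (Subgroup G) := {ℓ | ∃ k ∈ K ⊔ Q, ℓ = cj (h.g i) (cj k (V i₀))}

theorem mem_Sp [Finite G] {s k : G} (hs : s ∈ S) {i : ι} (e : cj s (V i₀) = V i) (hk : k ∈ K ⊔ Q) :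
    cj s (cj k (V i₀)) ∈ h.Sp i := by
  have h1 : cj ((h.g i)⁻¹ * s) (V i₀) = V i₀ := by rw [← cj_cj, e, ← h.gV i, cj_inv_cj]
  obtain ⟨k', hk', h2⟩ := h.sig _ (mul_mem (inv_mem (h.gS i)) hs) h1 k hk
  refine ⟨k', hk', ?_⟩
  rw [← h2, cj_cj (h.g i), mul_inv_cancel_left]

theorem line_le (k : G) (hk : k ∈ K ⊔ Q) : cj k (V i₀) ≤ W := by
  have h1 := cj_mono k h.nat.V1V
  rwa [cj_eq_of_mem_normalizer (h.nat.KV hk)] at h1

theorem Sp_le {i : ι} {ℓ : Subgroup G} (hℓ : ℓ ∈ h.Sp i) : ℓ ≤ h.Wi i := by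
  obtain ⟨k, hk, rfl⟩ := hℓ
  exact cj_mono _ (h.line_le k hk)

/-- `P g` : `g` permutes the `(W i, Sp i)` -/
def Pm (x : G) : Prop := ∀ i, ∃ j, cj x (h.Wi i) = h.Wi j ∧ ∀ ℓ ∈ h.Sp i, cj x ℓ ∈ h.Sp j

theorem pm_one : h.Pm 1 := fun i => ⟨i, cj_one _, fun ℓ hℓ => by rw [cj_one]; exact hℓ⟩

theorem pm_mul {x y : G} (hx : h.Pm x) (hy : h.Pm y) : h.Pm (x * y) := by
  intro i
  obtain ⟨j, h1, h2⟩ := hy i
  obtain ⟨l, h3, h4⟩ := hx j
  refine ⟨l, by rw [← cj_cj, h1, h3], fun ℓ hℓ => ?_⟩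
  rw [← cj_cj]
  exact h4 _ (h2 _ hℓ)

theorem pm_pow {x : G} (hx : h.Pm x) (n : ℕ) : h.Pm (x ^ n) := by
  induction n with
  | zero => rw [pow_zero]; exact h.pm_one
  | succ n ih => rw [pow_succ]; exact h.pm_mul ih hx

theorem pm_inv [Finite G] {x : G} (hx : h.Pm x) : h.Pm x⁻¹ := by
  have h1 : x⁻¹ = x ^ (orderOf x - 1) := by
    rw [inv_eq_iff_mul_eq_one, ← pow_succ', Nat.sub_add_cancel (orderOf_pos x), pow_orderOf_eq_one]
  rw [h1]
  exact h.pm_pow hx _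

theorem pm_S [Finite G] {s : G} (hs : s ∈ S) : h.Pm s := by
  intro i
  obtain ⟨j, hj⟩ := h.perm s hs i
  refine ⟨j, h.Wi_perm hs hj, ?_⟩
  rintro _ ⟨k, hk, rfl⟩
  rw [cj_cj]
  exact h.mem_Sp (mul_mem hs (h.gS i)) (by rw [← cj_cj, h.gV i, hj]) hk

theorem pm_K [Finite G] {k : G} (hk : k ∈ K) : h.Pm k := by
  intro i
  refine ⟨i, ?_⟩
  by_cases e : i = i₀
  · subst e
    refine ⟨by rw [h.Wi₀]; exact cj_eq_of_mem_normalizer (h.KW hk), ?_⟩
    rintro _ ⟨k', hk', rfl⟩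
    obtain ⟨k'', hk'', h1⟩ := h.sig _ (h.gS i) (h.gV i) k' hk'
    rw [h1, cj_cj]
    have h2 := h.mem_Sp (one_mem S) (cj_one (V i)) (mul_mem (mem_sup_left hk) hk'')
    rwa [cj_one] at h2
  · have h1 := h.K_cent₀ e hk
    refine ⟨cj_eq_of_centralizer h1, fun ℓ hℓ => ?_⟩
    rw [cj_eq_of_centralizer (centralizer_le (h.Sp_le hℓ) h1)]
    exact hℓ

theorem pm [Finite G] : ∀ x ∈ K ⊔ S, h.Pm x := by
  let H : Subgroup G :=
    { carrier := {x | h.Pm x}
      one_mem' := h.pm_one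
      mul_mem' := fun hx hy => h.pm_mul hx hy
      inv_mem' := fun hx => h.pm_inv hx }
  have h1 : K ⊔ S ≤ H := sup_le (fun k hk => h.pm_K hk) fun s hs => h.pm_S hs
  exact fun x hx => h1 hx

/-- a point of `W` fixed by `K` and `Q` is trivial -/
theorem fix_one [Finite G] {w : G} (hw : w ∈ W) (hc : ∀ k ∈ K ⊔ Q, k * w = w * k) : w = 1 := by
  obtain ⟨l, hl, hmv⟩ := h.nat.mv
  -- `Q` moves `W`
  have h1 : ∃ b ∈ Q, ∃ v ∈ W, b * v ≠ v * b := by
    by_contra hcon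
    push Not at hcon
    have h2 : Q ⊓ centralizer (W : Set G) = Q := inf_eq_left.2 fun b hb => mem_centralizer_iff.2 fun v hv =>
      (hcon b hb v hv).symm
    have h3 := h.nat.cardB
    rw [h2] at h3
    have h4 : 0 < Nat.card Q := Nat.card_pos
    omega
  obtain ⟨b, hb, v, hv, hne⟩ := h1
  have h2 := h.nat.cent b hb ⟨v, hv, hne⟩ w hw (hc b (mem_sup_right hb))
  refine h.nat.opp l hl hmv w h2 ?_
  rw [hc l hl]
  simpa using h2

/-- the product of the `W i` is direct -/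
theorem dirW [Finite G] (i : ι) : h.Wi i ⊓ ⨆ (l) (_ : l ≠ i), h.Wi l = ⊥ := by
  by_contra hne
  have hn : ∀ x ∈ Q, ∀ v ∈ h.Wi i ⊓ ⨆ (l) (_ : l ≠ i), h.Wi l, x * v * x⁻¹ ∈
      h.Wi i ⊓ ⨆ (l) (_ : l ≠ i), h.Wi l := by
    rintro x hx v ⟨hv, hv'⟩
    refine ⟨?_, ?_⟩
    · have h1 := h.BW i (h.QB hx)
      rw [← h1]
      exact mem_cj_of hv
    · have h1 : cj x (⨆ (l) (_ : l ≠ i), h.Wi l) ≤ ⨆ (l) (_ : l ≠ i), h.Wi l := by
        rw [cj_le_iff]
        refine iSup₂_le fun l hl => ?_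
        rw [← cj_le_iff, h.BW l (h.QB hx)]
        exact le_iSup₂_of_le (f := fun l (_ : l ≠ i) => h.Wi l) l hl le_rfl
      exact h1 (mem_cj_of hv')
  have hp : IsPGroup 2 (h.Wi i ⊓ ⨆ (l) (_ : l ≠ i), h.Wi l : Subgroup G) := fun x => ⟨1, by
    obtain ⟨w, hw, e⟩ := exists_of_mem_cj x.2.1
    have h1 := h.nat.el.2 w hw
    refine Subtype.ext ?_
    show (x : G) ^ (2 ^ 1) = 1
    rw [e, pow_one]
    calc (h.g i * w * (h.g i)⁻¹) ^ 2 = h.g i * w ^ 2 * (h.g i)⁻¹ := by rw [pow_two, pow_two]; group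
      _ = 1 := by rw [h1]; group⟩
  obtain ⟨v, ⟨hv, hv'⟩, hv1, hvf⟩ := exists_fix (h.two.to_le h.QS) hp hne hn
  · obtain ⟨w, hw, rfl⟩ := exists_of_mem_cj hv
    apply hv1
    have h1 : w = 1 := by
      refine h.fix_one hw ?_
      have h2 : K ⊔ Q ≤ centralizer ({w} : Set G) := by
        refine sup_le (fun k hk => ?_) fun q hq => ?_
        · have h3 : ⨆ (l) (_ : l ≠ i), h.Wi l ≤ centralizer ({h.g i * k * (h.g i)⁻¹} : Set G) := by
            refine iSup₂_le fun l hl x hx => ?_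
            rw [mem_centralizer_singleton_iff]
            exact mem_centralizer_iff.1 (h.K_cent hl hk) x hx
          have h4 := mem_centralizer_singleton_iff.1 (h3 hv')
          rw [mem_centralizer_singleton_iff]
          have h5 : h.g i * (w * k) * (h.g i)⁻¹ = h.g i * (k * w) * (h.g i)⁻¹ := by
            calc h.g i * (w * k) * (h.g i)⁻¹ = h.g i * w * (h.g i)⁻¹ * (h.g i * k * (h.g i)⁻¹) := by group
              _ = h.g i * k * (h.g i)⁻¹ * (h.g i * w * (h.g i)⁻¹) := h4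
              _ = h.g i * (k * w) * (h.g i)⁻¹ := by group
          exact (mul_left_cancel (mul_right_cancel h5)).symm
        · have h3 : h.g i * q * (h.g i)⁻¹ ∈ Q := (mem_normalizer_iff.1 (h.SQ (h.gS i)) q).1 hq
          have h4 := hvf _ h3
          rw [mem_centralizer_singleton_iff]
          have h5 : h.g i * (q * w * q⁻¹) * (h.g i)⁻¹ = h.g i * w * (h.g i)⁻¹ := by
            rw [← h4]; group
          have h6 := mul_left_cancel (mul_right_cancel h5)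
          calc q * w = q * w * q⁻¹ * q := by group
            _ = w * q := by rw [h6]
      exact fun k hk => mem_centralizer_singleton_iff.1 (h2 hk)
    rw [h1]; group

theorem sys [Finite G] : Sys (K ⊔ S) h.Wi V h.Sp z₀ where
  comm i l _ := h.Wi_comm i l
  dir := h.dirW
  le i ℓ hℓ := h.Sp_le hℓ
  mem i := ⟨1, one_mem _, by rw [cj_one, h.gV i]⟩
  spr := by
    rintro i _ ⟨k, hk, rfl⟩ _ ⟨k', hk', rfl⟩ u hu hu' hu1
    congr 1
    obtain ⟨v, hv, rfl⟩ := exists_of_mem_cj hu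
    have hv' : v ∈ cj k' (V i₀) := by
      obtain ⟨v', hv', e⟩ := exists_of_mem_cj hu'
      have : v = v' := by
        have := mul_left_cancel (mul_right_cancel e)
        exact this
      rwa [this]
    have hv1 : v ≠ 1 := by
      rintro rfl
      apply hu1; group
    -- `l = k'⁻¹ k` maps `V i₀` to itself
    have hl : k'⁻¹ * k ∈ K ⊔ Q := mul_mem (inv_mem hk') hk
    obtain ⟨a, ha, rfl⟩ := exists_of_mem_cj hv
    obtain ⟨b, hb, e⟩ := exists_of_mem_cj hv'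
    have h1 : (k'⁻¹ * k) * a * (k'⁻¹ * k)⁻¹ = b := by
      calc (k'⁻¹ * k) * a * (k'⁻¹ * k)⁻¹ = k'⁻¹ * (k * a * k⁻¹) * k' := by group
        _ = b := by rw [e]; group
    have h2 : ¬ ∃ v ∈ V i₀, (k'⁻¹ * k) * v * (k'⁻¹ * k)⁻¹ ∉ V i₀ := by
      intro hcon
      have h3 := h.nat.opp _ hl hcon a ha (by rw [h1]; exact hb)
      apply hv1
      rw [h3]; group
    push Not at h2
    have h3 : cj (k'⁻¹ * k) (V i₀) ≤ V i₀ := by
      intro x hx
      obtain ⟨y, hy, rfl⟩ := exists_of_mem_cj hx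
      exact h2 y hy
    have h4 : cj (k'⁻¹ * k) (V i₀) = V i₀ := Subgroup.eq_of_le_of_card_ge h3 (by rw [card_cj])
    rw [← cj_cj] at h4
    have h5 := congrArg (cj k') h4
    rwa [cj_cj_inv] at h5
  perm x hx i := h.pm x hx i
  zV := by
    obtain ⟨y, hy, e⟩ := h.z0 i₀
    rw [e]
    exact mul_mem (mem_iSup_of_mem i₀ (h.zV i₀)) ((iSup₂_le fun j _ => le_iSup V j : _ ≤ _) hy)
  zn i := by
    intro hcon
    obtain ⟨y, hy, e⟩ := h.z0 i
    have h1 : y ∈ ⨆ (l) (_ : l ≠ i), h.Wi l :=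
      (iSup₂_mono fun l _ => h.V_le l : _ ≤ ⨆ (l) (_ : l ≠ i), h.Wi l) hy
    have h2 : z i ∈ ⨆ (l) (_ : l ≠ i), h.Wi l := by
      have : z i = z₀ * y⁻¹ := by rw [e]; group
      rw [this]
      exact mul_mem hcon (inv_mem h1)
    have h3 : z i ∈ h.Wi i ⊓ ⨆ (l) (_ : l ≠ i), h.Wi l := ⟨h.V_le i (h.zV i), h2⟩
    rw [h.dirW i, mem_bot] at h3
    exact h.z_ne i h3

/-- **(6)** : the contradiction -/
theorem false [Finite G] : False := by
  obtain ⟨l, hl, v, hv, hlv⟩ := h.nat.mv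
  have hQS := h.QS
  have hlL : l ∈ K ⊔ S := (sup_le_sup le_rfl hQS : _ ≤ _) hl
  refine h.sys.false_of (gen := {x | x ∈ K ⊔ S ∧ x * z₀ = z₀ * x ∨ cj x (⨆ i, V i) = ⨆ i, V i}) ?_
    (fun x hx => hx) hlL (i := i₀) ?_ ?_
  · refine le_of_forall (S := S) le_sup_right ?_ ?_
    · rintro x ⟨-, hx⟩
      refine subset_closure (Or.inr ?_)
      rw [← h.LV]
      exact cj_eq_of_mem_normalizer (h.nS hx)
    · intro R hR hRL x hx
      refine subset_closure ?_
      rcases h.par R hR hRL with h1 | h1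
      · right
        rw [← h.LV]
        exact cj_eq_of_mem_normalizer (h1 hx)
      · exact Or.inl ⟨hRL hx, h1 x hx⟩
  · rw [h.Wi₀]
    exact cj_eq_of_mem_normalizer (h.nat.KV hl)
  · intro e
    apply hlv
    rw [← e]
    exact mem_cj_of hv

end Dat

end Cfsg.Agent.Omega.NO3S.WY.Tor.End

end

section


/-!
# THEOREM TOR: the end over the frame `Cx`, `TY`, `Pr` of helper474

* `TY.n4` : `W` is a natural `SL₂(4)`-module for `O²(Y) Q` (`Sig.N4`), if `F = 1`;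
* `TY.endDat` : the structure `End.Dat`;
* `TY.false_end` : `S` permutes the `W_i` (`WS`) and `O²(Y)` centralises the other `W_i` (`KC`) ⇒ contradiction.
-/

set_option autoImplicit false
set_option linter.unusedSectionVars false

namespace Cfsg.Agent.Omega.NO3S.WY.Tor

open Subgroup Cfsg Cfsg.Agent.ZN Cfsg.Agent.ZN.ChoiceBase
open Cfsg.Agent.ZN.ChoiceSit (Syl)
open Cfsg.Agent.MinSimple.MinParabolic (IsMinPar)
open Cfsg.Agent.MinSimple.VModule (oddGen mem_oddGen)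
open Cfsg.Agent.Omega.OM.Lev.Low.TorusK (Sig.N4)

universe u

variable {G : Type u} [Group G] {ι : Type}

namespace Cx

variable {S B Q M X L : Subgroup G} {V : ι → Subgroup G} {z : ι → G} (c : Cx S B Q M X L V z)
include c

theorem SnQ : S ≤ normalizer (Q : Set G) := by
  intro s hs
  rw [mem_normalizer_iff_cj]
  apply c.wc
  have h1 := cj_mono s (c.QB.trans c.BS)
  rwa [cj_eq_of_mem_normalizer (le_normalizer hs)] at h1

theorem SnB : S ≤ normalizer (B : Set G) := by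
  have key : ∀ s ∈ S, ∀ b ∈ B, s * b * s⁻¹ ∈ B := by
    intro s hs b hb
    refine c.memB _ (mul_mem (mul_mem hs (c.BS hb)) (inv_mem hs)) fun i => ?_
    obtain ⟨j, hj⟩ := c.zS s⁻¹ (inv_mem hs) i
    rw [inv_inv] at hj
    have h1 := c.Bz b hb j
    rw [← hj] at h1
    calc s * b * s⁻¹ * z i = s * (b * (s⁻¹ * z i * s)) * s⁻¹ := by group
      _ = s * (s⁻¹ * z i * s * b) * s⁻¹ := by rw [h1]
      _ = z i * (s * b * s⁻¹) := by group
  intro s hs
  rw [mem_normalizer_iff]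
  intro b
  refine ⟨key s hs b, fun h => ?_⟩
  have := key s⁻¹ (inv_mem hs) _ h
  have e : s⁻¹ * (s * b * s⁻¹) * s⁻¹⁻¹ = b := by group
  rwa [e] at this

theorem VLe (i : ι) : V i ≤ L := by
  rw [c.eL]; exact le_iSup V i

theorem NQ_L : normalizer (Q : Set G) ≤ normalizer (L : Set G) := by
  have key : ∀ g ∈ normalizer (Q : Set G), cj g L ≤ L := by
    intro g hg
    rw [c.eL, show cj g (⨆ i, V i) = (⨆ i, V i).map (MulAut.conj g).toMonoidHom from rfl, Subgroup.map_iSup]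
    refine iSup_le fun i => ?_
    obtain ⟨j, hj⟩ := c.perm g hg i
    rw [show (V i).map (MulAut.conj g).toMonoidHom = cj g (V i) from rfl, hj]
    exact le_iSup V j
  intro g hg
  rw [mem_normalizer_iff_cj]
  refine le_antisymm (key g hg) ?_
  have h1 := key g⁻¹ (inv_mem hg)
  rwa [cj_le_iff, inv_inv] at h1

theorem nS : normalizer (S : Set G) ≤ normalizer (L : Set G) := by
  intro g hg
  refine c.NQ_L ?_
  rw [mem_normalizer_iff_cj]
  apply c.wc
  have h1 := cj_mono g (c.QB.trans c.BS)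
  rwa [cj_eq_of_mem_normalizer hg] at h1

theorem V_inj' {i m : ι} {x : G} (hx : x ∈ V i) (hx' : x ∈ V m) (h1 : x ≠ 1) : m = i := by
  by_contra hne
  have h2 : x ∈ V i ⊓ VV V i := ⟨hx, le_iSup₂_of_le (f := fun l (_ : l ≠ i) => V l) m hne le_rfl hx'⟩
  rw [c.ind i, mem_bot] at h2
  exact h1 h2

theorem zs' {s : G} (hs : s ∈ S) {i j : ι} (e : cj s (V j) = V i) : s * z j * s⁻¹ = z i := by
  obtain ⟨m, hm⟩ := c.zS s hs j
  have h1 : z m ∈ V i := by
    rw [← hm, ← e]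
    exact ⟨z j, c.zV j, rfl⟩
  rw [hm, c.V_inj' h1 (c.zV m) (c.z1 m)]

end Cx

theorem sw_pow (a : ℕ) : (Equiv.swap (0 : Fin 5) 1 * Equiv.swap (1 : Fin 5) 2 : Equiv.Perm (Fin 5)) ^ 2 ^ a =
      (Equiv.swap (0 : Fin 5) 1 * Equiv.swap (1 : Fin 5) 2) ∨
    (Equiv.swap (0 : Fin 5) 1 * Equiv.swap (1 : Fin 5) 2 : Equiv.Perm (Fin 5)) ^ 2 ^ a =
      (Equiv.swap (0 : Fin 5) 1 * Equiv.swap (1 : Fin 5) 2) ^ 2 := by
  induction a with
  | zero => left; rw [pow_zero, pow_one]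
  | succ a ih =>
    rw [pow_succ, pow_mul]
    rcases ih with ih | ih
    · right; rw [ih]
    · left; rw [ih]; decide

theorem sw_ne (a : ℕ) :
    ((Equiv.swap (0 : Fin 5) 1 * Equiv.swap (1 : Fin 5) 2 : Equiv.Perm (Fin 5)) ^ 2 ^ a) 0 ≠ 0 := by
  rcases sw_pow a with h | h
  · rw [h]; decide
  · rw [h]; decide

namespace TY

variable {S B Q M X L : Subgroup G} {V : ι → Subgroup G} {z : ι → G} {𝓦 : Set (Subgroup G)} {j : ι}
  {Y W F : Subgroup G} {z₀ : G}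

theorem n4 [Finite G] (h : TY S B Q M X V z 𝓦 j Y W F) (c : Cx S B Q M X L V z) (hF : F = ⊥) :
    Sig.N4 Q (oddGen Y ⊔ Q) W (V j) := by
  subst hF
  have hBY : B ≤ Y := h.min.le
  have hKY : oddGen Y ⊔ Q ≤ Y := sup_le (MinSimple.VModule.oddGen_le Y) (c.QB.trans hBY)
  obtain ⟨ℓ, π, e0, hℓW, hℓ, hπ, hA, hker⟩ := h.act
  rw [sup_bot_eq] at e0
  refine ⟨?_, ?_, h.VW, c.cV j, le_sup_right, hKY.trans h.YW, ?_, ?_, ?_, ?_, ?_, ?_⟩
  · refine ⟨⟨⟨fun x y => Subtype.ext (c.Xc x (h.WX x.2) y (h.WX y.2))⟩⟩, fun x hx => ?_⟩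
    rw [pow_two]; exact c.Xs x (h.WX hx)
  · rw [h.cW, Subgroup.card_bot]
  · intro b hb v hv
    exact c.cQL b hb v (c.VLe j hv)
  · intro b hb v hv
    have := h.quad b hb v hv
    rwa [sup_bot_eq] at this
  · rintro b hb ⟨w, hw, hne⟩ v hv hc
    by_contra hcon
    refine hne (h.free b hb v hv (by rwa [sup_bot_eq]) ?_ w hw)
    rw [hc, mem_bot]; group
  · rw [h.cardQ, mul_comm]
  · rintro l hl ⟨v, hv, hne⟩ w hw hlw
    have hlY := hKY hl
    have h1 := hπ ⟨l, hlY⟩ 0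
    rw [e0] at h1
    by_cases e : π ⟨l, hlY⟩ 0 = 0
    · exfalso
      rw [e, e0] at h1
      apply hne
      rw [← h1]
      exact ⟨v, hv, rfl⟩
    · have h2 := hℓ _ _ e
      have h3 : l * w * l⁻¹ ∈ ℓ (π ⟨l, hlY⟩ 0) ⊓ ℓ 0 := by
        refine ⟨?_, by rw [e0]; exact hlw⟩
        rw [← h1]
        exact ⟨w, hw, rfl⟩
      rw [h2, mem_bot] at h3
      calc w = l⁻¹ * (l * w * l⁻¹) * l := by group
        _ = 1 := by rw [h3]; group
  · -- a 3-element
    have h3c : (Equiv.swap (0 : Fin 5) 1 * Equiv.swap (1 : Fin 5) 2 : Equiv.Perm (Fin 5)) ∈ alternatingGroup (Fin 5) := by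
      rw [Equiv.Perm.mem_alternatingGroup]
      decide
    obtain ⟨y, hy⟩ := hA h3c
    obtain ⟨a, m, hm, e⟩ := Nat.exists_eq_two_pow_mul_odd (n := orderOf (y : G)) (orderOf_pos (y : G)).ne'
    have ho : Odd (orderOf ((y : G) ^ 2 ^ a)) := by
      rw [orderOf_pow_of_dvd (by positivity) (by rw [e]; exact Dvd.intro _ rfl), e,
        Nat.mul_div_cancel_left _ (by positivity)]
      exact hm
    have hyK : (y : G) ^ 2 ^ a ∈ oddGen Y ⊔ Q := mem_sup_left (mem_oddGen (pow_mem y.2 _) ho)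
    refine ⟨_, hyK, ?_⟩
    by_contra hcon
    push Not at hcon
    have h1 := hπ (y ^ 2 ^ a) 0
    rw [e0, map_pow, hy] at h1
    -- the image of the line is another line
    have h2 := sw_ne a
    have h4 := hℓ _ _ h2
    rw [e0, ← h1] at h4
    have h5 : cj ((y ^ 2 ^ a : Y) : G) (V j) ≤ V j := by
      rintro _ ⟨v, hv, rfl⟩
      exact hcon v hv
    rw [inf_eq_left.2 h5] at h4
    have h6 := card_cj ((y ^ 2 ^ a : Y) : G) (V j)
    rw [h4, c.cV j, Subgroup.card_bot] at h6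
    omega

/-- the structure of `End.lean` -/
theorem endDat [Finite G] (h : TY S B Q M X V z 𝓦 j Y W F) (c : Cx S B Q M X L V z) (hF : F = ⊥)
    (p : Pr S M L V z z₀) (WS : ∀ s ∈ S, cj s (V j) = V j → cj s W = W)
    (KC : ∀ s ∈ S, cj s (V j) ≠ V j → oddGen Y ≤ centralizer ((cj s W : Subgroup G) : Set G)) :
    End.Dat S Q B L (oddGen Y) W V z z₀ j where
  two := c.S2
  syl := c.Sidx
  nS := c.nS
  par R hR hRL := by
    have hKM : oddGen Y ⊔ S ≤ M := sup_le ((MinSimple.VModule.oddGen_le Y).trans h.YM) c.SM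
    rcases p.par R hR (hRL.trans hKM) with h1 | h1
    · exact Or.inl h1
    · refine Or.inr fun r hr => ?_
      calc r * z₀ = r * z₀ * r⁻¹ * r := by group
        _ = z₀ * r := by rw [h1 r hr]
  LV := c.eL
  dir := c.ind
  perm s hs i := c.perm s (c.SnQ hs) i
  tr i := c.tr j i
  zV := c.zV
  z1 := c.z1 j
  z0 := p.z0
  zs s hs i e := c.zs' hs e
  QB := c.QB
  BS := c.BS
  SB := c.SnB
  SQ := c.SnQ
  Bz i b hb := c.Bz b hb i
  Bsyl T hT hBT hz := c.sylB j T hT hBT fun i hi x hx => hz i hi x hx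
  Bmv := by
    obtain ⟨t, ht, -, v, hv, hne⟩ := c.t j
    exact ⟨t, ht, v, hv, hne⟩
  BK := h.min.le.trans (MinSimple.VModule.le_normalizer_oddGen Y)
  nat := h.n4 c hF
  WS := WS
  KC := KC
  Wc s hs w hw w' hw' := by
    have h1 : s * w' * s⁻¹ ∈ X := (mem_normalizer_iff.1 (c.MX (c.SM hs)) w').1 (h.WX hw')
    exact c.Xc w (h.WX hw) _ h1

/-- **(Sig), (6)**: the contradiction. -/
theorem false_end [Finite G] (h : TY S B Q M X V z 𝓦 j Y W F) (c : Cx S B Q M X L V z) (hF : F = ⊥)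
    (p : Pr S M L V z z₀) (WS : ∀ s ∈ S, cj s (V j) = V j → cj s W = W)
    (KC : ∀ s ∈ S, cj s (V j) ≠ V j → oddGen Y ≤ centralizer ((cj s W : Subgroup G) : Set G)) : False :=
  (h.endDat c hF p WS KC).false

end TY

end Cfsg.Agent.Omega.NO3S.WY.Tor

end

end

-- merged: Cfsg.Agent.Mrg.Omega.NO3S.WY.Tor.UniF
section

/-!
# THEOREM TOR, (2+) over the frame: `W^g = W`

* `TY.Syl_B` : `B` is a Sylow 2-subgroup of `Y`; `TY.le_comm` : `W = [W, O²(Y)]` (`F = 1`);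
* `Cx.cj_VV` : `g ∈ N(Q)`, `V_j^g = V_j`: `V_(j)^g = V_(j)`;
* `Cx.odd_index` : `C_B(V_(j))` has odd index in every `N ≥ C_B(V_(j))` centralising `V_(j)`;
* `TY.cj_W_eq` : **(2+)**.
-/

set_option autoImplicit false
set_option linter.unusedSectionVars false

namespace Cfsg.Agent.Omega.NO3S.WY.Tor

open Subgroup Cfsg Cfsg.Agent.ZN Cfsg.Agent.ZN.ChoiceBase
open Cfsg.Agent.ZN.ChoiceSit (Syl syl_not_dvd exists_syl)
open Cfsg.Agent.MinSimple.MinParabolic (IsMinPar)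
open Cfsg.Agent.MinSimple.VModule (oddGen oddGen_le le_normalizer_oddGen)
open scoped commutatorElement

universe u

variable {G : Type u} [Group G] [Finite G] {ι : Type} {S B Q M X L : Subgroup G} {V : ι → Subgroup G} {z : ι → G}
  {𝓦 : Set (Subgroup G)} {j : ι} {Y W F : Subgroup G}

namespace UniF

theorem le_VV {i : ι} (h : i ≠ j) : V i ≤ VV V j := le_iSup₂_of_le i h le_rfl

theorem QS (c : Cx S B Q M X L V z) : Q ≤ S := c.QB.trans c.BS

/-- `S` normalises `Q` -/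
theorem SQ (c : Cx S B Q M X L V z) {s : G} (hs : s ∈ S) : s ∈ normalizer (Q : Set G) := by
  rw [mem_normalizer_iff_cj]
  refine c.wc s ?_
  rintro _ ⟨q, hq, rfl⟩
  exact S.mul_mem (S.mul_mem hs (QS c hq)) (S.inv_mem hs)

theorem V_ne (c : Cx S B Q M X L V z) (i : ι) : V i ≠ ⊥ := by
  intro h
  have := c.cV i
  rw [h, Subgroup.card_bot] at this
  omega

theorem V_inj (c : Cx S B Q M X L V z) {i k : ι} (h : V i = V k) : i = k := by
  by_contra hne
  have h1 : V i ≤ VV V i := h.le.trans (le_VV (Ne.symm hne))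
  have h2 := c.ind i
  rw [inf_eq_left.2 h1] at h2
  exact V_ne c i h2

/-- `B` normalises `V_i` -/
theorem cj_V (c : Cx S B Q M X L V z) {b : G} (hb : b ∈ B) (i : ι) : cj b (V i) = V i := by
  obtain ⟨k, hk⟩ := c.perm b (SQ c (c.BS hb)) i
  rw [hk]
  by_contra hne
  have h1 : z i ∈ V k := by
    rw [← hk, mem_cj]
    have := c.Bz b hb i
    rw [show b⁻¹ * z i * b = b⁻¹ * (z i * b) by group, ← this, inv_mul_cancel_left]
    exact c.zV i
  have h2 : z i ∈ VV V i := le_VV (fun h => hne (by rw [h])) h1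
  have h3 : z i ∈ V i ⊓ VV V i := ⟨c.zV i, h2⟩
  rw [c.ind i] at h3
  exact c.z1 i (by simpa using h3)

/-- `g ∈ N(Q)`, `V_j^g = V_j`: `V_(j)^g = V_(j)` -/
theorem cj_VV (c : Cx S B Q M X L V z) {g : G} (hg : g ∈ normalizer (Q : Set G)) (hj : cj g (V j) = V j) :
    cj g (VV V j) = VV V j := by
  refine Subgroup.eq_of_le_of_card_ge ?_ (card_cj _ _).ge
  rw [cj_le_iff]
  refine iSup₂_le fun i hi => ?_
  rw [← cj_le_iff]
  obtain ⟨k, hk⟩ := c.perm g hg i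
  rw [hk]
  refine le_VV fun h => hi ?_
  subst h
  have h1 : cj g (V i) = cj g (V k) := hk.trans hj.symm
  have h2 := congrArg (cj g⁻¹) h1
  rw [cj_inv_cj, cj_inv_cj] at h2
  exact V_inj c h2

theorem B_norm_VV (c : Cx S B Q M X L V z) : B ≤ normalizer (VV V j : Set G) := fun b hb =>
  mem_normalizer_iff_cj.2 (cj_VV c (SQ c (c.BS hb)) (cj_V c hb j))

/-- `B` is a Sylow 2-subgroup of every `N ≥ B` centralising the `z_i`, `i ≠ j` -/
theorem syl_of (c : Cx S B Q M X L V z) {N : Subgroup G} (h1 : B ≤ N)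
    (h2 : ∀ y ∈ N, ∀ i, i ≠ j → y * z i = z i * y) : Syl B N :=
  ⟨h1, c.S2.to_le c.BS, fun T hT hT2 hBT => le_antisymm (c.sylB j T hT2 hBT fun i hi x hx => h2 x (hT hx) i hi) hBT⟩

/-- `C_B(V_(j))` has odd index in `N`. -/
theorem odd_index (c : Cx S B Q M X L V z) {N : Subgroup G} (hN : N ≤ centralizer (VV V j : Set G))
    (hB : B ⊓ centralizer (VV V j : Set G) ≤ N) : ¬ 2 ∣ (B ⊓ centralizer (VV V j : Set G)).relIndex N := by
  set C := centralizer (VV V j : Set G) with hC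
  have hBC : B ≤ normalizer (C : Set G) := by
    intro b hb
    rw [mem_normalizer_iff_cj, hC, cj_centralizer, cj_eq_of_mem_normalizer (B_norm_VV c hb)]
  have hz : ∀ y ∈ B ⊔ C, ∀ i, i ≠ j → y * z i = z i * y := by
    intro y hy i hi
    have h1 : B ⊔ C ≤ centralizer ((zpowers (z i) : Subgroup G) : Set G) := by
      refine sup_le (fun b hb => ?_) (fun x hx => ?_)
      · rw [mem_centralizer_iff]
        rintro _ ⟨n, rfl⟩
        exact ((show Commute b (z i) from c.Bz b hb i).zpow_right n).eq.symm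
      · rw [mem_centralizer_iff]
        rintro _ ⟨n, rfl⟩
        exact mem_centralizer_iff.1 hx _ (le_VV hi (zpow_mem (c.zV i) n))
    exact (mem_centralizer_iff.1 (h1 hy) (z i) (mem_zpowers _)).symm
  have hs := syl_not_dvd (syl_of c (le_sup_left : B ≤ B ⊔ C) hz)
  -- `|C : B ∩ C| = |BC : B|`
  have h1 := ZN.Block.card_sup_mul_card_inf hBC
  have h2 := ZN.Block.card_mul_relIndex' (le_sup_left : B ≤ B ⊔ C)
  have h3 := ZN.Block.card_mul_relIndex' (inf_le_right : B ⊓ C ≤ C)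
  have h4 : B.relIndex (B ⊔ C) = (B ⊓ C).relIndex C := by
    rw [← h2, ← h3] at h1
    have h5 : (Nat.card B * Nat.card ↥(B ⊓ C)) * B.relIndex (B ⊔ C) =
        (Nat.card B * Nat.card ↥(B ⊓ C)) * (B ⊓ C).relIndex C := by
      calc (Nat.card B * Nat.card ↥(B ⊓ C)) * B.relIndex (B ⊔ C) =
          Nat.card B * B.relIndex (B ⊔ C) * Nat.card ↥(B ⊓ C) := by ring
        _ = Nat.card B * (Nat.card ↥(B ⊓ C) * (B ⊓ C).relIndex C) := h1
        _ = _ := by ring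
    exact Nat.eq_of_mul_eq_mul_left (Nat.mul_pos Nat.card_pos Nat.card_pos) h5
  rw [h4, ← relIndex_mul_relIndex (B ⊓ C) N C hB hN] at hs
  exact fun h => hs (h.mul_right _)

end UniF

open UniF

/-- `B` is a Sylow 2-subgroup of `Y` -/
theorem TY.syl_B (c : Cx S B Q M X L V z) (h : TY S B Q M X V z 𝓦 j Y W F) : Syl B Y :=
  syl_of c h.min.le h.Yz

/-- `W = [W, O²(Y)]` -/
theorem TY.le_comm (c : Cx S B Q M X L V z) (h : TY S B Q M X V z 𝓦 j Y W F) (hF : F = ⊥) :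
    W ≤ ⁅W, oddGen Y⁆ := by
  have hY : Y ≤ normalizer ((⁅W, oddGen Y⁆ : Subgroup G) : Set G) := by
    intro y hy
    rw [mem_normalizer_iff_cj]
    show (⁅W, oddGen Y⁆ : Subgroup G).map (MulAut.conj y).toMonoidHom = _
    rw [map_commutator]
    congr 1
    · exact cj_eq_of_mem_normalizer (h.YW hy)
    · exact cj_eq_of_mem_normalizer (le_normalizer_oddGen Y hy)
  refine h.gen _ ?_ hY
  have hDW : ⁅W, oddGen Y⁆ ≤ W := by
    rw [commutator_comm]
    exact commutator_le.2 fun k hk w hw => by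
      rw [commutatorElement_def]
      exact W.mul_mem ((mem_normalizer_iff.1 (h.YW (oddGen_le Y hk)) w).1 hw) (W.inv_mem hw)
  have hW2 : IsPGroup 2 W := c.S2.to_le (h.WX.trans c.XS)
  have zn : ∀ {y : G}, y * z j = z j * y → y ∈ normalizer ((zpowers (z j) : Subgroup G) : Set G) := by
    intro y e
    refine centralizer_le_normalizer _ (mem_centralizer_iff.2 ?_)
    rintro _ ⟨n, rfl⟩
    exact ((show Commute y (z j) from e).zpow_right n).eq.symm
  -- `D ≠ 1`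
  have hne : ⁅W, oddGen Y⁆ ≠ ⊥ := by
    intro h0
    have h1 : oddGen Y ≤ centralizer (W : Set G) := by
      rw [commutator_comm, commutator_eq_bot_iff_le_centralizer] at h0
      exact h0
    have h2 : Y ≤ normalizer ((zpowers (z j) : Subgroup G) : Set G) := by
      rw [← NO3b.EZero.oddGen_sup_syl (h.syl_B c)]
      refine sup_le (fun y hy => ?_) (fun y hy => ?_)
      · exact zn ((mem_centralizer_iff.1 (h1 hy) (z j) (h.VW (c.zV j))).symm)
      · exact zn (c.Bz y hy j)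
    have h3 := h.gen _ (mem_zpowers (z j)) h2
    have h4 : Nat.card W ≤ Nat.card (zpowers (z j)) := Nat.card_mono (Set.toFinite _) h3
    have h5 : Nat.card (zpowers (z j)) ≤ 2 := by
      rw [Nat.card_zpowers]
      refine Nat.le_of_dvd (by norm_num) (orderOf_dvd_of_pow_eq_one ?_)
      rw [pow_two]
      exact c.Xs _ (h.WX (h.VW (c.zV j)))
    have h6 := h.cW
    have h7 : 0 < Nat.card F := Nat.card_pos
    omega
  -- a `B`-fixed element of `D`
  have h8 := PLocal.OffenderStep.inf_centralizer_ne_bot (⁅W, oddGen Y⁆) B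
    (hW2.to_le hDW) (c.S2.to_le c.BS) (h.min.le.trans hY) hne
  obtain ⟨⟨d, hd⟩, hd1⟩ := Subgroup.ne_bot_iff_exists_ne_one.1 h8
  have hd1' : d ≠ 1 := fun e => hd1 (Subtype.ext e)
  have hdB : ∀ b ∈ B, b * d = d * b := fun b hb => mem_centralizer_iff.1 hd.2 b hb
  have hdW : d ∈ W := hDW hd.1
  have hdV : d ∈ V j := by
    have := h.cWQ d hdW fun q hq => hdB q (c.QB hq)
    rwa [hF, sup_bot_eq] at this
  -- `C_{V_j}(t_j) = ⟨d⟩`
  obtain ⟨t, ht, -, v, hv, htv⟩ := c.t j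
  set H := V j ⊓ centralizer ({t} : Set G) with hH
  have hlt : H < V j := by
    refine lt_of_le_of_ne inf_le_left fun e => htv ?_
    have : v ∈ H := e.symm ▸ hv
    exact mem_centralizer_singleton_iff.1 this.2 |>.symm ▸ rfl
  have hdvd : Nat.card H ∣ 4 := by
    rw [← c.cV j]; exact Subgroup.card_dvd_of_le inf_le_left
  have hlt' : Nat.card H < 4 := by
    rw [← c.cV j]
    exact lt_of_le_of_ne (Nat.card_mono (Set.toFinite _) inf_le_left) fun e =>
      hlt.ne (Subgroup.eq_of_le_of_card_ge inf_le_left e.ge)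
  have hle2 : Nat.card H ≤ 2 := by
    have h9 : Nat.card H ∣ 4 := hdvd
    have h10 : Nat.card H ≠ 3 := by intro e; rw [e] at h9; omega
    omega
  have hdH : zpowers d ≤ H := by
    rw [zpowers_le]
    exact ⟨hdV, mem_centralizer_singleton_iff.2 (hdB t ht).symm⟩
  have hd2 : Nat.card (zpowers d) = 2 := by
    rw [Nat.card_zpowers]
    refine orderOf_eq_prime ?_ hd1'
    rw [pow_two]; exact c.Xs _ (h.WX hdW)
  have hE : zpowers d = H := Subgroup.eq_of_le_of_card_ge hdH (hd2.symm ▸ hle2)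
  have hzH : z j ∈ H := ⟨c.zV j, mem_centralizer_singleton_iff.2 (c.Bz t ht j).symm⟩
  rw [← hE] at hzH
  exact (zpowers_le.2 hd.1 : zpowers d ≤ _) hzH

/-- **(2+)** -/
theorem TY.cj_W_eq (c : Cx S B Q M X L V z) (h : TY S B Q M X V z 𝓦 j Y W F) (hF : F = ⊥)
    (hc : oddGen Y ≤ centralizer (VV V j : Set G))
    (uni : ∀ g ∈ M, g ∈ normalizer (Q : Set G) → cj g (V j) = V j → cj g W ≤ W ⊔ L) {g : G} (hg : g ∈ M)
    (hgQ : g ∈ normalizer (Q : Set G)) (hgV : cj g (V j) = V j) : cj g W = W := by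
  have hLX : L ≤ X := c.LX
  have hVL : ∀ i, V i ≤ L := fun i => by rw [c.eL]; exact le_iSup V i
  have hVVL : VV V j ≤ L := iSup₂_le fun i _ => hVL i
  have hLe : L ≤ W ⊔ VV V j := by
    rw [c.eL]
    refine iSup_le fun i => ?_
    by_cases hi : i = j
    · rw [hi]; exact h.VW.trans le_sup_left
    · exact (le_VV hi).trans le_sup_right
  have hWX : W ⊔ VV V j ≤ X := sup_le h.WX (hVVL.trans hLX)
  -- `W ∩ V_(j) = 1`
  have hinf : W ⊓ VV V j = ⊥ := by
    rw [eq_bot_iff]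
    rintro w ⟨hw, hw'⟩
    have h1 := h.cWQ w hw fun q hq => c.cQL q hq w (hVVL hw')
    rw [hF, sup_bot_eq] at h1
    have h2 : w ∈ V j ⊓ VV V j := ⟨h1, hw'⟩
    rw [c.ind j] at h2
    exact h2
  have hinf2 : cj g W ⊓ VV V j = ⊥ := by
    conv_lhs => rw [← cj_VV c hgQ hgV]
    rw [← cj_inf, hinf]
    exact Subgroup.map_bot _
  have hKW : oddGen Y ≤ normalizer (W : Set G) := (oddGen_le Y).trans h.YW
  have hBs : B ⊓ centralizer (VV V j : Set G) ≤ centralizer (VV V j : Set G) := inf_le_right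
  have hK2 : cj g (oddGen Y) ≤ centralizer (VV V j : Set G) := by
    have := cj_mono g hc
    rwa [cj_centralizer, cj_VV c hgQ hgV] at this
  refine UniEq.eq_of_le (Lam := VV V j) (K := oddGen Y) (K₂ := cj g (oddGen Y))
    (Bs := B ⊓ centralizer (VV V j : Set G)) (fun x hx y hy => c.Xc x (hWX hx) y (hWX hy))
    (fun x hx => by rw [pow_two]; exact c.Xs x (hWX hx)) hinf ?_ (card_cj _ _) hinf2 hc hK2 hBs hKW ?_
    (inf_le_left.trans (h.min.le.trans h.YW)) (h.le_comm c hF) ?_ ?_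
  · exact (uni g hg hgQ hgV).trans (sup_le le_sup_left hLe)
  · have := cj_mono g hKW
    rwa [cj_normalizer] at this
  · have := cj_mono g (h.le_comm c hF)
    refine this.trans ?_
    show (⁅W, oddGen Y⁆ : Subgroup G).map (MulAut.conj g).toMonoidHom ≤ _
    rw [map_commutator]
  · exact odd_index c (sup_le (sup_le hc hK2) hBs) le_sup_right

end Cfsg.Agent.Omega.NO3S.WY.Tor

end

-- merged: Cfsg.Agent.Mrg.Omega.NO3S.WY.Tor.Act
section

section


/-!
# THEOREM TOR: the five lines of one natural `SL₂(4)`-block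

`N : NatK F T H V D 1`, `e = N.e · 0 : V → F²` with kernel `D`.

* `On o x` : `x ∈ F²` lies on the point `o : Option F` of the projective line; `LL N o` the line in `V`;
* `exists_cj` : `H` permutes the lines;
* `ker_triv` : `y ∈ H` which fixes all lines acts trivially on `V / D`;
* **`act`** (`|F| = 4`): for an `H`-invariant `W ≤ V` with `W D = V` the five lines of `W / (W ∩ D)`, the homomorphism
  `π : H → Sym 5`, `A₅ ≤ π(H)`, the kernel is trivial on `W / (W ∩ D)`.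
-/

set_option autoImplicit false
set_option linter.unusedSectionVars false

namespace Cfsg.Agent.Omega.NO3S.WY.Tor.Act

open Subgroup Cfsg Cfsg.Agent.ZN Cfsg.Agent.ZN.ChoiceBase
open Cfsg.Agent.Omega.FFThm (NatK NatKM ActsSL)
open Cfsg.Agent.Omega.NatPair (ap ap_zero' ap_one' ap_mul ap_one ap_add ap_smul ap_inv_ap ap_ap_inv ext2)
open Cfsg.Agent.Lib.SL2Mat

universe u

section proj

variable {F : Type} [Field F]

/-- `x` lies on the point `o` of the projective line -/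
def On (o : Option F) (x : Fin 2 → F) : Prop := match o with
  | none => x 1 = 0
  | some c => x 0 = c * x 1

theorem on_none {x : Fin 2 → F} : On none x ↔ x 1 = 0 := Iff.rfl

theorem on_some {c : F} {x : Fin 2 → F} : On (some c) x ↔ x 0 = c * x 1 := Iff.rfl

theorem on_zero (o : Option F) : On o 0 := by
  cases o with
  | none => rfl
  | some c => rw [on_some]; simp

theorem on_add {o : Option F} {x y : Fin 2 → F} (hx : On o x) (hy : On o y) : On o (x + y) := by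
  cases o with
  | none => rw [on_none] at *; rw [Pi.add_apply, hx, hy, add_zero]
  | some c => rw [on_some] at *; rw [Pi.add_apply, Pi.add_apply, hx, hy, mul_add]

theorem on_neg {o : Option F} {x : Fin 2 → F} (hx : On o x) : On o (-x) := by
  cases o with
  | none => rw [on_none] at *; rw [Pi.neg_apply, hx, neg_zero]
  | some c => rw [on_some] at *; rw [Pi.neg_apply, Pi.neg_apply, hx, mul_neg]

theorem on_unique {o o' : Option F} {x : Fin 2 → F} (h : o ≠ o') (hx : On o x) (hx' : On o' x) : x = 0 := by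
  cases o with
  | none =>
    cases o' with
    | none => exact absurd rfl h
    | some c =>
      rw [on_none] at hx
      rw [on_some, hx, mul_zero] at hx'
      exact ext2 hx' hx
  | some c =>
    cases o' with
    | none =>
      rw [on_none] at hx'
      rw [on_some, hx', mul_zero] at hx
      exact ext2 hx hx'
    | some c' =>
      rw [on_some] at hx hx'
      have h1 : c ≠ c' := fun e => h (by rw [e])
      have h2 : (c - c') * x 1 = 0 := by rw [sub_mul, ← hx, ← hx', sub_self]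
      have h3 : x 1 = 0 := (mul_eq_zero.1 h2).resolve_left (sub_ne_zero.2 h1)
      rw [h3, mul_zero] at hx
      exact ext2 hx h3

/-- a vector on the point `o` -/
def vec (o : Option F) : Fin 2 → F := match o with
  | none => ![1, 0]
  | some c => ![c, 1]

theorem on_vec (o : Option F) : On o (vec o) := by
  cases o with
  | none => rfl
  | some c => show c = c * 1; rw [mul_one]

theorem vec_ne (o : Option F) : vec o ≠ 0 := by
  cases o with
  | none => exact fun h => one_ne_zero (congrFun h 0)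
  | some c => exact fun h => one_ne_zero (congrFun h 1)

theorem on_ap (A : Matrix.SpecialLinearGroup (Fin 2) F) (o : Option F) : ∃ o', ∀ x, On o x → On o' (ap A x) := by
  cases o with
  | none =>
    by_cases hc : ent A 1 0 = 0
    · refine ⟨none, fun x hx => ?_⟩
      rw [on_none] at *
      rw [ap_one', hc, hx]; ring
    · refine ⟨some (ent A 0 0 / ent A 1 0), fun x hx => ?_⟩
      rw [on_none] at hx
      rw [on_some, ap_zero', ap_one', hx]
      field_simp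
      ring
  | some t =>
    by_cases hc : ent A 1 0 * t + ent A 1 1 = 0
    · refine ⟨none, fun x hx => ?_⟩
      rw [on_some] at hx
      rw [on_none, ap_one', hx]
      linear_combination x 1 * hc
    · refine ⟨some ((ent A 0 0 * t + ent A 0 1) / (ent A 1 0 * t + ent A 1 1)), fun x hx => ?_⟩
      rw [on_some] at hx
      rw [on_some, ap_zero', ap_one', hx, div_mul_eq_mul_div, eq_div_iff hc]
      ring

end proj

section lines

variable {G : Type u} [Group G] {F : Type} [Field F] {T H V D : Subgroup G}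

theorem e_one (N : NatK F T H V D 1) : N.e 1 = 0 := by
  have h := N.mul 1 (one_mem _) 1 (one_mem _)
  rw [mul_one] at h
  exact left_eq_add.1 h

theorem e_inv (N : NatK F T H V D 1) {v : G} (hv : v ∈ V) : N.e v⁻¹ = - N.e v := by
  have h := N.mul v hv v⁻¹ (inv_mem hv)
  rw [mul_inv_cancel, e_one N] at h
  exact eq_neg_of_add_eq_zero_right h.symm

theorem e_mul (N : NatK F T H V D 1) {v w : G} (hv : v ∈ V) (hw : w ∈ V) : N.e (v * w) 0 = N.e v 0 + N.e w 0 := by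
  rw [N.mul v hv w hw]; rfl

theorem mem_D (N : NatK F T H V D 1) {v : G} (hv : v ∈ V) : v ∈ D ↔ N.e v 0 = 0 := by
  rw [← N.ker v hv]
  constructor
  · intro h; rw [h]; rfl
  · intro h
    funext i
    rw [Subsingleton.elim i 0, h]; rfl

theorem exists_e (N : NatK F T H V D 1) (x : Fin 2 → F) : ∃ v ∈ V, N.e v 0 = x := by
  obtain ⟨v, hv, h⟩ := N.surj fun _ => x
  exact ⟨v, hv, by rw [h]⟩

/-- the line `o` in `V` -/
def LL (N : NatK F T H V D 1) (o : Option F) : Subgroup G where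
  carrier := {v | v ∈ V ∧ On o (N.e v 0)}
  one_mem' := ⟨one_mem _, by rw [e_one N]; exact on_zero o⟩
  mul_mem' := by
    rintro a b ⟨ha, ha'⟩ ⟨hb, hb'⟩
    exact ⟨mul_mem ha hb, by rw [e_mul N ha hb]; exact on_add ha' hb'⟩
  inv_mem' := by
    rintro a ⟨ha, ha'⟩
    exact ⟨inv_mem ha, by rw [e_inv N ha]; exact on_neg ha'⟩

theorem mem_LL (N : NatK F T H V D 1) {o : Option F} {v : G} : v ∈ LL N o ↔ v ∈ V ∧ On o (N.e v 0) := Iff.rfl

theorem LL_le_of (N : NatK F T H V D 1) {o o' : Option F} (h : LL N o ≤ LL N o') : o = o' := by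
  by_contra hne
  obtain ⟨v, hv, he⟩ := exists_e N (vec o)
  have h1 := (h ((mem_LL N).2 ⟨hv, by rw [he]; exact on_vec o⟩)).2
  rw [he] at h1
  exact vec_ne o (on_unique hne (on_vec o) h1)

theorem LL_inj (N : NatK F T H V D 1) {o o' : Option F} (h : LL N o = LL N o') : o = o' := LL_le_of N h.le

/-- `g` acts as `A` on `V / D` -/
def Acts (N : NatK F T H V D 1) (g : G) (A : Matrix.SpecialLinearGroup (Fin 2) F) : Prop :=
  ∀ v ∈ V, N.e (g * v * g⁻¹) 0 = ap A (N.e v 0)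

theorem Acts.of (N : NatK F T H V D 1) {g : G} {A : Fin 1 → Matrix.SpecialLinearGroup (Fin 2) F}
    (h : ActsSL N.e V D g A) : Acts N g (A 0) := fun v hv => h.1 v hv 0

theorem conj_V {g v : G} (hg : g ∈ normalizer (V : Set G)) (hv : v ∈ V) : g * v * g⁻¹ ∈ V :=
  (mem_normalizer_iff.1 hg v).1 hv

theorem conj_V' {g v : G} (hg : g ∈ normalizer (V : Set G)) (hv : v ∈ V) : g⁻¹ * v * g ∈ V := by
  have := conj_V (inv_mem hg) hv
  rwa [inv_inv] at this

theorem Acts.mul {N : NatK F T H V D 1} {g h : G} {A B : Matrix.SpecialLinearGroup (Fin 2) F}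
    (hg : Acts N g A) (hh : Acts N h B) (hn : h ∈ normalizer (V : Set G)) : Acts N (g * h) (A * B) := by
  intro v hv
  have e : g * h * v * (g * h)⁻¹ = g * (h * v * h⁻¹) * g⁻¹ := by group
  rw [e, hg _ (conj_V hn hv), hh v hv, ap_mul]

theorem Acts.inv {N : NatK F T H V D 1} {g : G} {A : Matrix.SpecialLinearGroup (Fin 2) F}
    (hg : Acts N g A) (hn : g ∈ normalizer (V : Set G)) : Acts N g⁻¹ A⁻¹ := by
  intro v hv
  have h1 := hg _ (conj_V' hn hv)
  have e : g * (g⁻¹ * v * g) * g⁻¹ = v := by group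
  rw [e] at h1
  rw [h1, ap_inv_ap, inv_inv]

/-- conjugation by an element of `H`, if both act in `SL₂(F)` -/
theorem Acts.conj {N : NatK F T H V D 1} {g h : G} (hg : g ∈ H) (hh : h ∈ H)
    {A : Matrix.SpecialLinearGroup (Fin 2) F} (hA : Acts N h A) : ∃ B, Acts N (g * h * g⁻¹) B := by
  obtain ⟨B, hB⟩ := N.norm g hg h hh (fun _ => A) fun v hv i => by
    rw [Subsingleton.elim i 0]
    exact hA v hv
  exact ⟨B 0, fun v hv => hB v hv 0⟩

theorem Acts.cj {N : NatK F T H V D 1} {g : G} {A : Matrix.SpecialLinearGroup (Fin 2) F} (hA : Acts N g A)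
    (hn : g ∈ normalizer (V : Set G)) (o : Option F) : ∃ o', ChoiceBase.cj g (LL N o) = LL N o' := by
  have key : ∀ {g : G} {A : Matrix.SpecialLinearGroup (Fin 2) F}, Acts N g A → g ∈ normalizer (V : Set G) →
      ∀ o, ∃ o', ChoiceBase.cj g (LL N o) ≤ LL N o' := by
    intro g A hA hn o
    obtain ⟨o', ho'⟩ := on_ap A o
    refine ⟨o', ?_⟩
    rintro _ ⟨v, ⟨hv, hvo⟩, rfl⟩
    refine ⟨conj_V hn hv, ?_⟩
    change On o' (N.e (g * v * g⁻¹) 0)
    rw [hA v hv]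
    exact ho' _ hvo
  obtain ⟨o', h1⟩ := key hA hn o
  obtain ⟨o'', h2⟩ := key (hA.inv hn) (inv_mem hn) o'
  have h3 : LL N o ≤ ChoiceBase.cj g⁻¹ (LL N o') := by
    have := cj_mono g⁻¹ h1
    rwa [cj_inv_cj] at this
  have h4 := LL_le_of N (h3.trans h2)
  rw [← h4] at h2
  have h5 := cj_mono g h2
  rw [cj_cj_inv] at h5
  exact ⟨o', le_antisymm h1 h5⟩

variable (N : NatK F T H V D 1)

theorem T_none (HV : H ≤ normalizer (V : Set G)) (TH : T ≤ H) {t : G} (ht : t ∈ T) :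
    cj t (LL N none) = LL N none := by
  obtain ⟨σ, hσ⟩ := N.line t ht
  have hn := HV (TH ht)
  have h0 : ∀ v ∈ V, N.e (t * v * t⁻¹) 0 1 = 0 ↔ N.e v 0 1 = 0 := fun v hv => by
    have := hσ v hv 0
    rwa [Subsingleton.elim (σ 0) 0] at this
  ext v
  rw [mem_cj, mem_LL, mem_LL, on_none, on_none]
  constructor
  · rintro ⟨h1, h2⟩
    have h3 : v ∈ V := by
      have := conj_V hn h1
      have e : t * (t⁻¹ * v * t) * t⁻¹ = v := by group
      rwa [e] at this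
    have h4 := h0 _ h1
    have e : t * (t⁻¹ * v * t) * t⁻¹ = v := by group
    rw [e] at h4
    exact ⟨h3, h4.2 h2⟩
  · rintro ⟨h1, h2⟩
    have h3 := conj_V' hn h1
    have h4 := h0 _ h3
    have e : t * (t⁻¹ * v * t) * t⁻¹ = v := by group
    rw [e] at h4
    exact ⟨h3, h4.1 h2⟩

/-- an element of `H` acting in `SL₂(F)` which moves the point `none` to `o` -/
theorem exists_mv (HV : H ≤ normalizer (V : Set G)) (o : Option F) :
    ∃ g ∈ H, (∃ A, Acts N g A) ∧ cj g (LL N none) = LL N o := by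
  cases o with
  | none => exact ⟨1, one_mem _, ⟨1, fun v _ => by rw [one_mul, inv_one, mul_one, ap_one]⟩, cj_one _⟩
  | some c =>
    obtain ⟨g, hg, hA⟩ := N.lift fun _ => mk c (-1) 1 0 (by ring)
    have hA' := Acts.of N hA
    obtain ⟨o', ho'⟩ := hA'.cj (HV hg) none
    refine ⟨g, hg, ⟨_, hA'⟩, ?_⟩
    rw [ho']
    congr 1
    obtain ⟨v, hv, he⟩ := exists_e N (vec none)
    have h1 : v ∈ LL N none := (mem_LL N).2 ⟨hv, by rw [he]; exact on_vec none⟩
    have h2 : g * v * g⁻¹ ∈ LL N o' := by rw [← ho']; exact ⟨v, h1, rfl⟩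
    have h3 : N.e (g * v * g⁻¹) 0 = vec (some c) := by
      rw [hA' v hv, he]
      apply ext2
      · rw [ap_zero']; simp [vec]
      · rw [ap_one']; simp [vec]
    have h4 := h2.2
    rw [h3] at h4
    by_contra hne
    exact vec_ne _ (on_unique hne h4 (on_vec (some c)))

/-- **`H` permutes the lines** -/
theorem exists_cj [Finite G] (HV : H ≤ normalizer (V : Set G)) (TH : T ≤ H) {y : G} (hy : y ∈ H) (o : Option F) :
    ∃ o', cj y (LL N o) = LL N o' := by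
  have hmul : ∀ a b : G, (∀ o, ∃ o', cj a (LL N o) = LL N o') → (∀ o, ∃ o', cj b (LL N o) = LL N o') →
      ∀ o, ∃ o', cj (a * b) (LL N o) = LL N o' := by
    intro a b ha hb o
    obtain ⟨o', h1⟩ := hb o
    obtain ⟨o'', h2⟩ := ha o'
    exact ⟨o'', by rw [← cj_cj, h1, h2]⟩
  have hone : ∀ o, ∃ o', cj (1 : G) (LL N o) = LL N o' := fun o => ⟨o, cj_one _⟩
  let K : Subgroup G :=
    { carrier := {y | y ∈ H ∧ ∀ o, ∃ o', cj y (LL N o) = LL N o'}
      one_mem' := ⟨one_mem _, hone⟩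
      mul_mem' := fun {a b} ha hb => ⟨mul_mem ha.1 hb.1, hmul a b ha.2 hb.2⟩
      inv_mem' := by
        rintro a ⟨ha, ha'⟩
        refine ⟨inv_mem ha, ?_⟩
        have hpow : ∀ n : ℕ, ∀ o, ∃ o', cj (a ^ n) (LL N o) = LL N o' := by
          intro n
          induction n with
          | zero => rw [pow_zero]; exact hone
          | succ n ih => rw [pow_succ]; exact hmul _ _ ih ha'
        have e : a⁻¹ = a ^ (orderOf a - 1) := by
          have h1 : a ^ (orderOf a - 1) * a = 1 := by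
            rw [← pow_succ, Nat.sub_add_cancel (orderOf_pos a), pow_orderOf_eq_one]
          exact inv_eq_of_mul_eq_one_left h1
        rw [e]
        exact hpow _ }
  have hTK : T ≤ K := by
    intro t ht
    refine ⟨TH ht, fun o => ?_⟩
    obtain ⟨g, hg, ⟨A, hA⟩, hgo⟩ := exists_mv N HV o
    obtain ⟨B, hB⟩ := hA.conj (TH ht) hg
    obtain ⟨o', ho'⟩ := hB.cj (HV (mul_mem (mul_mem (TH ht) hg) (inv_mem (TH ht)))) none
    refine ⟨o', ?_⟩
    have e : t * g = (t * g * t⁻¹) * t := by group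
    calc cj t (LL N o) = cj (t * g) (LL N none) := by rw [← hgo, cj_cj]
      _ = cj (t * g * t⁻¹) (cj t (LL N none)) := by rw [cj_cj, ← e]
      _ = LL N o' := by rw [T_none N HV TH ht, ho']
  exact ((N.gen K hTK fun g hg A hA => ⟨hg, (Acts.of N hA).cj (HV hg)⟩) hy).2 o

/-- every element of `H` acts as an element of `T` times an element of `SL₂(F)` -/
theorem exists_TA (HV : H ≤ normalizer (V : Set G)) (TH : T ≤ H) {y : G} (hy : y ∈ H) :
    ∃ t ∈ T, ∃ A, Acts N (t⁻¹ * y) A := by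
  let K : Subgroup G :=
    { carrier := {y | y ∈ H ∧ ∃ t ∈ T, ∃ A, Acts N (t⁻¹ * y) A}
      one_mem' := ⟨one_mem _, 1, one_mem _, 1, fun v _ => by simp [ap_one]⟩
      mul_mem' := by
        rintro a b ⟨ha, s, hs, A, hA⟩ ⟨hb, t, ht, B, hB⟩
        refine ⟨mul_mem ha hb, s * t, mul_mem hs ht, ?_⟩
        obtain ⟨C, hC⟩ := hA.conj (inv_mem (TH ht)) (mul_mem (inv_mem (TH hs)) ha)
        refine ⟨C * B, ?_⟩
        have e : (s * t)⁻¹ * (a * b) = (t⁻¹ * (s⁻¹ * a) * t⁻¹⁻¹) * (t⁻¹ * b) := by group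
        rw [e]
        exact hC.mul hB (HV (mul_mem (inv_mem (TH ht)) hb))
      inv_mem' := by
        rintro a ⟨ha, t, ht, A, hA⟩
        refine ⟨inv_mem ha, t⁻¹, inv_mem ht, ?_⟩
        have hn := mul_mem (inv_mem (TH ht)) ha
        obtain ⟨C, hC⟩ := (hA.inv (HV hn)).conj (TH ht) (inv_mem hn)
        refine ⟨C, ?_⟩
        have e : t⁻¹⁻¹ * a⁻¹ = t * (t⁻¹ * a)⁻¹ * t⁻¹ := by group
        rw [e]
        exact hC }
  have h1 : T ≤ K := fun t ht => ⟨TH ht, t, ht, 1, fun v _ => by simp [ap_one]⟩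
  exact ((N.gen K h1 fun g hg A hA => ⟨hg, 1, one_mem _, A 0, by
    rw [inv_one, one_mul]; exact Acts.of N hA⟩) hy).2

/-- `e (y v y⁻¹)` depends on `e v` only -/
theorem e_congr (HV : H ≤ normalizer (V : Set G)) {y u v : G} (hy : y ∈ H) (hu : u ∈ V) (hv : v ∈ V)
    (h : N.e u 0 = N.e v 0) : N.e (y * u * y⁻¹) 0 = N.e (y * v * y⁻¹) 0 := by
  obtain ⟨σ, hσ⟩ := N.perm y hy
  have h1 : u * v⁻¹ ∈ V := mul_mem hu (inv_mem hv)
  have h2 : N.e (u * v⁻¹) 0 = 0 := by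
    rw [e_mul N hu (inv_mem hv), e_inv N hv, Pi.neg_apply, h, add_neg_cancel]
  have h3 := (hσ _ h1 0).2 h2
  rw [Subsingleton.elim (σ 0) 0] at h3
  have e : y * (u * v⁻¹) * y⁻¹ = (y * u * y⁻¹) * (y * v * y⁻¹)⁻¹ := by group
  have hu' := conj_V (HV hy) hu
  have hv' := conj_V (HV hy) hv
  rw [e, e_mul N hu' (inv_mem hv'), e_inv N hv', Pi.neg_apply] at h3
  exact add_neg_eq_zero.1 h3

/-- an element which fixes all lines acts as a scalar -/
theorem exists_scalar (HV : H ≤ normalizer (V : Set G)) {y : G} (hy : y ∈ H)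
    (hf : ∀ o, cj y (LL N o) = LL N o) : ∃ s : F, ∀ v ∈ V, N.e (y * v * y⁻¹) 0 = s • N.e v 0 := by
  have hon : ∀ o, ∀ v ∈ V, On o (N.e v 0) → On o (N.e (y * v * y⁻¹) 0) := by
    intro o v hv ho
    have h1 : y * v * y⁻¹ ∈ LL N o := by
      rw [← hf o]; exact ⟨v, (mem_LL N).2 ⟨hv, ho⟩, rfl⟩
    exact h1.2
  choose a haV ha using fun c : F => exists_e N ![c, 0]
  choose b hbV hb using fun c : F => exists_e N ![0, c]
  have ha1 : ∀ c, N.e (y * a c * y⁻¹) 0 1 = 0 := fun c => on_none.1 (hon none _ (haV c) (by rw [ha c]; rfl))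
  have hb1 : ∀ c, N.e (y * b c * y⁻¹) 0 0 = 0 := fun c => by
    have := on_some.1 (hon (some 0) _ (hbV c) (by rw [hb c, on_some]; simp))
    rwa [zero_mul] at this
  have hmul : ∀ c d, N.e (y * (a c * b d) * y⁻¹) 0 = N.e (y * a c * y⁻¹) 0 + N.e (y * b d * y⁻¹) 0 := by
    intro c d
    have e : y * (a c * b d) * y⁻¹ = (y * a c * y⁻¹) * (y * b d * y⁻¹) := by group
    rw [e, e_mul N (conj_V (HV hy) (haV c)) (conj_V (HV hy) (hbV d))]
  have hab : ∀ c d, N.e (a c * b d) 0 = ![c, d] := by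
    intro c d
    rw [e_mul N (haV c) (hbV d), ha, hb]
    apply ext2 <;> simp
  have h1 : ∀ c, N.e (y * a c * y⁻¹) 0 0 = N.e (y * b c * y⁻¹) 0 1 := by
    intro c
    have h2 := on_some.1 (hon (some 1) _ (mul_mem (haV c) (hbV c)) (by rw [hab, on_some]; simp))
    rw [hmul, Pi.add_apply, Pi.add_apply, hb1, ha1, add_zero, zero_add, one_mul] at h2
    exact h2
  have h2 : ∀ c, N.e (y * a c * y⁻¹) 0 0 = c * N.e (y * b 1 * y⁻¹) 0 1 := by
    intro c
    have h3 := on_some.1 (hon (some c) _ (mul_mem (haV c) (hbV 1)) (by rw [hab, on_some]; simp))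
    rw [hmul, Pi.add_apply, Pi.add_apply, hb1, ha1, add_zero, zero_add] at h3
    exact h3
  refine ⟨N.e (y * b 1 * y⁻¹) 0 1, fun v hv => ?_⟩
  have h3 : N.e v 0 = N.e (a (N.e v 0 0) * b (N.e v 0 1)) 0 := by
    rw [hab]
    apply ext2 <;> simp
  rw [e_congr N HV hy hv (mul_mem (haV _) (hbV _)) h3, hmul]
  apply ext2
  · rw [Pi.add_apply, hb1, add_zero, h2, Pi.smul_apply, smul_eq_mul, mul_comm]
  · rw [Pi.add_apply, ha1, zero_add, ← h1, h2, Pi.smul_apply, smul_eq_mul, mul_comm]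

/-- **an element which fixes all lines is trivial on `V / D`** -/
theorem ker_triv [Finite G] [CharP F 2] (HV : H ≤ normalizer (V : Set G)) (TH : T ≤ H) (T2 : IsPGroup 2 T) {y : G}
    (hy : y ∈ H) (hf : ∀ o, cj y (LL N o) = LL N o) {v : G} (hv : v ∈ V) : N.e (y * v * y⁻¹) 0 = N.e v 0 := by
  obtain ⟨s, hs⟩ := exists_scalar N HV hy hf
  obtain ⟨t, ht, A, hA⟩ := exists_TA N HV TH hy
  have htn := HV (TH ht)
  have hgn : t⁻¹ * y ∈ normalizer (V : Set G) := HV (mul_mem (inv_mem (TH ht)) hy)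
  have hA' := hA.inv hgn
  -- `t` acts as `s A⁻¹`
  have h1 : ∀ v ∈ V, N.e (t * v * t⁻¹) 0 = s • ap A⁻¹ (N.e v 0) := by
    intro v hv
    have e : t * v * t⁻¹ = y * ((t⁻¹ * y)⁻¹ * v * (t⁻¹ * y)⁻¹⁻¹) * y⁻¹ := by group
    rw [e, hs _ (conj_V (inv_mem hgn) hv), hA' v hv]
  have h2 : ∀ n : ℕ, ∀ v ∈ V, N.e (t ^ n * v * (t ^ n)⁻¹) 0 = s ^ n • ap (A⁻¹ ^ n) (N.e v 0) := by
    intro n
    induction n with
    | zero => intro v _; rw [pow_zero, pow_zero, pow_zero, ap_one, one_smul]; simp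
    | succ n ih =>
      intro v hv
      have e : t ^ (n + 1) * v * (t ^ (n + 1))⁻¹ = t * (t ^ n * v * (t ^ n)⁻¹) * t⁻¹ := by rw [pow_succ']; group
      rw [e, h1 _ (conj_V (pow_mem htn n) hv), ih v hv, ap_smul, smul_smul, ← ap_mul, ← pow_succ', ← pow_succ']
  obtain ⟨k, hk⟩ := T2 ⟨t, ht⟩
  have hk' : t ^ 2 ^ k = 1 := congrArg Subtype.val hk
  set C := A⁻¹ ^ 2 ^ k with hC
  set σ := s ^ 2 ^ k with hσ
  have h3 : ∀ x : Fin 2 → F, σ • ap C x = x := by
    intro x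
    obtain ⟨v, hv, rfl⟩ := exists_e N x
    have h4 := h2 (2 ^ k) v hv
    rw [hk'] at h4
    rw [← h4]; simp
  have e1 := congrFun (h3 ![1, 0]) 0
  have e2 := congrFun (h3 ![1, 0]) 1
  have e3 := congrFun (h3 ![0, 1]) 0
  have e4 := congrFun (h3 ![0, 1]) 1
  simp only [Pi.smul_apply, smul_eq_mul, ap_zero', ap_one', Matrix.cons_val_zero, Matrix.cons_val_one, mul_one,
    mul_zero, add_zero, zero_add] at e1 e2 e3 e4
  have hd := det_eq C
  have h5 : σ ^ 2 = 1 := by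
    have : σ ^ 2 * (ent C 0 0 * ent C 1 1 - ent C 0 1 * ent C 1 0) = 1 := by
      have e5 : σ ^ 2 * (ent C 0 0 * ent C 1 1 - ent C 0 1 * ent C 1 0) =
          (σ * ent C 0 0) * (σ * ent C 1 1) - (σ * ent C 0 1) * (σ * ent C 1 0) := by ring
      rw [e5, e1, e2, e3, e4]; ring
    rwa [hd, mul_one] at this
  have h6 : s ^ (2 ^ (k + 1) * 1) = 1 := by
    rw [mul_one, pow_succ, pow_mul]; exact h5
  have h7 : s = 1 := by
    have : Fact (Nat.Prime 2) := ⟨Nat.prime_two⟩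
    have h8 : iterateFrobenius F 2 (k + 1) s = iterateFrobenius F 2 (k + 1) 1 := by
      rw [iterateFrobenius_def, iterateFrobenius_def, one_pow]
      rwa [mul_one] at h6
    exact iterateFrobenius_inj F 2 (k + 1) h8
  rw [hs v hv, h7, one_smul]

end lines

/-! ### The permutation representation -/

section five

open Cfsg.Agent.Omega.NO3S.WY.OddKer (sb tb v0_of alt_le)

variable {G : Type u} [Group G] [Finite G] {F : Type} [Field F] {T H V D : Subgroup G} (N : NatK F T H V D 1)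

/-- the labels `0 .. 4` of the points, `0` is the point `none` -/
theorem exists_lab (h4 : Nat.card F = 4) : ∃ ε : Fin 5 ≃ Option F, ε 0 = none := by
  have : Finite F := Nat.finite_of_card_ne_zero (by rw [h4]; norm_num)
  refine ⟨(finSuccEquiv 4).trans (Equiv.optionCongr (Finite.equivFinOfCardEq h4).symm), ?_⟩
  simp

/-- the action on the labels -/
theorem exists_pi (HV : H ≤ normalizer (V : Set G)) (TH : T ≤ H) (ε : Fin 5 ≃ Option F) :
    ∃ π : ↥H →* Equiv.Perm (Fin 5), ∀ (y : ↥H) a, cj (y : G) (LL N (ε a)) = LL N (ε (π y a)) := by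
  choose f hf using fun (y : ↥H) (o : Option F) => exists_cj N HV TH y.2 o
  have f1 : ∀ o, f 1 o = o := fun o => LL_inj N (by rw [← hf]; simp [cj_one])
  have fm : ∀ x y o, f (x * y) o = f x (f y o) := fun x y o => LL_inj N (by
    rw [← hf, ← hf, ← hf, cj_cj]; rfl)
  let act : MulAction ↥H (Fin 5) :=
    { smul := fun y a => ε.symm (f y (ε a))
      one_smul := fun a => by
        change ε.symm (f 1 (ε a)) = a
        rw [f1, Equiv.symm_apply_apply]
      mul_smul := fun x y a => by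
        change ε.symm (f (x * y) (ε a)) = ε.symm (f x (ε (ε.symm (f y (ε a)))))
        rw [fm, Equiv.apply_symm_apply] }
  refine ⟨@MulAction.toPermHom ↥H (Fin 5) _ act, fun y a => ?_⟩
  have h1 : @MulAction.toPermHom ↥H (Fin 5) _ act y a = ε.symm (f y (ε a)) := rfl
  rw [h1, Equiv.apply_symm_apply]
  exact hf y (ε a)

theorem up_none {b : F} {x : Fin 2 → F} (hx : On none x) : On none (ap (up b) x) := by
  rw [on_none] at *
  rw [ap_one', hx]; simp

theorem up_some {b c : F} {x : Fin 2 → F} (hx : On (some c) x) : On (some (c + b)) (ap (up b) x) := by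
  rw [on_some] at *
  rw [ap_zero', ap_one', hx]; simp; ring

/-- if `g` acts as `A` and `A` maps the point `o` to `o'`, then `g` maps the line `o` to `o'` -/
theorem cj_eq_of (HV : H ≤ normalizer (V : Set G)) {g : G} (hg : g ∈ H) {A : Matrix.SpecialLinearGroup (Fin 2) F}
    (hA : Acts N g A) {o o' : Option F} (h : ∀ x, On o x → On o' (ap A x)) : cj g (LL N o) = LL N o' := by
  obtain ⟨o'', h1⟩ := hA.cj (HV hg) o
  have h2 : cj g (LL N o) ≤ LL N o' := by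
    rintro _ ⟨v, ⟨hv, hvo⟩, rfl⟩
    refine ⟨conj_V (HV hg) hv, ?_⟩
    change On o' (N.e (g * v * g⁻¹) 0)
    rw [hA v hv]
    exact h _ hvo
  rw [h1] at h2
  rw [h1, LL_le_of N h2]

theorem alt_range [CharP F 2] (HV : H ≤ normalizer (V : Set G)) {ε : Fin 5 ≃ Option F} (hε : ε 0 = none)
    {π : ↥H →* Equiv.Perm (Fin 5)} (hπ : ∀ (y : ↥H) a, cj (y : G) (LL N (ε a)) = LL N (ε (π y a))) :
    alternatingGroup (Fin 5) ≤ π.range := by
  have hpi : ∀ (y : ↥H) a o, cj (y : G) (LL N (ε a)) = LL N o → ε (π y a) = o := fun y a o h =>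
    LL_inj N (by rw [← hπ, h])
  let R : Subgroup ↥H :=
    { carrier := {y | ∃ b, Acts N (y : G) (up b)}
      one_mem' := ⟨0, fun v _ => by rw [up_zero, ap_one]; simp⟩
      mul_mem' := by
        rintro x y ⟨b, hb⟩ ⟨c, hc⟩
        exact ⟨b + c, by rw [← up_mul]; exact hb.mul hc (HV y.2)⟩
      inv_mem' := by
        rintro x ⟨b, hb⟩
        exact ⟨-b, by rw [← up_inv]; exact hb.inv (HV x.2)⟩ }
  have hR0 : ∀ y ∈ R, π y 0 = 0 := by
    rintro y ⟨b, hb⟩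
    apply ε.injective
    rw [hε]
    refine hpi y 0 none ?_
    rw [hε]
    exact cj_eq_of N HV y.2 hb fun x hx => up_none hx
  have hR1 : ∀ y ∈ R, π y * π y = 1 := by
    rintro y ⟨b, hb⟩
    rw [← map_mul]
    ext a
    have h1 : ε (π (y * y) a) = ε a := hpi (y * y) a (ε a) (by
      refine cj_eq_of N HV (mul_mem y.2 y.2) (hb.mul hb (HV y.2)) fun x hx => ?_
      rw [up_mul, CharTwo.add_self_eq_zero, up_zero, ap_one]
      exact hx)
    rw [ε.injective h1]; rfl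
  have htr : ∀ i : Fin 5, i ≠ 0 → ∀ j : Fin 5, j ≠ 0 → ∃ y ∈ R, π y i = j := by
    intro i hi j hj
    obtain ⟨c, hc⟩ : ∃ c, ε i = some c := by
      cases h : ε i with
      | none => exact absurd (ε.injective (h.trans hε.symm)) hi
      | some c => exact ⟨c, rfl⟩
    obtain ⟨d, hd⟩ : ∃ d, ε j = some d := by
      cases h : ε j with
      | none => exact absurd (ε.injective (h.trans hε.symm)) hj
      | some c => exact ⟨c, rfl⟩
    obtain ⟨g, hg, hA⟩ := N.lift fun _ => up (d - c)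
    have hA' := Acts.of N hA
    refine ⟨⟨g, hg⟩, ⟨_, hA'⟩, ε.injective ?_⟩
    rw [hd]
    refine hpi ⟨g, hg⟩ i _ ?_
    rw [hc]
    refine cj_eq_of N HV hg hA' fun x hx => ?_
    have := up_some (b := d - c) hx
    rwa [add_sub_cancel] at this
  obtain ⟨h1, h2, -⟩ := v0_of (X := R.map π) (by rintro _ ⟨x, hx, rfl⟩; exact hR0 x hx)
    (by rintro _ ⟨x, hx, rfl⟩; exact hR1 x hx) (fun i hi j hj => by
      obtain ⟨y, hy, hyi⟩ := htr i hi j hj
      exact ⟨π y, ⟨y, hy, rfl⟩, hyi⟩)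
  have hsb : sb ∈ π.range := by obtain ⟨x, _, hx⟩ := h1; exact ⟨x, hx⟩
  have htb : tb ∈ π.range := by obtain ⟨x, _, hx⟩ := h2; exact ⟨x, hx⟩
  obtain ⟨g, hg, -, hgo⟩ := exists_mv N HV (some 0)
  have hmv : π ⟨g, hg⟩ 0 ≠ 0 := by
    intro h
    have h3 := hpi ⟨g, hg⟩ 0 (some 0) (by rw [hε]; exact hgo)
    rw [h, hε] at h3
    exact absurd h3 (by simp)
  exact alt_le hsb htb hmv 0 (π.range.mul_mem (π.range.mul_mem ⟨_, rfl⟩ hsb) (π.range.inv_mem ⟨_, rfl⟩))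

/-- **The five lines.** -/
theorem act [CharP F 2] (h4 : Nat.card F = 4) (HV : H ≤ normalizer (V : Set G)) (TH : T ≤ H) (T2 : IsPGroup 2 T)
    {W : Subgroup G} (WV : W ≤ V) (HW : H ≤ normalizer (W : Set G)) :
    ∃ (ℓ : Fin 5 → Subgroup G) (π : ↥H →* Equiv.Perm (Fin 5)), ℓ 0 = W ⊓ LL N none ∧ (∀ a, ℓ a ≤ W) ∧
      (∀ a b, a ≠ b → ℓ a ⊓ ℓ b = W ⊓ D) ∧ (∀ (y : ↥H) a, cj (y : G) (ℓ a) = ℓ (π y a)) ∧
      alternatingGroup (Fin 5) ≤ π.range ∧ ∀ y : ↥H, π y = 1 → ∀ w ∈ W, (y : G) * w * (y : G)⁻¹ * w⁻¹ ∈ W ⊓ D := by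
  obtain ⟨ε, hε⟩ := exists_lab h4
  obtain ⟨π, hπ⟩ := exists_pi N HV TH ε
  refine ⟨fun a => W ⊓ LL N (ε a), π, by simp only [hε], fun a => inf_le_left, fun a b hab => ?_, fun y a => ?_,
    alt_range N HV hε hπ, fun y hy w hw => ?_⟩
  · ext v
    constructor
    · rintro ⟨⟨h1, h2⟩, -, h3⟩
      refine ⟨h1, (mem_D N (WV h1)).2 ?_⟩
      exact on_unique (fun e => hab (ε.injective e)) h2.2 h3.2
    · rintro ⟨h1, h2⟩
      have h3 := (mem_D N (WV h1)).1 h2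
      exact ⟨⟨h1, WV h1, by rw [h3]; exact on_zero _⟩, h1, WV h1, by rw [h3]; exact on_zero _⟩
  · rw [cj_inf, cj_eq_of_mem_normalizer (HW y.2), hπ]
  · have h1 : ∀ o, cj (y : G) (LL N o) = LL N o := by
      intro o
      obtain ⟨a, rfl⟩ := ε.surjective o
      rw [hπ, hy]; rfl
    have h2 := ker_triv N HV TH T2 y.2 h1 (WV hw)
    have h3 : (y : G) * w * (y : G)⁻¹ ∈ W := (mem_normalizer_iff.1 (HW y.2) w).1 hw
    refine mem_inf.2 ⟨mul_mem h3 (inv_mem hw), (mem_D N (mul_mem (WV h3) (inv_mem (WV hw)))).2 ?_⟩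
    rw [e_mul N (WV h3) (inv_mem (WV hw)), e_inv N (WV hw), Pi.neg_apply, h2, add_neg_cancel]

end five

end Cfsg.Agent.Omega.NO3S.WY.Tor.Act

end

section


/-!
# (TOR), (1) of #25011 and (a), (b) of #25227 (ONE `S₅`), abstract

`A` elementary abelian, `L, W, Λ ≤ A`, `Y` acts, `B` a Sylow 2-subgroup of `Y`, `Λ ≤ Z(Y)`, `Q` centralises `L`.

* `exists_norm` : if `B` centralises `x` modulo `Λ` and `Y` centralises `x` modulo `W ≥ Λ`, some `n ∈ x W` is centralised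
  by `Y` modulo `Λ` (the product of the conjugates of `x` under `Y / B`).
* `Sit.comm`, `Sit.norm_WL` : `[Y, L] ≤ W Λ`, `Y` normalises `W L`.
* `Sit.cent` : `O²(Y)` centralises every `x ∈ C_L(h)` which `B` centralises modulo `Λ` : `V*_τ = C_L(h)` for `S₅`,
  `V_(j)` for the naturals.
* `Sit.norm_CQ` : `Y` normalises `C_R(L)` for `R` normal in `Y`, `R` centralises `W` (`R = O₂(Y)` : `C_R(L) = Q ∩ O₂(Y)`).
* `Sit.F_le` : (a).
-/

set_option autoImplicit false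

namespace Cfsg.Agent.Omega.NO3S.WY.Tor.SFiveB

open Subgroup
open Cfsg.Agent.MinSimple.VModule (oddGen oddGen_def oddGen_le)

universe u

variable {G : Type u} [Group G]

/-- An element of odd order which centralises `n` modulo `Λ`, and `Λ`, `A` of exponent 2, centralises `n`. -/
theorem comm_of_odd {A Λ : Subgroup G} (As : ∀ a ∈ A, a * a = 1) {g n : G} (ho : Odd (orderOf g))
    (hz : g * n * g⁻¹ * n⁻¹ ∈ Λ) (hgΛ : ∀ z ∈ Λ, g * z = z * g) (hΛA : Λ ≤ A) : g * n = n * g := by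
  set z := g * n * g⁻¹ * n⁻¹ with hzd
  have hy : g * n * g⁻¹ = z * n := by rw [hzd]; group
  have hgz : g * z * g⁻¹ = z := by rw [hgΛ z hz, mul_inv_cancel_right]
  have key : ∀ k : ℕ, g ^ k * n * (g ^ k)⁻¹ = z ^ k * n := by
    intro k
    induction k with
    | zero => simp
    | succ k ih =>
      have hc : Commute g (z ^ k) := (show Commute g z from hgΛ z hz).pow_right k
      calc g ^ (k + 1) * n * (g ^ (k + 1))⁻¹ = g * (g ^ k * n * (g ^ k)⁻¹) * g⁻¹ := by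
            rw [pow_succ']; group
        _ = g * z ^ k * n * g⁻¹ := by rw [ih]; group
        _ = z ^ k * (g * n * g⁻¹) := by rw [hc.eq]; group
        _ = z ^ (k + 1) * n := by rw [hy, pow_succ]; group
  have h1 := key (orderOf g)
  rw [pow_orderOf_eq_one, one_mul, inv_one, mul_one] at h1
  have h3 : z ^ orderOf g = 1 := by
    have e : z ^ orderOf g * n = 1 * n := by rw [← h1, one_mul]
    exact mul_right_cancel e
  obtain ⟨k, hk⟩ := ho
  have hz2 : z * z = 1 := As z (hΛA hz)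
  rw [hk, pow_succ, pow_mul, pow_two, hz2, one_pow, one_mul] at h3
  have h4 : g * n * g⁻¹ = n := by rw [hy, h3, one_mul]
  calc g * n = g * n * g⁻¹ * g := by group
    _ = n * g := by rw [h4]

/-- **The norm.** -/
theorem exists_norm [Finite G] {A W Λ Y B : Subgroup G} (Aab : ∀ a ∈ A, ∀ b ∈ A, a * b = b * a)
    (As : ∀ a ∈ A, a * a = 1) (YA : Y ≤ normalizer (A : Set G))
    (YΛ : Y ≤ normalizer (Λ : Set G)) (hi : ¬ 2 ∣ B.relIndex Y) {x : G} (hx : x ∈ A)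
    (hB : ∀ b ∈ B, b ∈ Y → b * x * b⁻¹ * x⁻¹ ∈ Λ) (hY : ∀ y ∈ Y, y * x * y⁻¹ * x⁻¹ ∈ W) :
    ∃ n ∈ A, (∀ y ∈ Y, y * n * y⁻¹ * n⁻¹ ∈ Λ) ∧ n * x⁻¹ ∈ W := by
  classical
  let _ : CommGroup A := { (inferInstance : Group A) with
      mul_comm := fun a c => Subtype.ext (Aab a a.2 c c.2) }
  have cA : ∀ y ∈ Y, ∀ a ∈ A, y * a * y⁻¹ ∈ A := fun y hy a ha =>
    (mem_normalizer_iff.1 (YA hy) a).1 ha
  let f : Y ⧸ (B.subgroupOf Y) → A := fun q =>
    ⟨(q.out : G) * x * (q.out : G)⁻¹, cA _ q.out.2 x hx⟩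
  let _ := Fintype.ofFinite (Y ⧸ (B.subgroupOf Y))
  let Λ' : Subgroup A := Λ.subgroupOf A
  let W' : Subgroup A := W.subgroupOf A
  let n : A := ∏ q, f q
  refine ⟨n, n.2, fun y hy => ?_, ?_⟩
  · let φ : A →* A :=
      { toFun := fun a => ⟨y * a * y⁻¹, cA y hy a a.2⟩
        map_one' := Subtype.ext (by simp)
        map_mul' := fun a b => Subtype.ext (by
          change y * ((a : G) * b) * y⁻¹ = (y * a * y⁻¹) * (y * b * y⁻¹)
          group) }
    have h1 : φ n = ∏ q, φ (f q) := map_prod φ f _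
    have h2 : n = ∏ q, f ((⟨y, hy⟩ : Y) • q) :=
      (Equiv.prod_comp (MulAction.toPerm (⟨y, hy⟩ : Y)) f).symm
    have h3 : φ n * n⁻¹ ∈ Λ' := by
      have h2' : n⁻¹ = ∏ q, (f ((⟨y, hy⟩ : Y) • q))⁻¹ := by
        rw [Finset.prod_inv_distrib]; exact congrArg (fun a : A => a⁻¹) h2
      rw [h1, h2', ← Finset.prod_mul_distrib]
      refine Subgroup.prod_mem _ fun q _ => ?_
      -- `y (q.out) = (y • q).out * b`
      set r : Y := q.out with hr
      set r' : Y := ((⟨y, hy⟩ : Y) • q).out with hr'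
      have h4 : ((r' : Y) : Y ⧸ (B.subgroupOf Y)) = (((⟨y, hy⟩ : Y) * r : Y) : Y ⧸ (B.subgroupOf Y)) := by
        rw [hr', QuotientGroup.out_eq', hr]
        conv_lhs => rw [← QuotientGroup.out_eq' q]
        rfl
      have h5 : r'⁻¹ * ((⟨y, hy⟩ : Y) * r) ∈ B.subgroupOf Y := QuotientGroup.eq.1 h4
      set b : Y := r'⁻¹ * ((⟨y, hy⟩ : Y) * r) with hb
      have h6 : y * (r : G) = (r' : G) * (b : G) := by
        have : ((⟨y, hy⟩ : Y) * r) = r' * b := by rw [hb]; group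
        exact congrArg Subtype.val this
      have h7 := hB b (mem_subgroupOf.1 h5) b.2
      change (y * ((r : G) * x * (r : G)⁻¹) * y⁻¹) * ((r' : G) * x * (r' : G)⁻¹)⁻¹ ∈ Λ
      have h8 : (y * ((r : G) * x * (r : G)⁻¹) * y⁻¹) * ((r' : G) * x * (r' : G)⁻¹)⁻¹ =
          (r' : G) * ((b : G) * x * (b : G)⁻¹ * x⁻¹) * (r' : G)⁻¹ := by
        have e1 : y * ((r : G) * x * (r : G)⁻¹) * y⁻¹ = (y * (r : G)) * x * (y * (r : G))⁻¹ := by group
        rw [e1, h6]; group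
      rw [h8]
      exact (mem_normalizer_iff.1 (YΛ r'.2) _).1 h7
    exact h3
  · have h1 : n * ((⟨x, hx⟩ : A) ^ Fintype.card (Y ⧸ (B.subgroupOf Y)))⁻¹ ∈ W' := by
      have h2 : (⟨x, hx⟩ : A) ^ Fintype.card (Y ⧸ (B.subgroupOf Y)) =
          ∏ _q : Y ⧸ (B.subgroupOf Y), (⟨x, hx⟩ : A) := by
        rw [Finset.prod_const, Finset.card_univ]
      rw [h2, ← Finset.prod_inv_distrib, ← Finset.prod_mul_distrib]
      refine Subgroup.prod_mem _ fun q _ => ?_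
      exact hY _ q.out.2
    have hodd : Fintype.card (Y ⧸ (B.subgroupOf Y)) % 2 = 1 := by
      have : Fintype.card (Y ⧸ (B.subgroupOf Y)) = B.relIndex Y := by
        rw [← Nat.card_eq_fintype_card]; rfl
      omega
    have h3 : (⟨x, hx⟩ : A) ^ Fintype.card (Y ⧸ (B.subgroupOf Y)) = ⟨x, hx⟩ := by
      rw [← Nat.div_add_mod (Fintype.card (Y ⧸ (B.subgroupOf Y))) 2, hodd, pow_add, pow_mul, pow_one]
      have : (⟨x, hx⟩ : A) ^ 2 = 1 := Subtype.ext (by
        change x ^ 2 = 1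
        rw [pow_two]; exact As x hx)
      rw [this, one_pow, one_mul]
    rw [h3] at h1
    exact h1

/-- The situation of (1) of #25011, (b) of #25227. -/
structure Sit (Y Q B A L W Λ : Subgroup G) : Prop where
  Aab : ∀ a ∈ A, ∀ b ∈ A, a * b = b * a
  As : ∀ a ∈ A, a * a = 1
  YA : Y ≤ normalizer (A : Set G)
  LA : L ≤ A
  WA : W ≤ A
  YW : Y ≤ normalizer (W : Set G)
  ΛL : Λ ≤ L
  YΛ : ∀ y ∈ Y, ∀ z ∈ Λ, y * z = z * y
  syl : ¬ 2 ∣ B.relIndex Y
  /-- `N_Y(Q)` centralises `L / (W ∩ L) Λ` -/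
  NQ : ∀ g ∈ Y, g ∈ normalizer (Q : Set G) → ∀ l ∈ L, g * l * g⁻¹ * l⁻¹ ∈ W ⊔ Λ
  /-- (0), the ODD KERNEL LEMMA (594's `Ker0 Y Q A`) -/
  ker : ∀ N₁ : Subgroup G, N₁ ≤ A → Y ≤ normalizer (N₁ : Set G) → ∀ v ∈ A,
    (∀ g ∈ Y, g ∈ normalizer (Q : Set G) → g * v * g⁻¹ * v⁻¹ ∈ N₁) → ∀ y ∈ Y, y * v * y⁻¹ * v⁻¹ ∈ N₁

namespace Sit

variable {Y Q B A L W Λ : Subgroup G} (h : Sit Y Q B A L W Λ)
include h

theorem YΛn : Y ≤ normalizer (Λ : Set G) := by
  intro y hy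
  have h1 : ∀ z ∈ Λ, y * z * y⁻¹ = z := fun z hz => by rw [h.YΛ y hy z hz, mul_inv_cancel_right]
  have h2 : ∀ z ∈ Λ, y⁻¹ * z * y = z := fun z hz => by
    have := h.YΛ y hy z hz
    rw [mul_assoc, ← this, inv_mul_cancel_left]
  refine mem_normalizer_iff.2 fun z => ⟨fun hz => by rw [h1 z hz]; exact hz, fun hz => ?_⟩
  have h3 := h2 _ hz
  have e : y⁻¹ * (y * z * y⁻¹) * y = z := by group
  rw [e] at h3
  rw [h3]; exact hz

theorem ΛA : Λ ≤ A := h.ΛL.trans h.LA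

omit h in
theorem norm_sup {M N : Subgroup G} (hM : Y ≤ normalizer (M : Set G)) (hN : Y ≤ normalizer (N : Set G)) :
    Y ≤ normalizer ((M ⊔ N : Subgroup G) : Set G) := by
  intro y hy
  have key : ∀ g : G, g ∈ normalizer (M : Set G) → g ∈ normalizer (N : Set G) →
      ∀ z ∈ M ⊔ N, g * z * g⁻¹ ∈ M ⊔ N := fun g hgM hgN z hz => by
    have h1 : (M ⊔ N).map (MulAut.conj g).toMonoidHom ≤ M ⊔ N := by
      rw [Subgroup.map_sup]
      refine sup_le_sup ?_ ?_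
      · rintro _ ⟨m, hm, rfl⟩
        exact (mem_normalizer_iff.1 hgM m).1 hm
      · rintro _ ⟨m, hm, rfl⟩
        exact (mem_normalizer_iff.1 hgN m).1 hm
    exact h1 ⟨z, hz, rfl⟩
  refine mem_normalizer_iff.2 fun z => ⟨key y (hM hy) (hN hy) z, fun hz => ?_⟩
  have h3 := key y⁻¹ (inv_mem (hM hy)) (inv_mem (hN hy)) _ hz
  have e : y⁻¹ * (y * z * y⁻¹) * y⁻¹⁻¹ = z := by group
  rwa [e] at h3

theorem WΛn : Y ≤ normalizer ((W ⊔ Λ : Subgroup G) : Set G) := norm_sup h.YW h.YΛn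

theorem WΛA : W ⊔ Λ ≤ A := sup_le h.WA h.ΛA

/-- `[Y, L] ≤ W Λ` -/
theorem comm {y l : G} (hy : y ∈ Y) (hl : l ∈ L) : y * l * y⁻¹ * l⁻¹ ∈ W ⊔ Λ :=
  h.ker _ h.WΛA h.WΛn l (h.LA hl) (fun g hg hgQ => h.NQ g hg hgQ l hl) y hy

/-- `Y` normalises `W L` -/
theorem norm_WL : Y ≤ normalizer ((W ⊔ L : Subgroup G) : Set G) := by
  have key : ∀ g ∈ Y, ∀ z ∈ W ⊔ L, g * z * g⁻¹ ∈ W ⊔ L := fun g hg z hz => by
    have h1 : (W ⊔ L).map (MulAut.conj g).toMonoidHom ≤ W ⊔ L := by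
      rw [Subgroup.map_sup]
      refine sup_le ?_ ?_
      · rintro _ ⟨m, hm, rfl⟩
        exact mem_sup_left ((mem_normalizer_iff.1 (h.YW hg) m).1 hm)
      · rintro _ ⟨m, hm, rfl⟩
        have h2 := h.comm hg hm
        have h3 : g * m * g⁻¹ * m⁻¹ ∈ W ⊔ L := (sup_le_sup_left h.ΛL W) h2
        have h4 := mul_mem h3 (mem_sup_right hm : m ∈ W ⊔ L)
        have e : g * m * g⁻¹ * m⁻¹ * m = g * m * g⁻¹ := by group
        rw [e] at h4
        exact h4
    exact h1 ⟨z, hz, rfl⟩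
  intro y hy
  refine mem_normalizer_iff.2 fun z => ⟨key y hy z, fun hz => ?_⟩
  have h3 := key y⁻¹ (inv_mem hy) _ hz
  have e : y⁻¹ * (y * z * y⁻¹) * y⁻¹⁻¹ = z := by group
  rwa [e] at h3

/-- **(b)** : `O²(Y)` centralises `x ∈ C_L(h)` if `B` centralises `x` modulo `Λ`.
`cW` : `w ∈ W`, `[w, Q] ≤ Λ` ⟹ `w ∈ L`; `ch` : `C_(L ∩ W Λ)(h) ≤ C(O²(Y))` (`= Λ`). -/
theorem cent [Finite G] (QY : Q ≤ Y) (QL : ∀ q ∈ Q, ∀ l ∈ L, q * l = l * q)
    (cW : ∀ w ∈ W, (∀ q ∈ Q, q * w * q⁻¹ * w⁻¹ ∈ Λ) → w ∈ L) {k : G} (hk : k ∈ oddGen Y)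
    (ch : ∀ u ∈ L, u ∈ W ⊔ Λ → k * u = u * k → ∀ g ∈ oddGen Y, g * u = u * g)
    {x : G} (hx : x ∈ L) (hkx : k * x = x * k) (hB : ∀ b ∈ B, b ∈ Y → b * x * b⁻¹ * x⁻¹ ∈ Λ) :
    ∀ g ∈ oddGen Y, g * x = x * g := by
  obtain ⟨n, hnA, hn, hnx⟩ := exists_norm h.Aab h.As h.YA h.YΛn
    h.syl (h.LA hx) hB (fun y hy => h.comm hy hx)
  have hodd : ∀ g ∈ oddGen Y, g * n = n * g := by
    have h1 : oddGen Y ≤ centralizer ({n} : Set G) := by
      rw [oddGen_def, closure_le]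
      rintro g ⟨hg, ho⟩
      have := comm_of_odd h.As ho (hn g hg) (fun z hz => h.YΛ g hg z hz) h.ΛA
      rw [SetLike.mem_coe, mem_centralizer_iff]
      rintro _ rfl
      exact this.symm
    intro g hg
    exact (mem_centralizer_iff.1 (h1 hg) n rfl).symm
  -- `n = u x`, `u ∈ W Λ`, `u = w z`
  set u := n * x⁻¹ with hu
  have hux : n = u * x := by rw [hu]; group
  have huA : u ∈ A := h.WΛA hnx
  obtain ⟨w, hw, z, hz, hwz⟩ : ∃ w ∈ W, ∃ z ∈ Λ, w * z = u := by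
    have hnorm : (W.subgroupOf A).Normal := ⟨fun a ha g => by
      have : g * a * g⁻¹ = a := by
        apply Subtype.ext
        have := h.Aab g g.2 a a.2
        change (g : G) * a * (g : G)⁻¹ = a
        rw [this, mul_inv_cancel_right]
      rw [this]; exact ha⟩
    have h1 : (⟨u, huA⟩ : A) ∈ W.subgroupOf A ⊔ Λ.subgroupOf A := by
      rw [← Subgroup.subgroupOf_sup h.WA h.ΛA]
      exact mem_subgroupOf.2 hnx
    rw [Subgroup.mem_sup_of_normal_left] at h1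
    obtain ⟨w, hw, z, hz, hwz⟩ := h1
    exact ⟨w, mem_subgroupOf.1 hw, z, mem_subgroupOf.1 hz, congrArg Subtype.val hwz⟩
  have hwA := h.WA hw
  have hzA := h.ΛA hz
  have hwL : w ∈ L := by
    refine cW w hw fun q hq => ?_
    have h1 := hn q (QY hq)
    have e2 : w = n * (x⁻¹ * z⁻¹) := by
      have : w = u * z⁻¹ := by rw [← hwz]; group
      rw [this, hu]; group
    have hqx : q * x⁻¹ = x⁻¹ * q := QL q hq _ (inv_mem hx)
    have hqz : q * z⁻¹ = z⁻¹ * q := QL q hq _ (inv_mem (h.ΛL hz))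
    have e3 : q * w * q⁻¹ * w⁻¹ = q * n * q⁻¹ * n⁻¹ := by
      rw [e2]
      have e4 : q * (n * (x⁻¹ * z⁻¹)) * q⁻¹ = (q * n * q⁻¹) * (x⁻¹ * z⁻¹) := by
        calc q * (n * (x⁻¹ * z⁻¹)) * q⁻¹ = q * n * (x⁻¹ * z⁻¹ * q⁻¹) := by group
          _ = q * n * (q⁻¹ * (x⁻¹ * z⁻¹)) := by
            have : x⁻¹ * z⁻¹ * q⁻¹ = q⁻¹ * (x⁻¹ * z⁻¹) := by
              have h5 : q * (x⁻¹ * z⁻¹) = (x⁻¹ * z⁻¹) * q := by
                rw [← mul_assoc, hqx, mul_assoc, hqz, ← mul_assoc]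
              calc x⁻¹ * z⁻¹ * q⁻¹ = q⁻¹ * (q * (x⁻¹ * z⁻¹)) * q⁻¹ := by group
                _ = q⁻¹ * ((x⁻¹ * z⁻¹) * q) * q⁻¹ := by rw [h5]
                _ = q⁻¹ * (x⁻¹ * z⁻¹) := by group
            rw [this]
          _ = (q * n * q⁻¹) * (x⁻¹ * z⁻¹) := by group
      rw [e4]
      have e5 : (n * (x⁻¹ * z⁻¹))⁻¹ = (x⁻¹ * z⁻¹)⁻¹ * n⁻¹ := by group
      rw [e5]; group
    rw [e3]; exact h1
  have huL : u ∈ L := by rw [← hwz]; exact mul_mem hwL (h.ΛL hz)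
  have hku : k * u = u * k := by
    have h1 := hodd k hk
    rw [hux] at h1
    -- `k u x = u x k = u k x`
    have h2 : k * u * x = u * k * x := by
      calc k * u * x = k * (u * x) := by group
        _ = u * x * k := h1
        _ = u * (x * k) := by group
        _ = u * (k * x) := by rw [hkx]
        _ = u * k * x := by group
    exact mul_right_cancel h2
  have hcu := ch u huL hnx hku
  intro g hg
  have h1 := hodd g hg
  have h2 := hcu g hg
  have e : x = u⁻¹ * n := by rw [hux]; group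
  have h3 : g * u⁻¹ = u⁻¹ * g := by
    calc g * u⁻¹ = u⁻¹ * (u * g) * u⁻¹ := by group
      _ = u⁻¹ * (g * u) * u⁻¹ := by rw [h2]
      _ = u⁻¹ * g := by group
  rw [e, ← mul_assoc, h3, mul_assoc, h1, mul_assoc]

/-- **`C_R(L)` is normal in `Y`** for `R` normal in `Y` which centralises `W` (`R = O₂(Y)`, `C_R(L) = Q ∩ O₂(Y)`). -/
theorem norm_CL {R : Subgroup G} (YR : Y ≤ normalizer (R : Set G)) (RW : R ≤ centralizer (W : Set G)) :
    Y ≤ normalizer ((R ⊓ centralizer (L : Set G) : Subgroup G) : Set G) := by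
  have e : R ⊓ centralizer (L : Set G) = R ⊓ centralizer ((W ⊔ L : Subgroup G) : Set G) := by
    refine le_antisymm (le_inf inf_le_left ?_) (le_inf inf_le_left (inf_le_right.trans
      (centralizer_le (SetLike.coe_subset_coe.2 (le_sup_right : L ≤ W ⊔ L)))))
    rw [le_centralizer_iff]
    refine sup_le ?_ ?_
    · rw [le_centralizer_iff]; exact inf_le_left.trans RW
    · rw [le_centralizer_iff]; exact inf_le_right
  rw [e]
  have key : ∀ g ∈ Y, ∀ r ∈ R ⊓ centralizer ((W ⊔ L : Subgroup G) : Set G),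
      g * r * g⁻¹ ∈ R ⊓ centralizer ((W ⊔ L : Subgroup G) : Set G) := by
    rintro g hg r ⟨hr, hrc⟩
    refine ⟨(mem_normalizer_iff.1 (YR hg) r).1 hr, mem_centralizer_iff.2 fun v hv => ?_⟩
    have h1 : g⁻¹ * v * g ∈ W ⊔ L := by
      have := (mem_normalizer_iff.1 (h.norm_WL (inv_mem hg)) v).1 hv
      rwa [inv_inv] at this
    have h2 : (g⁻¹ * v * g) * r = r * (g⁻¹ * v * g) := mem_centralizer_iff.1 hrc _ h1
    calc v * (g * r * g⁻¹) = g * ((g⁻¹ * v * g) * r) * g⁻¹ := by group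
      _ = g * (r * (g⁻¹ * v * g)) * g⁻¹ := by rw [h2]
      _ = g * r * g⁻¹ * v := by group
  intro y hy
  refine mem_normalizer_iff.2 fun z => ⟨key y hy z, fun hz => ?_⟩
  have h3 := key y⁻¹ (inv_mem hy) _ hz
  have e : y⁻¹ * (y * z * y⁻¹) * y⁻¹⁻¹ = z := by group
  rwa [e] at h3

omit h in
/-- **(a)** : `F ≤ Λ`. -/
theorem F_le {F : Subgroup G} {k b : G} (FA : F ≤ A) (QF : ∀ q ∈ Q, ∀ f ∈ F, q * f = f * q)
    (CQ : A ⊓ centralizer (Q : Set G) ≤ L) (kF : ∀ f ∈ F, k * f = f * k) (bF : ∀ f ∈ F, b * f = f * b)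
    (hC : ∀ l ∈ L, k * l = l * k → b * l = l * b → l ∈ Λ) : F ≤ Λ := fun f hf =>
  hC f (CQ ⟨FA hf, mem_centralizer_iff.2 fun q hq => QF q hq f hf⟩) (kF f hf) (bF f hf)

end Sit

end Cfsg.Agent.Omega.NO3S.WY.Tor.SFiveB

end

end

-- merged: Cfsg.Agent.Mrg.Omega.NO3S.WY.Tor.UniB
section

/-!
# THEOREM TOR (helper474 #25011, nonsplit form helper602 #25344 (N), helper864 #25428), (2): `W^g ≤ W L`

Printed proof (five pieces).  `Tw` : a twin `(W₂, F₂)` of `(W, F)` under `N_M(Q) ∩ N(V_j)`.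

* `claim` : `A ∈ 𝓦`, `A ≤ Q`, `A` moves `W` ⟹ `A ∩ C(W)` centralises `N = ⟨W₂^Y⟩`;
* `uni` : `W^g ≤ W L` for `g ∈ N_M(Q) ∩ N(V_j)`.
-/

set_option autoImplicit false
set_option linter.unusedSectionVars false

namespace Cfsg.Agent.Omega.NO3S.WY.Tor.UniB

open Subgroup Cfsg Cfsg.Agent.ZN Cfsg.Agent.ZN.ChoiceBase
open Cfsg.Agent.ZN.ChoiceSit (Syl)
open Cfsg.Agent.Omega.SQ1.Bau (mem_sup_comm card_sup_comm)
open Cfsg.Agent.Omega.NO3b.EZero (cl cl_le le_cl cj_le_cl le_normalizer_cl)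
open Cfsg.Agent.MinSimple.VModule (oddGen)

universe u

variable {G : Type u} [Group G] [Finite G]

theorem card_rel (C E : Subgroup G) : C.relIndex E * Nat.card ↥(E ⊓ C) = Nat.card E := by
  have h1 := Subgroup.card_mul_index (C.subgroupOf E)
  have h2 : Nat.card (C.subgroupOf E) = Nat.card ↥(E ⊓ C) := by
    rw [← Nat.card_congr ((C.subgroupOf E).equivMapOfInjective E.subtype E.subtype_injective).toEquiv.symm,
      Subgroup.subgroupOf_map_subtype, inf_comm]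
  rw [h2] at h1
  rw [mul_comm]; exact h1

theorem card_mono {A B : Subgroup G} (h : A ≤ B) : Nat.card A ≤ Nat.card B :=
  Nat.card_le_card_of_injective _ (inclusion_injective h)

theorem cpos (A : Subgroup G) : 0 < Nat.card A := Nat.card_pos

/-- a twin of `(W, F)` -/
structure Tw (Q X Vj VVj W F : Subgroup G) : Prop where
  WX : W ≤ X
  VW : Vj ≤ W
  FW : F ≤ W
  FV : F ≤ VVj
  quad : ∀ q ∈ Q, ∀ w ∈ W, q * w * q⁻¹ * w⁻¹ ∈ Vj ⊔ F
  free : ∀ q ∈ Q, ∀ w ∈ W, w ∉ Vj ⊔ F → q * w * q⁻¹ * w⁻¹ ∈ F → ∀ u ∈ W, q * u = u * q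
  cardQ : Nat.card Q = 4 * Nat.card ↥(Q ⊓ centralizer (W : Set G))
  cW : Nat.card W = 4 * Nat.card ↥(Vj ⊔ F)

namespace Tw

variable {Q X Vj VVj W F : Subgroup G} (t : Tw Q X Vj VVj W F)
include t

theorem exists_out : ∃ w ∈ W, w ∉ Vj ⊔ F := by
  by_contra hc
  push Not at hc
  have h1 := card_mono (show W ≤ Vj ⊔ F from hc)
  have h2 := cpos (Vj ⊔ F)
  have h3 := t.cW
  omega

theorem cent_le {E : Subgroup G} (hE : E ≤ Q) (hn : ¬ E ≤ centralizer (W : Set G)) :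
    W ⊓ centralizer (E : Set G) ≤ Vj ⊔ F := by
  rintro w ⟨hw, hwE⟩
  by_contra hw2
  apply hn
  intro e he
  rw [mem_centralizer_iff]
  intro u hu
  refine (t.free e (hE he) w hw hw2 ?_ u hu).symm
  have h1 : e * w * e⁻¹ * w⁻¹ = 1 := comm_iff.2 (mem_centralizer_iff.1 hwE e he)
  rw [h1]; exact one_mem _

theorem four' {N E : Subgroup G} (hN : W ≤ N) (Nc : ∀ x ∈ N, ∀ y ∈ N, x * y = y * x) (hE : E ≤ Q)
    (hn : ¬ E ≤ centralizer (W : Set G)) :
    4 * Nat.card ↥(N ⊓ centralizer (E : Set G)) ≤ Nat.card ↥(W ⊔ (N ⊓ centralizer (E : Set G)) : Subgroup G) := by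
  have h1 := card_sup_comm (A := W) (B := N ⊓ centralizer (E : Set G)) (fun a ha b hb => Nc a (hN ha) b hb.1)
  have h2 : W ⊓ (N ⊓ centralizer (E : Set G)) ≤ Vj ⊔ F := fun w hw => t.cent_le hE hn ⟨hw.1, hw.2.2⟩
  have h3 := card_mono h2
  rw [t.cW] at h1
  have h4 := cpos (W ⊓ (N ⊓ centralizer (E : Set G)))
  refine Nat.le_of_mul_le_mul_right (c := Nat.card ↥(W ⊓ (N ⊓ centralizer (E : Set G)))) ?_ h4
  rw [h1]
  calc 4 * Nat.card ↥(N ⊓ centralizer (E : Set G)) * Nat.card ↥(W ⊓ (N ⊓ centralizer (E : Set G)))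
      ≤ 4 * Nat.card ↥(N ⊓ centralizer (E : Set G)) * Nat.card ↥(Vj ⊔ F) := Nat.mul_le_mul_left _ h3
    _ = 4 * Nat.card ↥(Vj ⊔ F) * Nat.card ↥(N ⊓ centralizer (E : Set G)) := by ring

theorem four {N E : Subgroup G} (hN : W ≤ N) (Nc : ∀ x ∈ N, ∀ y ∈ N, x * y = y * x) (hE : E ≤ Q)
    (hn : ¬ E ≤ centralizer (W : Set G)) :
    4 * Nat.card ↥(N ⊓ centralizer (E : Set G)) ≤
      Nat.card ↥(N ⊓ centralizer ((E ⊓ centralizer (W : Set G) : Subgroup G) : Set G)) := by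
  refine (t.four' hN Nc hE hn).trans (card_mono (sup_le (le_inf hN ?_) (inf_le_inf_left _ (centralizer_le inf_le_left))))
  rw [le_centralizer_iff]
  exact inf_le_right

theorem cardE {E : Subgroup G} (hE : E ≤ Q) : Nat.card E ≤ 4 * Nat.card ↥(E ⊓ centralizer (W : Set G)) := by
  have h1 := card_rel (centralizer (W : Set G)) E
  have h2 := card_rel (centralizer (W : Set G)) Q
  have h3 : (centralizer (W : Set G)).relIndex Q = 4 := by
    have h4 := t.cardQ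
    rw [← h2] at h4
    exact Nat.eq_of_mul_eq_mul_right (cpos _) h4
  have h5 : (centralizer (W : Set G)).relIndex E ≤ (centralizer (W : Set G)).relIndex Q :=
    Subgroup.relIndex_le_of_le_right hE (by rw [h3]; norm_num)
  rw [← h1]
  exact Nat.mul_le_mul_right _ (h5.trans h3.le)

theorem comm_nf {e w : G} (he : e ∈ Q) (hw : w ∈ W) (hw2 : w ∉ Vj ⊔ F) (hn : ¬ ∀ u ∈ W, e * u = u * e) :
    e * w * e⁻¹ * w⁻¹ ∉ F := fun h1 => hn (t.free e he w hw hw2 h1)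

theorem sup_eq {N E : Subgroup G} (hN : W ≤ N) (Nc : ∀ x ∈ N, ∀ y ∈ N, x * y = y * x) (hE : E ≤ Q)
    (hn : ¬ E ≤ centralizer (W : Set G)) (hc : Nat.card N ≤ 4 * Nat.card ↥(N ⊓ centralizer (E : Set G))) {n : G}
    (hn' : n ∈ N) : ∃ w ∈ W, ∃ d ∈ N, (∀ e ∈ E, e * d = d * e) ∧ n = w * d := by
  have h1 : W ⊔ (N ⊓ centralizer (E : Set G)) = N :=
    eq_of_le_of_card_ge (sup_le hN inf_le_left) (hc.trans (t.four' hN Nc hE hn))
  rw [← h1] at hn'
  obtain ⟨w, hw, d, hd, e⟩ := mem_sup_comm (A := W) (B := N ⊓ centralizer (E : Set G))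
    (fun a ha b hb => Nc a (hN ha) b hb.1) hn'
  exact ⟨w, hw, d, hd.1, fun x hx => mem_centralizer_iff.1 hd.2 x hx, e⟩

end Tw

theorem conj_mem_iff {g x : G} {A : Subgroup G} : x ∈ cj g A ↔ g⁻¹ * x * g ∈ A := mem_cj

variable {ι : Type} {S B Q M X L : Subgroup G} {V : ι → Subgroup G} {z : ι → G} {𝓦 : Set (Subgroup G)} {j : ι}
  {Y W F : Subgroup G}

/-- `(W, F)` -/
theorem tw_self (c : Cx S B Q M X L V z) (h : TY S B Q M X V z 𝓦 j Y W F) : Tw Q X (V j) (VV V j) W F where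
  WX := h.WX
  VW := h.VW
  FW := h.FW
  FV := h.F_VV c
  quad := h.quad
  free := h.free
  cardQ := h.cardQ
  cW := by
    have h1 := h.card_VF c
    have h2 := h.cW
    rw [h1, h2]; ring

/-- `(W^g, F^g)` -/
theorem tw_cj (c : Cx S B Q M X L V z) (h : TY S B Q M X V z 𝓦 j Y W F) {g : G} (hg : g ∈ M)
    (hgQ : g ∈ normalizer (Q : Set G)) (hgV : cj g (V j) = V j) : Tw Q X (V j) (VV V j) (cj g W) (cj g F) where
  WX := by
    have h1 := cj_mono g h.WX
    rwa [cj_eq_of_mem_normalizer (c.MX hg)] at h1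
  VW := by
    have h1 := cj_mono g h.VW
    rwa [hgV] at h1
  FW := cj_mono g h.FW
  FV := (cj_mono g (h.F_VV c)).trans (c.norm_VV hgQ hgV)
  quad := by
    intro q hq w hw
    have h1 := h.quad (g⁻¹ * q * g) (by
      have := conj_mem (inv_mem hgQ) hq
      rwa [inv_inv] at this) (g⁻¹ * w * g) (mem_cj.1 hw)
    have e : cj g (V j ⊔ F) = V j ⊔ cj g F := by
      have : cj g (V j ⊔ F) = cj g (V j) ⊔ cj g F := Subgroup.map_sup _ _ _
      rw [this, hgV]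
    rw [← e, mem_cj]
    have e2 : g⁻¹ * (q * w * q⁻¹ * w⁻¹) * g =
        g⁻¹ * q * g * (g⁻¹ * w * g) * (g⁻¹ * q * g)⁻¹ * (g⁻¹ * w * g)⁻¹ := by group
    rw [e2]; exact h1
  free := by
    intro q hq w hw hw2 h1 u hu
    have e : cj g (V j ⊔ F) = V j ⊔ cj g F := by
      have : cj g (V j ⊔ F) = cj g (V j) ⊔ cj g F := Subgroup.map_sup _ _ _
      rw [this, hgV]
    have hq' : g⁻¹ * q * g ∈ Q := by
      have := conj_mem (inv_mem hgQ) hq
      rwa [inv_inv] at this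
    have e2 : g⁻¹ * (q * w * q⁻¹ * w⁻¹) * g =
        g⁻¹ * q * g * (g⁻¹ * w * g) * (g⁻¹ * q * g)⁻¹ * (g⁻¹ * w * g)⁻¹ := by group
    have h2 := h.free (g⁻¹ * q * g) hq' (g⁻¹ * w * g) (mem_cj.1 hw)
      (fun hc => hw2 (by rw [← e, mem_cj]; exact hc)) (by rw [← e2]; exact mem_cj.1 h1) (g⁻¹ * u * g) (mem_cj.1 hu)
    have h3 : g * (g⁻¹ * q * g * (g⁻¹ * u * g)) * g⁻¹ = g * (g⁻¹ * u * g * (g⁻¹ * q * g)) * g⁻¹ := by rw [h2]
    have e3 : g * (g⁻¹ * q * g * (g⁻¹ * u * g)) * g⁻¹ = q * u := by group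
    have e4 : g * (g⁻¹ * u * g * (g⁻¹ * q * g)) * g⁻¹ = u * q := by group
    rwa [e3, e4] at h3
  cardQ := by
    have e : Q ⊓ centralizer ((cj g W : Subgroup G) : Set G) = cj g (Q ⊓ centralizer (W : Set G)) := by
      rw [cj_inf, cj_centralizer, cj_eq_of_mem_normalizer hgQ]
    rw [e, card_cj]; exact h.cardQ
  cW := by
    have e : cj g (V j ⊔ F) = V j ⊔ cj g F := by
      have : cj g (V j ⊔ F) = cj g (V j) ⊔ cj g F := Subgroup.map_sup _ _ _
      rw [this, hgV]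
    rw [← e, card_cj, card_cj]; exact (tw_self c h).cW

/-- the five lines -/
structure Ln (Vj W F Y : Subgroup G) (ℓ : Fin 5 → Subgroup G) (π : ↥Y →* Equiv.Perm (Fin 5)) : Prop where
  z0 : ℓ 0 = Vj ⊔ F
  lW : ∀ a, ℓ a ≤ W
  ld : ∀ a b, a ≠ b → ℓ a ⊓ ℓ b = F
  lc : ∀ (y : Y) a, cj (y : G) (ℓ a) = ℓ (π y a)
  A5 : alternatingGroup (Fin 5) ≤ π.range
  ker : ∀ y : Y, π y = 1 → ∀ w ∈ W, (y : G) * w * (y : G)⁻¹ * w⁻¹ ∈ F

namespace Ln

variable {ℓ : Fin 5 → Subgroup G} {π : ↥Y →* Equiv.Perm (Fin 5)}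

theorem tr (l : Ln (V j) W F Y ℓ π) (b : Fin 5) : ∃ y : Y, π y 0 = b := by
  have key : ∃ σ ∈ alternatingGroup (Fin 5), σ 0 = b := by
    fin_cases b
    · exact ⟨1, one_mem _, rfl⟩
    · exact ⟨Equiv.swap 0 1 * Equiv.swap 2 3, by rw [Equiv.Perm.mem_alternatingGroup]; decide, by decide⟩
    · exact ⟨Equiv.swap 0 2 * Equiv.swap 1 3, by rw [Equiv.Perm.mem_alternatingGroup]; decide, by decide⟩
    · exact ⟨Equiv.swap 0 3 * Equiv.swap 1 2, by rw [Equiv.Perm.mem_alternatingGroup]; decide, by decide⟩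
    · exact ⟨Equiv.swap 0 4 * Equiv.swap 1 2, by rw [Equiv.Perm.mem_alternatingGroup]; decide, by decide⟩
  obtain ⟨σ, hσ, h0⟩ := key
  obtain ⟨y, rfl⟩ := l.A5 hσ
  exact ⟨y, h0⟩

theorem Fl (l : Ln (V j) W F Y ℓ π) (a : Fin 5) : F ≤ ℓ a := by
  obtain ⟨b, hb⟩ : ∃ b : Fin 5, a ≠ b := by
    by_cases h : a = 0
    · exact ⟨1, by rw [h]; decide⟩
    · exact ⟨0, h⟩
  rw [← l.ld a b hb]; exact inf_le_left

theorem ne (c : Cx S B Q M X L V z) (h : TY S B Q M X V z 𝓦 j Y W F) (l : Ln (V j) W F Y ℓ π) (a : Fin 5) : ℓ a ≠ F := by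
  intro e
  obtain ⟨y, hy⟩ := l.tr a
  have h1 : Nat.card (ℓ a) = Nat.card ↥(V j ⊔ F) := by
    rw [← hy, ← l.lc y 0, card_cj, l.z0]
  rw [e, h.card_VF c] at h1
  have := cpos F
  omega

theorem inj (c : Cx S B Q M X L V z) (h : TY S B Q M X V z 𝓦 j Y W F) (l : Ln (V j) W F Y ℓ π) {a b : Fin 5}
    (e : ℓ a = ℓ b) : a = b := by
  by_contra hne
  have h1 := l.ld a b hne
  rw [e, inf_idem] at h1
  exact l.ne c h b h1

/-- `B` fixes the line `V_j F` -/
theorem fix0 (c : Cx S B Q M X L V z) (h : TY S B Q M X V z 𝓦 j Y W F) (l : Ln (V j) W F Y ℓ π) {b : G} (hb : b ∈ B)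
    (hbY : b ∈ Y) : π ⟨b, hbY⟩ 0 = 0 := by
  apply l.inj c h
  rw [← l.lc ⟨b, hbY⟩ 0, l.z0]
  have h1 : cj b F = F := cj_eq_of_mem_normalizer (by
    rw [mem_normalizer_iff_cj]
    refine eq_of_le_of_card_ge ?_ (card_cj b F).ge
    rintro _ ⟨f, hf, rfl⟩
    have h2 := h.cF hbY hf
    simp only [MulEquiv.toMonoidHom_eq_coe, MonoidHom.coe_coe, MulAut.conj_apply]
    rw [h2, mul_inv_cancel_right]
    exact hf)
  have h2 : cj b (V j ⊔ F) = cj b (V j) ⊔ cj b F := Subgroup.map_sup _ _ _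
  change cj b (V j ⊔ F) = V j ⊔ F
  rw [h2, c.BVj hb, h1]

/-- an element of `Q` which moves `W` moves all other lines -/
theorem mv (c : Cx S B Q M X L V z) (h : TY S B Q M X V z 𝓦 j Y W F) (l : Ln (V j) W F Y ℓ π) {q : G} (hq : q ∈ Q)
    (hqY : q ∈ Y) (hn : ¬ ∀ u ∈ W, q * u = u * q) {b : Fin 5} (hb : b ≠ 0) : π ⟨q, hqY⟩ b ≠ b := by
  intro e
  apply hn
  have h1 : cj q (ℓ b) = ℓ b := by
    have := l.lc ⟨q, hqY⟩ b
    rw [e] at this; exact this
  obtain ⟨w, hw, hwF⟩ : ∃ w ∈ ℓ b, w ∉ F := by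
    by_contra hc
    push Not at hc
    exact l.ne c h b (le_antisymm hc (l.Fl b))
  have h0 : w ∉ V j ⊔ F := fun h2 => hwF (by
    rw [← l.ld b 0 hb]
    exact ⟨hw, by rw [l.z0]; exact h2⟩)
  refine h.free q hq w (l.lW b hw) h0 ?_
  rw [← l.ld b 0 hb]
  refine ⟨?_, by rw [l.z0]; exact h.quad q hq w (l.lW b hw)⟩
  have h3 := mem_cj' (g := q) hw
  rw [h1] at h3
  exact (ℓ b).mul_mem h3 ((ℓ b).inv_mem hw)

/-- an element which centralises `W` fixes all lines -/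
theorem triv (c : Cx S B Q M X L V z) (h : TY S B Q M X V z 𝓦 j Y W F) (l : Ln (V j) W F Y ℓ π) {q : G}
    (hqY : q ∈ Y) (hn : ∀ u ∈ W, q * u = u * q) : π ⟨q, hqY⟩ = 1 :=
  TY.ker_le l.lW l.Fl (l.ne c h) l.ld l.lc (y := ⟨q, hqY⟩) fun w hw => by
    have h1 : q * w * q⁻¹ * w⁻¹ = 1 := comm_iff.2 (hn w hw)
    change q * w * q⁻¹ * w⁻¹ ∈ F
    rw [h1]; exact one_mem _

end Ln

/-! ### The class of the minimal best offenders in `PI` -/

/-- `f_N(E) = |E / C_E(N)| |C_N(E)|` -/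
noncomputable def fN (N E : Subgroup G) : ℕ :=
  (centralizer (N : Set G)).relIndex E * Nat.card ↥(N ⊓ centralizer (E : Set G))

theorem fN_def (N E : Subgroup G) : fN N E =
    (centralizer (N : Set G)).relIndex E * Nat.card ↥(N ⊓ centralizer (E : Set G)) := rfl

/-- the class -/
structure Ac (PI N : Subgroup G) (m r : ℕ) (E : Subgroup G) : Prop where
  le : E ≤ PI
  mv : ¬ E ≤ centralizer (N : Set G)
  fm : fN N E = m
  rm : (centralizer (N : Set G)).relIndex E = r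

theorem exists_Ac {PI N E : Subgroup G} (hE : E ≤ PI) (hn : ¬ E ≤ centralizer (N : Set G)) :
    ∃ m r : ℕ, fN N E ≤ m ∧ (∃ E₁, Ac PI N m r E₁) ∧
      (∀ E', E' ≤ PI → ¬ E' ≤ centralizer (N : Set G) → fN N E' ≤ m) ∧
      ∀ E', E' ≤ PI → ¬ E' ≤ centralizer (N : Set G) → fN N E' = m → r ≤ (centralizer (N : Set G)).relIndex E' := by
  classical
  obtain ⟨E₁, hE₁, hmax⟩ := Set.exists_max_image {E : Subgroup G | E ≤ PI ∧ ¬ E ≤ centralizer (N : Set G)}
    (fun E => fN N E) (Set.toFinite _) ⟨E, hE, hn⟩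
  obtain ⟨E₂, hE₂, hmin⟩ := Set.exists_min_image
    {E : Subgroup G | E ≤ PI ∧ ¬ E ≤ centralizer (N : Set G) ∧ fN N E = fN N E₁}
    (fun E => (centralizer (N : Set G)).relIndex E) (Set.toFinite _) ⟨E₁, hE₁.1, hE₁.2, rfl⟩
  exact ⟨fN N E₁, _, hmax E ⟨hE, hn⟩, ⟨E₂, hE₂.1, hE₂.2.1, hE₂.2.2, rfl⟩, fun E' h1 h2 => hmax E' ⟨h1, h2⟩,
    fun E' h1 h2 h3 => hmin E' ⟨h1, h2, h3⟩⟩

theorem fN_cj {N E : Subgroup G} {y : G} (hy : y ∈ normalizer (N : Set G)) :
    (centralizer (N : Set G)).relIndex (cj y E) = (centralizer (N : Set G)).relIndex E ∧ fN N (cj y E) = fN N E := by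
  have h1 : cj y (centralizer (N : Set G)) = centralizer (N : Set G) := by
    rw [cj_centralizer, cj_eq_of_mem_normalizer hy]
  have h2 : (centralizer (N : Set G)).relIndex (cj y E) = (centralizer (N : Set G)).relIndex E := by
    conv_lhs => rw [← h1]
    exact NO3b.EZero.relIndex_cj y _ _
  have h3 : N ⊓ centralizer ((cj y E : Subgroup G) : Set G) = cj y (N ⊓ centralizer (E : Set G)) := by
    rw [cj_inf, cj_centralizer, cj_eq_of_mem_normalizer hy]
  exact ⟨h2, by rw [fN_def, fN_def, h2, h3, card_cj]⟩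

theorem Ac.cj {PI N E : Subgroup G} {m r : ℕ} (h : Ac PI N m r E) {y : G} (hy : y ∈ normalizer (N : Set G))
    (hyP : y ∈ normalizer (PI : Set G)) : Ac PI N m r (ChoiceBase.cj y E) where
  le := by
    have h1 := cj_mono y h.le
    rwa [cj_eq_of_mem_normalizer hyP] at h1
  mv := fun h1 => h.mv (by
    have h2 := cj_mono y⁻¹ h1
    rwa [cj_inv_cj, cj_centralizer, cj_eq_of_mem_normalizer (inv_mem hy)] at h2)
  fm := by rw [(fN_cj hy).2]; exact h.fm
  rm := by rw [(fN_cj hy).1]; exact h.rm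

/-- a member of the class which moves the twin -/
theorem Ac.bound {Q X Vj VVj W F PI N E : Subgroup G} {m r : ℕ} (t : Tw Q X Vj VVj W F) (h : Ac PI N m r E)
    (hN : W ≤ N) (Nc : ∀ x ∈ N, ∀ y ∈ N, x * y = y * x) (PQ : PI ≤ Q)
    (hmax : ∀ E', E' ≤ PI → ¬ E' ≤ centralizer (N : Set G) → fN N E' ≤ m)
    (hmin : ∀ E', E' ≤ PI → ¬ E' ≤ centralizer (N : Set G) → fN N E' = m →
      r ≤ (centralizer (N : Set G)).relIndex E') (hm : Nat.card N ≤ m) (hn : ¬ E ≤ centralizer (W : Set G)) :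
    Nat.card N ≤ 4 * Nat.card ↥(N ⊓ centralizer (E : Set G)) := by
  have hEQ : E ≤ Q := h.le.trans PQ
  set E₂ : Subgroup G := E ⊓ centralizer (W : Set G) with hE₂
  have hNW : centralizer (N : Set G) ≤ centralizer (W : Set G) := centralizer_le hN
  have hE4 : Nat.card E ≤ 4 * Nat.card E₂ := t.cardE hEQ
  have e0 : E₂ ⊓ centralizer (N : Set G) = E ⊓ centralizer (N : Set G) :=
    le_antisymm (inf_le_inf_right _ inf_le_left) (le_inf (le_inf inf_le_left (inf_le_right.trans hNW)) inf_le_right)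
  have k1 := card_rel (centralizer (N : Set G)) E
  have k2 := card_rel (centralizer (N : Set G)) E₂
  rw [e0] at k2
  set k := Nat.card ↥(E ⊓ centralizer (N : Set G)) with hk
  have hk0 : 0 < k := cpos _
  have hf : (centralizer (N : Set G)).relIndex E * Nat.card ↥(N ⊓ centralizer (E : Set G)) = m := h.fm
  by_cases h2 : E₂ ≤ centralizer (N : Set G)
  · have e1 : Nat.card E₂ = k := by
      rw [hk, ← e0, inf_eq_left.2 h2]
    have h3 : (centralizer (N : Set G)).relIndex E ≤ 4 := by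
      refine Nat.le_of_mul_le_mul_right (c := k) ?_ hk0
      rw [k1, ← e1]; exact hE4
    calc Nat.card N ≤ m := hm
      _ = _ := hf.symm
      _ ≤ _ := Nat.mul_le_mul_right _ h3
  · exfalso
    have h3 : (centralizer (N : Set G)).relIndex E ≤ 4 * (centralizer (N : Set G)).relIndex E₂ := by
      refine Nat.le_of_mul_le_mul_right (c := k) ?_ hk0
      rw [k1, mul_assoc, k2]; exact hE4
    have h4 := t.four hN Nc hEQ hn
    have hE₂P : E₂ ≤ PI := inf_le_left.trans h.le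
    have h5 : m ≤ fN N E₂ := by
      rw [fN_def, ← hf]
      calc (centralizer (N : Set G)).relIndex E * Nat.card ↥(N ⊓ centralizer (E : Set G))
          ≤ 4 * (centralizer (N : Set G)).relIndex E₂ * Nat.card ↥(N ⊓ centralizer (E : Set G)) :=
            Nat.mul_le_mul_right _ h3
        _ = (centralizer (N : Set G)).relIndex E₂ * (4 * Nat.card ↥(N ⊓ centralizer (E : Set G))) := by ring
        _ ≤ _ := Nat.mul_le_mul_left _ h4
    have h6 := hmin E₂ hE₂P h2 (le_antisymm (hmax E₂ hE₂P h2) h5)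
    rw [← h.rm] at h6
    have h7 : Nat.card E₂ < Nat.card E := by
      refine lt_of_le_of_ne (card_mono inf_le_left) fun e => hn ?_
      have h8 : E₂ = E := eq_of_le_of_card_ge inf_le_left e.ge
      rw [← h8]; exact inf_le_right
    have h8 : (centralizer (N : Set G)).relIndex E * k ≤ (centralizer (N : Set G)).relIndex E₂ * k :=
      Nat.mul_le_mul_right _ h6
    rw [k1, k2] at h8
    omega

/-! ### The claim -/

/-- the situation: `N = ⟨W₂^Y⟩`, `A` the cut of some `W_F` -/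
structure Da (S B Q M X L : Subgroup G) (V : ι → Subgroup G) (z : ι → G) (𝓦 : Set (Subgroup G)) (j : ι)
    (Y W F W₂ F₂ N A : Subgroup G) (ℓ : Fin 5 → Subgroup G) (π : ↥Y →* Equiv.Perm (Fin 5)) : Prop where
  c : Cx S B Q M X L V z
  h : TY S B Q M X V z 𝓦 j Y W F
  l : Ln (V j) W F Y ℓ π
  t : Tw Q X (V j) (VV V j) W₂ F₂
  nPI : Y ≤ normalizer ((Q ⊓ o2 Y : Subgroup G) : Set G)
  nVV : Y ≤ normalizer ((VV V j : Subgroup G) : Set G)
  NX : N ≤ X
  YN : Y ≤ normalizer (N : Set G)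
  WN : W ≤ N
  W₂N : W₂ ≤ N
  gen : ∀ U : Subgroup G, W₂ ≤ U → Y ≤ normalizer (U : Set G) → N ≤ U
  AQ : A ≤ Q
  mvA : ¬ A ≤ centralizer (W : Set G)
  best : ∀ A' ≤ A, Nat.card A' * Nat.card ↥(N ⊓ centralizer (A' : Set G)) ≤
    Nat.card A * Nat.card ↥(N ⊓ centralizer (A : Set G))
  quad : ∀ x ∈ N, ∀ a ∈ A, ∀ b ∈ A, b * (a * x * a⁻¹ * x⁻¹) = (a * x * a⁻¹ * x⁻¹) * b

namespace Da

variable {W₂ F₂ N A : Subgroup G} {ℓ : Fin 5 → Subgroup G} {π : ↥Y →* Equiv.Perm (Fin 5)}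
  (d : Da S B Q M X L V z 𝓦 j Y W F W₂ F₂ N A ℓ π)
include d

theorem Nc : ∀ x ∈ N, ∀ y ∈ N, x * y = y * x := fun _ hx _ hy => d.c.xc (d.NX hx) (d.NX hy)

theorem tS : Tw Q X (V j) (VV V j) W F := tw_self d.c d.h

theorem QY : Q ≤ Y := d.h.QY d.c

theorem AY : A ≤ Y := d.AQ.trans d.QY

theorem card4 : 4 * Nat.card ↥(A ⊓ centralizer (W : Set G)) ≤ Nat.card A := by
  have h1 := d.best (A ⊓ centralizer (W : Set G)) inf_le_left
  have h2 := d.tS.four d.WN d.Nc d.AQ d.mvA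
  refine Nat.le_of_mul_le_mul_right (c := Nat.card ↥(N ⊓ centralizer (A : Set G))) ?_ (cpos _)
  calc 4 * Nat.card ↥(A ⊓ centralizer (W : Set G)) * Nat.card ↥(N ⊓ centralizer (A : Set G))
      = Nat.card ↥(A ⊓ centralizer (W : Set G)) * (4 * Nat.card ↥(N ⊓ centralizer (A : Set G))) := by ring
    _ ≤ _ := Nat.mul_le_mul_left _ h2
    _ ≤ _ := h1

theorem mem_cW {x : G} : x ∈ centralizer (W : Set G) ↔ ∀ u ∈ W, x * u = u * x := by
  rw [mem_centralizer_iff]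
  exact ⟨fun h u hu => (h u hu).symm, fun h u hu => (h u hu).symm⟩

theorem exists_ab : ∃ a ∈ A, ∃ b ∈ A, a ∉ centralizer (W : Set G) ∧ b ∉ centralizer (W : Set G) ∧
    b * a ∉ centralizer (W : Set G) := by
  obtain ⟨b, hb, hbW⟩ : ∃ b ∈ A, b ∉ centralizer (W : Set G) := by
    by_contra hc
    push Not at hc
    exact d.mvA hc
  by_contra hc
  push Not at hc
  have h1 : ∀ a ∈ A, a ∉ centralizer (W : Set G) → b * a ∈ centralizer (W : Set G) := fun a ha h2 => hc a ha b hb h2 hbW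
  have h2 : (A : Set G) ⊆ ((A ⊓ centralizer (W : Set G) : Subgroup G) : Set G) ∪
      (fun x => b⁻¹ * x) '' ((A ⊓ centralizer (W : Set G) : Subgroup G) : Set G) := by
    intro a ha
    by_cases h3 : a ∈ centralizer (W : Set G)
    · exact Or.inl ⟨ha, h3⟩
    · exact Or.inr ⟨b * a, ⟨mul_mem hb ha, h1 a ha h3⟩, by group⟩
  have h3 := Set.ncard_le_ncard h2 (Set.toFinite _)
  have h4 := Set.ncard_union_le ((A ⊓ centralizer (W : Set G) : Subgroup G) : Set G)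
    ((fun x => b⁻¹ * x) '' ((A ⊓ centralizer (W : Set G) : Subgroup G) : Set G))
  have h5 := Set.ncard_image_le (f := fun x => b⁻¹ * x)
    (Set.toFinite ((A ⊓ centralizer (W : Set G) : Subgroup G) : Set G))
  have h6 : Nat.card A = Set.ncard (A : Set G) := rfl
  have h7 : Nat.card ↥(A ⊓ centralizer (W : Set G)) = Set.ncard ((A ⊓ centralizer (W : Set G) : Subgroup G) : Set G) := rfl
  have h8 := d.card4
  have h9 := cpos (A ⊓ centralizer (W : Set G))
  rw [h6, h7] at h8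
  rw [h7] at h9
  omega

theorem mvl {q : G} (hq : q ∈ Q) (hn : q ∉ centralizer (W : Set G)) {b : Fin 5} (hb : b ≠ 0) :
    π ⟨q, d.QY hq⟩ b ≠ b := d.l.mv d.c d.h hq (d.QY hq) (fun hc => hn (d.mem_cW.2 hc)) hb

theorem cardN : Nat.card N ≤ fN N (A ⊓ centralizer (W : Set G)) := by
  set A₂ : Subgroup G := A ⊓ centralizer (W : Set G) with hA₂
  have hNW : centralizer (N : Set G) ≤ centralizer (W : Set G) := centralizer_le d.WN
  have e0 : A₂ ⊓ centralizer (N : Set G) = A ⊓ centralizer (N : Set G) :=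
    le_antisymm (inf_le_inf_right _ inf_le_left) (le_inf (le_inf inf_le_left (inf_le_right.trans hNW)) inf_le_right)
  have k2 := card_rel (centralizer (N : Set G)) A₂
  rw [e0] at k2
  have h1 := d.best (A ⊓ centralizer (N : Set G)) inf_le_left
  have e1 : N ⊓ centralizer ((A ⊓ centralizer (N : Set G) : Subgroup G) : Set G) = N := by
    rw [inf_eq_left, le_centralizer_iff]; exact inf_le_right
  rw [e1] at h1
  set k := Nat.card ↥(A ⊓ centralizer (N : Set G)) with hk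
  have h2 := d.tS.four d.WN d.Nc d.AQ d.mvA
  have h3 := d.tS.cardE d.AQ
  refine Nat.le_of_mul_le_mul_left (c := k) ?_ (cpos _)
  rw [fN_def]
  calc k * Nat.card N ≤ Nat.card A * Nat.card ↥(N ⊓ centralizer (A : Set G)) := h1
    _ ≤ 4 * Nat.card A₂ * Nat.card ↥(N ⊓ centralizer (A : Set G)) := Nat.mul_le_mul_right _ h3
    _ = Nat.card A₂ * (4 * Nat.card ↥(N ⊓ centralizer (A : Set G))) := by ring
    _ ≤ Nat.card A₂ * Nat.card ↥(N ⊓ centralizer (A₂ : Set G)) := Nat.mul_le_mul_left _ h2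
    _ = k * ((centralizer (N : Set G)).relIndex A₂ * Nat.card ↥(N ⊓ centralizer (A₂ : Set G))) := by
        rw [← k2]; ring

theorem A₂P : A ⊓ centralizer (W : Set G) ≤ Q ⊓ o2 Y := by
  rw [d.h.PIW d.c]; exact inf_le_inf_right _ d.AQ

/-- **The claim.** -/
theorem claim : A ⊓ centralizer (W : Set G) ≤ centralizer (N : Set G) := by
  by_contra hn
  obtain ⟨m, r, hm1, ⟨E₀, hE₀⟩, hmax, hmin⟩ := exists_Ac d.A₂P hn
  have hm : Nat.card N ≤ m := d.cardN.trans hm1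
  have hcj : ∀ {E : Subgroup G}, Ac (Q ⊓ o2 Y) N m r E → ∀ y ∈ Y, Ac (Q ⊓ o2 Y) N m r (cj y E) :=
    fun hE y hy => hE.cj (d.YN hy) (d.nPI hy)
  obtain ⟨E, hE, hEm⟩ : ∃ E, Ac (Q ⊓ o2 Y) N m r E ∧ ¬ E ≤ centralizer (W₂ : Set G) := by
    by_contra hc
    push Not at hc
    apply hE₀.mv
    have h1 : N ≤ centralizer ((cl E₀ Y : Subgroup G) : Set G) := by
      refine d.gen _ ?_ ?_
      · rw [le_centralizer_iff]
        exact cl_le fun y hy => hc _ (hcj hE₀ y hy)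
      · intro y hy
        rw [mem_normalizer_iff_cj, cj_centralizer, cj_eq_of_mem_normalizer (le_normalizer_cl E₀ Y hy)]
    rw [le_centralizer_iff] at h1
    exact (le_cl E₀ Y).trans h1
  -- (p1)
  have p1 : ∀ {E' : Subgroup G}, Ac (Q ⊓ o2 Y) N m r E' → ¬ E' ≤ centralizer (W₂ : Set G) → ∀ e ∈ E', ∀ n ∈ N,
      e * n * e⁻¹ * n⁻¹ ∈ V j ⊔ F₂ := by
    intro E' hE' hm' e he n hn'
    have hEQ : E' ≤ Q := hE'.le.trans inf_le_left
    have h1 := hE'.bound d.t d.W₂N d.Nc inf_le_left hmax hmin hm hm'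
    obtain ⟨w, hw, x, hx, hxe, rfl⟩ := d.t.sup_eq d.W₂N d.Nc hEQ hm' h1 hn'
    have h2 := d.t.quad e (hEQ he) w hw
    have h3 : e * x * e⁻¹ = x := by rw [hxe e he, mul_inv_cancel_right]
    have h4 : e * (w * x) * e⁻¹ * (w * x)⁻¹ = e * w * e⁻¹ * (e * x * e⁻¹) * x⁻¹ * w⁻¹ := by group
    rw [h4, h3, mul_inv_cancel_right]
    exact h2
  -- (p2)
  obtain ⟨e, he, heW⟩ : ∃ e ∈ E, e ∉ centralizer (W₂ : Set G) := by
    by_contra hc
    push Not at hc
    exact hEm hc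
  have heW' : ¬ ∀ u ∈ W₂, e * u = u * e := fun hc => heW (mem_centralizer_iff.2 fun u hu => (hc u hu).symm)
  have heQ : e ∈ Q := (hE.le he).1
  -- (p3)
  have p3 : ∀ y : Y, ¬ cj (y : G) E ≤ centralizer (W₂ : Set G) → π y 0 = 0 := by
    intro y hy
    by_contra hne
    obtain ⟨w₁, hw₁, hw₁'⟩ := d.t.exists_out
    have hu := d.t.quad e heQ w₁ hw₁
    have huF := d.t.comm_nf heQ hw₁ hw₁' heW'
    obtain ⟨v, hv, f₂, hf₂, hvf⟩ := mem_sup_comm (fun a ha b hb => d.c.xc (d.c.VX j ha) (d.c.VV_X j (d.t.FV hb))) hu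
    have h1 := p1 (hcj hE y y.2) hy ((y : G) * e * (y : G)⁻¹) (mem_cj' he) ((y : G) * w₁ * (y : G)⁻¹)
      (conj_mem (d.YN y.2) (d.W₂N hw₁))
    have h2 : (y : G) * e * (y : G)⁻¹ * ((y : G) * w₁ * (y : G)⁻¹) * ((y : G) * e * (y : G)⁻¹)⁻¹ *
        ((y : G) * w₁ * (y : G)⁻¹)⁻¹ = (y : G) * v * (y : G)⁻¹ * ((y : G) * f₂ * (y : G)⁻¹) := by
      calc _ = (y : G) * (e * w₁ * e⁻¹ * w₁⁻¹) * (y : G)⁻¹ := by group
        _ = _ := by rw [hvf]; group
    rw [h2] at h1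
    have hf2L : (y : G) * f₂ * (y : G)⁻¹ ∈ L := d.c.VV_L j (conj_mem (d.nVV y.2) (d.t.FV hf₂))
    have h3 : (y : G) * v * (y : G)⁻¹ ∈ L := by
      have h4 : V j ⊔ F₂ ≤ L := sup_le (d.c.VL j) (d.t.FV.trans (d.c.VV_L j))
      have h5 := L.mul_mem (h4 h1) (L.inv_mem hf2L)
      rwa [mul_inv_cancel_right] at h5
    have h4 : (y : G) * v * (y : G)⁻¹ ∈ W := conj_mem (d.h.YW y.2) (d.h.VW hv)
    have h5 : (y : G) * v * (y : G)⁻¹ ∈ ℓ 0 := by rw [d.l.z0, ← d.h.WL d.c]; exact ⟨h4, h3⟩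
    have h6 : (y : G) * v * (y : G)⁻¹ ∈ ℓ (π y 0) := by
      rw [← d.l.lc y 0, d.l.z0]
      exact mem_cj' ((le_sup_left : V j ≤ V j ⊔ F) hv)
    have h7 : (y : G) * v * (y : G)⁻¹ ∈ F := by
      rw [← d.l.ld (π y 0) 0 hne]; exact ⟨h6, h5⟩
    have h8 := d.h.cF y.2 h7
    have h9 : v ∈ F := by
      have e1 : (y : G) * v * (y : G)⁻¹ = v := by
        have : (y : G) * ((y : G) * v * (y : G)⁻¹) * (y : G)⁻¹ = (y : G) * v * (y : G)⁻¹ := by
          rw [h8]; group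
        have h10 : (y : G)⁻¹ * ((y : G) * ((y : G) * v * (y : G)⁻¹) * (y : G)⁻¹) * (y : G) =
            (y : G)⁻¹ * ((y : G) * v * (y : G)⁻¹) * (y : G) := by rw [this]
        have e2 : (y : G)⁻¹ * ((y : G) * ((y : G) * v * (y : G)⁻¹) * (y : G)⁻¹) * (y : G) = (y : G) * v * (y : G)⁻¹ := by
          group
        have e3 : (y : G)⁻¹ * ((y : G) * v * (y : G)⁻¹) * (y : G) = v := by group
        rwa [e2, e3] at h10
      rwa [e1] at h7
    have h10 : v ∈ V j ⊓ F := ⟨hv, h9⟩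
    rw [d.h.VjF_bot d.c, mem_bot] at h10
    apply huF
    rw [hvf, h10, one_mul]; exact hf₂
  -- (p4)
  obtain ⟨w₁, hw₁, hne⟩ : ∃ w₁ ∈ W₂, e * w₁ ≠ w₁ * e := by
    by_contra hc
    push Not at hc
    exact heW' hc
  obtain ⟨y, hy⟩ := d.l.tr 1
  have p4 : ∀ t : Y, π t 1 ≠ 1 → Commute ((y : G) * e * (y : G)⁻¹) ((t : G) * ((y : G) * w₁ * (y : G)⁻¹) * (t : G)⁻¹) := by
    intro t ht
    have h1 : cj (((t * y)⁻¹ * y : Y) : G) E ≤ centralizer (W₂ : Set G) := by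
      by_contra hc
      have h2 := p3 ((t * y)⁻¹ * y) hc
      apply ht
      rw [map_mul, map_inv, Equiv.Perm.mul_apply, hy, Equiv.Perm.inv_eq_iff_eq, map_mul, Equiv.Perm.mul_apply, hy] at h2
      exact h2.symm
    have h2 := mem_centralizer_iff.1 (h1 (mem_cj' he)) w₁ hw₁
    have e1 : ((((t * y)⁻¹ * y : Y) : G)) = ((t : G) * (y : G))⁻¹ * (y : G) := rfl
    rw [e1] at h2
    change (y : G) * e * (y : G)⁻¹ * ((t : G) * ((y : G) * w₁ * (y : G)⁻¹) * (t : G)⁻¹) =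
      (t : G) * ((y : G) * w₁ * (y : G)⁻¹) * (t : G)⁻¹ * ((y : G) * e * (y : G)⁻¹)
    calc (y : G) * e * (y : G)⁻¹ * ((t : G) * ((y : G) * w₁ * (y : G)⁻¹) * (t : G)⁻¹)
        = (t : G) * (y : G) * ((((t : G) * (y : G))⁻¹ * (y : G) * e * (((t : G) * (y : G))⁻¹ * (y : G))⁻¹) * w₁) *
          ((t : G) * (y : G))⁻¹ := by group
      _ = (t : G) * (y : G) * (w₁ * (((t : G) * (y : G))⁻¹ * (y : G) * e * (((t : G) * (y : G))⁻¹ * (y : G))⁻¹)) *
          ((t : G) * (y : G))⁻¹ := by rw [h2]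
      _ = _ := by group
  obtain ⟨a, ha, b, hb, haW, hbW, hbaW⟩ := d.exists_ab
  have q1 := p4 ⟨a, d.AY ha⟩ (d.mvl (d.AQ ha) haW (by decide))
  have q2 := p4 ⟨b, d.AY hb⟩ (d.mvl (d.AQ hb) hbW (by decide))
  have q3 := p4 ⟨b * a, d.AY (mul_mem hb ha)⟩ (d.mvl (d.AQ (mul_mem hb ha)) hbaW (by decide))
  simp only at q1 q2 q3
  set n : G := (y : G) * w₁ * (y : G)⁻¹ with hn_def
  have hnN : n ∈ N := conj_mem (d.YN y.2) (d.W₂N hw₁)
  have q4 := d.quad n hnN a ha b hb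
  have q5 : n⁻¹ = (a * n * a⁻¹)⁻¹ * ((b * a) * n * (b * a)⁻¹) * (b * n * b⁻¹)⁻¹ := by
    have e1 : (b * a) * n * (b * a)⁻¹ * (b * n * b⁻¹)⁻¹ = b * (a * n * a⁻¹ * n⁻¹) * b⁻¹ := by group
    have e2 : b * (a * n * a⁻¹ * n⁻¹) * b⁻¹ = a * n * a⁻¹ * n⁻¹ := by rw [q4, mul_inv_cancel_right]
    rw [mul_assoc, e1, e2]; group
  have q6 : Commute ((y : G) * e * (y : G)⁻¹) n⁻¹ := by
    rw [q5]
    exact (q1.inv_right.mul_right q3).mul_right q2.inv_right
  have q7 : Commute ((y : G) * e * (y : G)⁻¹) n := by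
    have := q6.inv_right
    rwa [inv_inv] at this
  apply hne
  have q8 : (y : G)⁻¹ * ((y : G) * e * (y : G)⁻¹ * ((y : G) * w₁ * (y : G)⁻¹)) * (y : G) =
      (y : G)⁻¹ * ((y : G) * w₁ * (y : G)⁻¹ * ((y : G) * e * (y : G)⁻¹)) * (y : G) := by
    rw [show (y : G) * e * (y : G)⁻¹ * ((y : G) * w₁ * (y : G)⁻¹) = (y : G) * w₁ * (y : G)⁻¹ * ((y : G) * e * (y : G)⁻¹)
      from q7]
  have e3 : (y : G)⁻¹ * ((y : G) * e * (y : G)⁻¹ * ((y : G) * w₁ * (y : G)⁻¹)) * (y : G) = e * w₁ := by group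
  have e4 : (y : G)⁻¹ * ((y : G) * w₁ * (y : G)⁻¹ * ((y : G) * e * (y : G)⁻¹)) * (y : G) = w₁ * e := by group
  rwa [e3, e4] at q8

theorem cardN4 : Nat.card N ≤ 4 * Nat.card ↥(N ⊓ centralizer (A : Set G)) := by
  have h1 := d.best (A ⊓ centralizer (W : Set G)) inf_le_left
  have e1 : N ⊓ centralizer ((A ⊓ centralizer (W : Set G) : Subgroup G) : Set G) = N := by
    rw [inf_eq_left, le_centralizer_iff]; exact d.claim
  rw [e1] at h1
  have h3 := d.tS.cardE d.AQ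
  refine Nat.le_of_mul_le_mul_left (c := Nat.card ↥(A ⊓ centralizer (W : Set G))) ?_ (cpos _)
  calc _ ≤ Nat.card A * Nat.card ↥(N ⊓ centralizer (A : Set G)) := h1
    _ ≤ 4 * Nat.card ↥(A ⊓ centralizer (W : Set G)) * Nat.card ↥(N ⊓ centralizer (A : Set G)) :=
        Nat.mul_le_mul_right _ h3
    _ = _ := by ring

/-- `N = W C_N(A)` -/
theorem split {n : G} (hn : n ∈ N) : ∃ w ∈ W, ∃ x ∈ N, (∀ a ∈ A, a * x = x * a) ∧ n = w * x :=
  d.tS.sup_eq d.WN d.Nc d.AQ d.mvA d.cardN4 hn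

theorem comm_A {a n : G} (ha : a ∈ A) (hn : n ∈ N) : a * n * a⁻¹ * n⁻¹ ∈ W := by
  obtain ⟨w, hw, x, hx, hxa, rfl⟩ := d.split hn
  have h3 : a * x * a⁻¹ = x := by rw [hxa a ha, mul_inv_cancel_right]
  have h4 : a * (w * x) * a⁻¹ * (w * x)⁻¹ = a * w * a⁻¹ * (a * x * a⁻¹) * x⁻¹ * w⁻¹ := by group
  rw [h4, h3, mul_inv_cancel_right]
  exact d.h.VF_W (d.h.quad a (d.AQ ha) w hw)

theorem K_le : cl A Y ≤ Y := cl_le fun y hy => by
  have h1 := cj_mono y d.AY
  rwa [cj_eq_of_mem_normalizer (le_normalizer hy)] at h1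

theorem K_cq : cl A Y ≤ cq N W := cl_le fun y hy => by
  rintro _ ⟨a, ha, rfl⟩
  have haY := d.AY ha
  simp only [MulEquiv.toMonoidHom_eq_coe, MonoidHom.coe_coe, MulAut.conj_apply]
  have h1 : y * a * y⁻¹ ∈ Y := Y.mul_mem (Y.mul_mem hy haY) (Y.inv_mem hy)
  refine ⟨d.YN h1, d.h.YW h1, fun x hx => ?_⟩
  have h2 : y⁻¹ * x * y ∈ N := by
    have := conj_mem (inv_mem (d.YN hy)) hx
    rwa [inv_inv] at this
  have h3 := conj_mem (d.h.YW hy) (d.comm_A ha h2)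
  have e : y * a * y⁻¹ * x * (y * a * y⁻¹)⁻¹ * x⁻¹ = y * (a * (y⁻¹ * x * y) * a⁻¹ * (y⁻¹ * x * y)⁻¹) * y⁻¹ := by group
  rw [e]; exact h3

/-- `[N, K] ≤ W` -/
theorem comm_K {k n : G} (hk : k ∈ cl A Y) (hn : n ∈ N) : k * n * k⁻¹ * n⁻¹ ∈ W := (d.K_cq hk).2.2 n hn

theorem K_VV {k x : G} (hk : k ∈ cl A Y) (hx : x ∈ VV V j) : k * x = x * k := by
  have h1 : cl A Y ≤ centralizer ((VV V j : Subgroup G) : Set G) := cl_le fun y hy => by
    have h2 : A ≤ centralizer ((VV V j : Subgroup G) : Set G) := fun a ha =>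
      mem_centralizer_iff.2 fun v hv => (d.c.cQL a (d.AQ ha) v (d.c.VV_L j hv)).symm
    have h3 := cj_mono y h2
    rwa [cj_centralizer, cj_eq_of_mem_normalizer (d.nVV hy)] at h3
  exact (mem_centralizer_iff.1 (h1 hk) x hx).symm

/-- `K ∩ O₂(Y) ≤ Q` -/
theorem K0_Q {k : G} (hk : k ∈ cl A Y) (hk2 : k ∈ o2 Y) : k ∈ Q := by
  refine d.c.cSL k (d.c.BS (d.h.o2B d.c hk2)) fun x hx => ?_
  obtain ⟨v, hv, v', hv', rfl⟩ := d.c.split j hx
  have h1 : k * v = v * k := (mem_centralizer_iff.1 (d.h.o2_cW d.c hk2) v (d.h.VW hv)).symm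
  have h2 := d.K_VV hk hv'
  rw [← mul_assoc, h1, mul_assoc, h2, mul_assoc]

/-- some element of `K` moves the line `V_j F` -/
theorem exists_k : ∃ k : Y, (k : G) ∈ cl A Y ∧ π k 0 ≠ 0 := by
  obtain ⟨a, ha, -, -, haW, -, -⟩ := d.exists_ab
  obtain ⟨y, hy⟩ := d.l.tr 1
  refine ⟨y * ⟨a, d.AY ha⟩ * y⁻¹, cj_le_cl y.2 (mem_cj' ha), fun h1 => ?_⟩
  have h2 := d.mvl (d.AQ ha) haW (b := (π y)⁻¹ 0) (fun h3 => by
    rw [Equiv.Perm.inv_eq_iff_eq, hy] at h3
    exact absurd h3 (by decide))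
  apply h2
  rw [map_mul, map_mul, map_inv, Equiv.Perm.mul_apply, Equiv.Perm.mul_apply] at h1
  rw [Equiv.Perm.eq_inv_iff_eq]
  exact h1

/-- an element of `V_j F` all whose `K`-conjugates lie in `V_j F` is in `F` -/
theorem mem_F {u : G} (hu : u ∈ V j ⊔ F) (hk : ∀ k ∈ cl A Y, k * u * k⁻¹ ∈ V j ⊔ F) : u ∈ F := by
  obtain ⟨k, hkK, hk0⟩ := d.exists_k
  have h1 : (k : G) * u * (k : G)⁻¹ ∈ ℓ (π k 0) := by
    rw [← d.l.lc k 0, d.l.z0]; exact mem_cj' hu
  have h2 : (k : G) * u * (k : G)⁻¹ ∈ F := by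
    rw [← d.l.ld (π k 0) 0 hk0]
    exact ⟨h1, by rw [d.l.z0]; exact hk k hkK⟩
  have h3 := d.h.cF (inv_mem k.2) h2
  have h4 : (k : G)⁻¹ * ((k : G) * u * (k : G)⁻¹) * (k : G) = u := by group
  rw [← h4, h3, inv_mul_cancel_right]
  exact h2

/-- `K ∩ O₂(Y)` centralises `W₂` -/
theorem K0_W2 {x : G} (hx : x ∈ cl A Y) (hx2 : x ∈ o2 Y) : ∀ u ∈ W₂, x * u = u * x := by
  have key : ∀ w ∈ W₂, x * w * x⁻¹ * w⁻¹ ∈ F₂ := by
    intro w hw
    have hxQ := d.K0_Q hx hx2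
    have hWL : ∀ x' ∈ cl A Y, x' ∈ o2 Y → x' * w * x'⁻¹ * w⁻¹ ∈ V j ⊔ F := by
      intro x' hx' hx2'
      have h1 := d.t.quad x' (d.K0_Q hx' hx2') w hw
      have h2 : V j ⊔ F₂ ≤ L := sup_le (d.c.VL j) (d.t.FV.trans (d.c.VV_L j))
      rw [← d.h.WL d.c]
      exact ⟨d.comm_K hx' (d.W₂N hw), h2 h1⟩
    have h1 : x * w * x⁻¹ * w⁻¹ ∈ F := by
      refine d.mem_F (hWL x hx hx2) fun k hk => ?_
      have hkY := d.K_le hk
      have h2 : k * x * k⁻¹ ∈ cl A Y := mul_mem (mul_mem hk hx) (inv_mem hk)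
      have h3 : k * x * k⁻¹ ∈ o2 Y := conj_mem (ChoiceSit.le_normalizer_o2 Y hkY) hx2
      have h4 := hWL _ h2 h3
      have h5 : k * w * k⁻¹ * w⁻¹ ∈ W := d.comm_K hk (d.W₂N hw)
      have h6 : k * x * k⁻¹ * (k * w * k⁻¹ * w⁻¹) = k * w * k⁻¹ * w⁻¹ * (k * x * k⁻¹) :=
        (mem_centralizer_iff.1 (d.h.o2_cW d.c h3) _ h5).symm
      have e1 : k * (x * w * x⁻¹ * w⁻¹) * k⁻¹ =
          (k * x * k⁻¹ * (k * w * k⁻¹ * w⁻¹) * (k * x * k⁻¹)⁻¹) * ((k * x * k⁻¹) * w * (k * x * k⁻¹)⁻¹ * w⁻¹) *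
            (k * w * k⁻¹ * w⁻¹)⁻¹ := by group
      have h7 : k * w * k⁻¹ * w⁻¹ ∈ X := d.h.WX h5
      have h8 : (k * x * k⁻¹) * w * (k * x * k⁻¹)⁻¹ * w⁻¹ ∈ X := d.h.WX (d.h.VF_W h4)
      rw [e1, h6, mul_inv_cancel_right, d.c.xc h7 h8, mul_inv_cancel_right]
      exact h4
    obtain ⟨v, hv, f, hf, hvf⟩ := mem_sup_comm (fun a ha b hb => d.c.xc (d.c.VX j ha) (d.c.VV_X j (d.t.FV hb)))
      (d.t.quad x hxQ w hw)
    have h2 : v ∈ VV V j := by
      have h3 := (VV V j).mul_mem (d.h.F_VV d.c h1) ((VV V j).inv_mem (d.t.FV hf))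
      rwa [hvf, mul_inv_cancel_right] at h3
    have h3 : v ∈ V j ⊓ VV V j := ⟨hv, h2⟩
    rw [d.c.ind j, mem_bot] at h3
    rw [hvf, h3, one_mul]; exact hf
  obtain ⟨w₁, hw₁, hw₁'⟩ := d.t.exists_out
  exact d.t.free x (d.K0_Q hx hx2) w₁ hw₁ hw₁' (key w₁ hw₁)

omit d in
theorem sign_inv : ∀ σ : Equiv.Perm (Fin 5), σ * σ = 1 → σ 0 = 0 → (∀ b, b ≠ 0 → σ b ≠ b) → Equiv.Perm.sign σ = 1 := by
  decide +kernel

omit d in
theorem cube : ∀ σ : Equiv.Perm (Fin 5), Equiv.Perm.sign σ = 1 → σ 0 = 0 → σ 1 = 1 → σ ^ 3 = 1 := by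
  decide +kernel

omit d in
theorem pig : ∀ p a b c : Fin 5, p ≠ 0 → a ≠ 0 → b ≠ 0 → c ≠ 0 → a ≠ 1 → b ≠ 1 → c ≠ 1 → a ≠ b → a ≠ c → b ≠ c →
    p = 1 ∨ p = a ∨ p = b ∨ p = c := by decide +kernel

/-- `a²` centralises `W` -/
theorem sq_cW {a : G} (ha : a ∈ A) : a * a ∈ centralizer (W : Set G) := by
  rw [d.mem_cW]
  intro w hw
  have h1 := d.h.quad a (d.AQ ha) w hw
  have h2 : a * w * a⁻¹ * w⁻¹ ∈ L := d.h.VF_L d.c h1
  have h3 := d.c.cQL a (d.AQ ha) _ h2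
  have h4 := d.c.Xs _ (d.c.LX h2)
  set u := a * w * a⁻¹ * w⁻¹ with hu
  have h5 : a * w * a⁻¹ = u * w := by rw [hu]; group
  have h6 : a * a * w * (a * a)⁻¹ = w := by
    calc a * a * w * (a * a)⁻¹ = a * (a * w * a⁻¹) * a⁻¹ := by group
      _ = a * (u * w) * a⁻¹ := by rw [h5]
      _ = a * u * a⁻¹ * (a * w * a⁻¹) := by group
      _ = u * (u * w) := by rw [h3, mul_inv_cancel_right, h5]
      _ = w := by rw [← mul_assoc, h4, one_mul]
  exact mul_inv_eq_iff_eq_mul.1 h6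

theorem sign_A {a : G} (ha : a ∈ A) : Equiv.Perm.sign (π ⟨a, d.AY ha⟩) = 1 := by
  by_cases h1 : a ∈ centralizer (W : Set G)
  · rw [d.l.triv d.c d.h (d.AY ha) (d.mem_cW.1 h1), map_one]
  · refine sign_inv _ ?_ (d.l.fix0 d.c d.h (d.c.QB (d.AQ ha)) (d.AY ha)) fun b hb => d.mvl (d.AQ ha) h1 hb
    have h2 := d.l.triv d.c d.h (d.AY (mul_mem ha ha)) (d.mem_cW.1 (d.sq_cW ha))
    rw [← map_mul]; exact h2

theorem sign_K {k : G} (hk : k ∈ cl A Y) (hkY : k ∈ Y) : Equiv.Perm.sign (π ⟨k, hkY⟩) = 1 := by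
  have h1 : cl A Y ≤ ((alternatingGroup (Fin 5)).comap π).map Y.subtype := cl_le fun y hy => by
    rintro _ ⟨a, ha, rfl⟩
    simp only [MulEquiv.toMonoidHom_eq_coe, MonoidHom.coe_coe, MulAut.conj_apply]
    refine ⟨⟨y, hy⟩ * ⟨a, d.AY ha⟩ * ⟨y, hy⟩⁻¹, ?_, rfl⟩
    change π _ ∈ alternatingGroup (Fin 5)
    rw [Equiv.Perm.mem_alternatingGroup, map_mul, map_mul, map_inv, map_mul, map_mul, map_inv, d.sign_A ha, mul_one,
      mul_inv_cancel]
  obtain ⟨y, hy, he⟩ := h1 hk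
  have e : y = ⟨k, hkY⟩ := Subtype.ext he
  rw [← e]
  exact Equiv.Perm.mem_alternatingGroup.1 hy

/-- `A` is transitive on the four lines `≠ V_j F` -/
theorem exists_a {x : G} (hxB : x ∈ B) (hxY : x ∈ Y) :
    ∃ (a : G) (ha : a ∈ A), π ⟨x, hxY⟩ 1 = π ⟨a, d.AY ha⟩ 1 := by
  obtain ⟨a, ha, b, hb, haW, hbW, hbaW⟩ := d.exists_ab
  have f0 : ∀ {y : G} (hy : y ∈ A), π ⟨y, d.AY hy⟩ 0 = 0 := fun hy => d.l.fix0 d.c d.h (d.c.QB (d.AQ hy)) (d.AY hy)
  have fx : π ⟨x, hxY⟩ 0 = 0 := d.l.fix0 d.c d.h hxB hxY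
  have m1 : ∀ {y : G} (hy : y ∈ A), y ∉ centralizer (W : Set G) → ∀ b : Fin 5, b ≠ 0 → π ⟨y, d.AY hy⟩ b ≠ b :=
    fun hy hn b hb => d.mvl (d.AQ hy) hn hb
  have n0 : ∀ {y : G} (hy : y ∈ A), π ⟨y, d.AY hy⟩ 1 ≠ 0 := fun hy e => by
    rw [← f0 hy] at e
    exact absurd ((π ⟨_, d.AY hy⟩).injective e) (by decide)
  have nx : π ⟨x, hxY⟩ 1 ≠ 0 := fun e => by
    rw [← fx] at e
    exact absurd ((π ⟨x, hxY⟩).injective e) (by decide)
  have hba : b * a ∈ A := mul_mem hb ha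
  have hbi : b⁻¹ ∈ A := inv_mem hb
  have c1 : π ⟨a, d.AY ha⟩ 1 ≠ π ⟨b, d.AY hb⟩ 1 := by
    intro e
    have h1 : b⁻¹ * a ∉ centralizer (W : Set G) := fun hc => hbaW (by
      have h2 := mul_mem (d.sq_cW hb) hc
      have e2 : b * b * (b⁻¹ * a) = b * a := by group
      rwa [e2] at h2)
    apply m1 (mul_mem hbi ha) h1 1 (by decide)
    have e3 : (⟨b⁻¹ * a, d.AY (mul_mem hbi ha)⟩ : Y) = (⟨b, d.AY hb⟩ : Y)⁻¹ * ⟨a, d.AY ha⟩ := rfl
    rw [e3, map_mul, map_inv, Equiv.Perm.mul_apply, e, Equiv.Perm.inv_eq_iff_eq]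
  have c2 : π ⟨b, d.AY hb⟩ 1 ≠ π ⟨b * a, d.AY hba⟩ 1 := by
    intro e
    apply m1 ha haW 1 (by decide)
    have e3 : (⟨b * a, d.AY hba⟩ : Y) = (⟨b, d.AY hb⟩ : Y) * ⟨a, d.AY ha⟩ := rfl
    rw [e3, map_mul, Equiv.Perm.mul_apply] at e
    exact ((π ⟨b, d.AY hb⟩).injective e).symm
  have c3 : π ⟨a, d.AY ha⟩ 1 ≠ π ⟨b * a, d.AY hba⟩ 1 := by
    intro e
    apply m1 hb hbW (π ⟨a, d.AY ha⟩ 1) (n0 ha)
    have e3 : (⟨b * a, d.AY hba⟩ : Y) = (⟨b, d.AY hb⟩ : Y) * ⟨a, d.AY ha⟩ := rfl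
    rw [e3, map_mul, Equiv.Perm.mul_apply] at e
    exact e.symm
  rcases pig _ _ _ _ nx (n0 ha) (n0 hb) (n0 hba) (m1 ha haW 1 (by decide)) (m1 hb hbW 1 (by decide))
    (m1 hba hbaW 1 (by decide)) c1 c3 c2 with e | e | e | e
  · refine ⟨1, one_mem _, ?_⟩
    have h9 : π ⟨1, d.AY (one_mem _)⟩ = 1 := map_one π
    rw [e, h9]; rfl
  · exact ⟨a, ha, e⟩
  · exact ⟨b, hb, e⟩
  · exact ⟨b * a, hba, e⟩

theorem fix1 {x y : G} {hxY : x ∈ Y} {hyY : y ∈ Y} (e : π ⟨x, hxY⟩ 1 = π ⟨y, hyY⟩ 1) (h2 : y⁻¹ * x ∈ Y) :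
    π ⟨y⁻¹ * x, h2⟩ 1 = 1 := by
  have e3 : (⟨y⁻¹ * x, h2⟩ : Y) = (⟨y, hyY⟩ : Y)⁻¹ * ⟨x, hxY⟩ := rfl
  rw [e3, map_mul, map_inv, Equiv.Perm.mul_apply, e, Equiv.Perm.inv_eq_iff_eq]

/-- **`B ∩ K = A (K ∩ O₂(Y))`** -/
theorem BK {x : G} (hx : x ∈ cl A Y) (hxB : x ∈ B) : ∃ a ∈ A, a⁻¹ * x ∈ cl A Y ∧ a⁻¹ * x ∈ o2 Y := by
  obtain ⟨y, hy, e⟩ := d.exists_a hxB (d.K_le hx)
  refine ⟨y, hy, ?_⟩
  have h1 : y⁻¹ * x ∈ cl A Y := mul_mem (inv_mem (le_cl A Y hy)) hx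
  have h2 := d.K_le h1
  have hyB : y⁻¹ * x ∈ B := mul_mem (inv_mem (d.c.QB (d.AQ hy))) hxB
  have g1 := d.fix1 e h2
  have g0 := d.l.fix0 d.c d.h hyB h2
  have g3 := cube _ (d.sign_K h1 h2) g0 g1
  obtain ⟨k, hk⟩ := (IsPGroup.iff_orderOf.1 d.c.B2) ⟨y⁻¹ * x, hyB⟩
  have g4 : orderOf (y⁻¹ * x) = 2 ^ k := by rw [← hk, ← Subgroup.orderOf_coe]
  have g5 : orderOf (π ⟨y⁻¹ * x, h2⟩) ∣ 2 ^ k := by
    rw [← g4]
    have := orderOf_map_dvd π (⟨y⁻¹ * x, h2⟩ : Y)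
    rwa [← Subgroup.orderOf_coe] at this
  have g6 : orderOf (π ⟨y⁻¹ * x, h2⟩) ∣ 3 := orderOf_dvd_of_pow_eq_one g3
  have g7 : orderOf (π ⟨y⁻¹ * x, h2⟩) = 1 :=
    Nat.eq_one_of_dvd_coprimes (Nat.Coprime.pow_left k (by norm_num)) g5 g6
  rw [orderOf_eq_one_iff] at g7
  exact ⟨h1, d.h.mem_o2_of d.c hyB (d.l.ker _ g7)⟩

/-- `Q = A C_Q(W)` -/
theorem Q_eq {q : G} (hq : q ∈ Q) : ∃ a ∈ A, a⁻¹ * q ∈ Q ⊓ o2 Y := by
  obtain ⟨a, ha, e⟩ := d.exists_a (d.c.QB hq) (d.QY hq)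
  have h1 : a⁻¹ * q ∈ Q := mul_mem (inv_mem (d.AQ ha)) hq
  refine ⟨a, ha, ?_⟩
  rw [d.h.PIW d.c]
  refine ⟨h1, ?_⟩
  by_contra hc
  exact d.mvl h1 hc (b := 1) (by decide) (d.fix1 e _)

theorem K_norm : Y ≤ normalizer ((cl A Y : Subgroup G) : Set G) := le_normalizer_cl A Y

/-- `B` has odd index in `K` -/
theorem oddBK : ¬ 2 ∣ B.relIndex (cl A Y) := by
  have hs := d.h.syl d.c
  have h2 : IsPGroup 2 (B ⊓ cl A Y : Subgroup G) := d.c.B2.to_le inf_le_left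
  obtain ⟨T, hT, hle⟩ := ChoiceSit.exists_syl h2 (inf_le_right : B ⊓ cl A Y ≤ cl A Y)
  obtain ⟨T', hT', hTT'⟩ := ChoiceSit.exists_syl hT.2.1 (hT.1.trans d.K_le)
  obtain ⟨y, hy, he⟩ := ChoiceSit.syl_conj hs hT'
  have h3 : T ≤ cj y (B ⊓ cl A Y) := by
    rw [cj_inf, he, cj_eq_of_mem_normalizer (d.K_norm hy)]
    exact le_inf hTT' hT.1
  have h4 : B ⊓ cl A Y = T := eq_of_le_of_card_ge hle (by
    have := card_mono h3
    rwa [card_cj] at this)
  have h5 := ChoiceSit.syl_not_dvd hT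
  rwa [← h4, inf_relIndex_right] at h5

/-- **(2)** -/
theorem le_WL : W₂ ≤ W ⊔ L := by
  -- `n ∈ C(K)`
  have key : ∀ w' ∈ W₂, ∃ n ∈ X, (∀ k ∈ cl A Y, k * n = n * k) ∧ ∃ w ∈ W, w' = w * n := by
    intro w' hw'
    obtain ⟨w, hw, x, hx, hxA, he⟩ := d.split (d.W₂N hw')
    have hxK : ∀ y ∈ cl A Y, y ∈ o2 Y → y * x = x * y := by
      intro y hy hy2
      have h1 : x = w⁻¹ * w' := by rw [he]; group
      have h2 : y * w = w * y := (mem_centralizer_iff.1 (d.h.o2_cW d.c hy2) w hw).symm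
      have h3 := d.K0_W2 hy hy2 w' hw'
      rw [h1]
      exact ((show Commute y w from h2).inv_right.mul_right h3).eq
    have hB : ∀ b ∈ B, b ∈ cl A Y → b * x * b⁻¹ * x⁻¹ ∈ (⊥ : Subgroup G) := by
      intro b hb hbK
      obtain ⟨a, ha, h1, h2⟩ := d.BK hbK hb
      rw [mem_bot, comm_iff]
      have h3 := hxK _ h1 h2
      have h4 : Commute b x := by
        have e : b = a * (a⁻¹ * b) := by group
        rw [e]
        exact (show Commute a x from hxA a ha).mul_left h3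
      exact h4.eq
    obtain ⟨n, hn, h1, h2⟩ := SFiveB.exists_norm (A := X) (W := W) (Λ := ⊥) (Y := cl A Y) (B := B) d.c.Xc d.c.Xs
      (d.K_le.trans (d.h.YM.trans d.c.MX)) (by rw [normalizer_eq_top_iff.2 inferInstance]; exact le_top) d.oddBK
      (d.NX hx) hB (fun y hy => d.comm_K hy hx)
    refine ⟨n, hn, fun k hk => comm_iff.1 (by simpa using h1 k hk), w * (n * x⁻¹)⁻¹, mul_mem hw (inv_mem h2), ?_⟩
    rw [he]; group
  -- `PI` centralises `W₂`
  have hPI : ∀ q ∈ Q ⊓ o2 Y, ∀ u ∈ W₂, q * u = u * q := by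
    intro q hq
    obtain ⟨w₁, hw₁, hw₁'⟩ := d.t.exists_out
    refine d.t.free q hq.1 w₁ hw₁ hw₁' ?_
    obtain ⟨n, hn, hnK, w, hw, he⟩ := key w₁ hw₁
    have hqY := d.QY hq.1
    have h1 : q * w₁ * q⁻¹ * w₁⁻¹ = q * n * q⁻¹ * n⁻¹ := by
      have h2 : q * w * q⁻¹ = w := by
        rw [(mem_centralizer_iff.1 (d.h.o2_cW d.c hq.2) w hw).symm, mul_inv_cancel_right]
      have h3 : q * n * q⁻¹ * n⁻¹ ∈ X := X.mul_mem (conj_mem (d.c.SX (d.c.QS hq.1)) hn) (X.inv_mem hn)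
      have h4 := d.c.xc (d.h.WX hw) h3
      calc q * w₁ * q⁻¹ * w₁⁻¹ = q * w * q⁻¹ * (q * n * q⁻¹ * n⁻¹) * w⁻¹ := by rw [he]; group
        _ = q * n * q⁻¹ * n⁻¹ := by rw [h2, h4, mul_inv_cancel_right]
    have h2 := d.t.quad q hq.1 w₁ hw₁
    obtain ⟨v, hv, f, hf, hvf⟩ := mem_sup_comm (fun a ha b hb => d.c.xc (d.c.VX j ha) (d.c.VV_X j (d.t.FV hb))) h2
    -- `[q, n]` is centralised by `K`
    have h3 : ∀ k ∈ cl A Y, k * (q * n * q⁻¹ * n⁻¹) = q * n * q⁻¹ * n⁻¹ * k := by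
      intro k hk
      have h4 : q⁻¹ * k * q ∈ cl A Y := by
        have := conj_mem (inv_mem (d.K_norm hqY)) hk
        rwa [inv_inv] at this
      have h5 : Commute k (q * n * q⁻¹) := by
        have h6 := hnK _ h4
        change k * (q * n * q⁻¹) = q * n * q⁻¹ * k
        calc k * (q * n * q⁻¹) = q * ((q⁻¹ * k * q) * n) * q⁻¹ := by group
          _ = q * (n * (q⁻¹ * k * q)) * q⁻¹ := by rw [h6]
          _ = _ := by group
      exact (h5.mul_right (show Commute k n from hnK k hk).inv_right).eq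
    have h4 : ∀ k ∈ cl A Y, k * v = v * k := by
      intro k hk
      have e : v = (q * n * q⁻¹ * n⁻¹) * f⁻¹ := by rw [← h1, hvf]; group
      rw [e]
      exact ((show Commute k _ from h3 k hk).mul_right
        (show Commute k f from d.K_VV hk (d.t.FV hf)).inv_right).eq
    have h5 : v ∈ F := d.mem_F ((le_sup_left : V j ≤ V j ⊔ F) hv) fun k hk => by
      rw [h4 k hk, mul_inv_cancel_right]
      exact (le_sup_left : V j ≤ V j ⊔ F) hv
    have h6 : v ∈ V j ⊓ F := ⟨hv, h5⟩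
    rw [d.h.VjF_bot d.c, mem_bot] at h6
    rw [hvf, h6, one_mul]; exact hf
  intro w' hw'
  obtain ⟨n, hn, hnK, w, hw, he⟩ := key w' hw'
  have h1 : n ∈ L := by
    refine d.c.cXQ n hn ?_
    -- `Q = A PI`
    intro q hq
    obtain ⟨a, ha, h3⟩ := d.Q_eq hq
    have h2 : a⁻¹ * q ∈ centralizer (W : Set G) := by
      rw [d.h.PIW d.c] at h3; exact h3.2
    have h4 : Commute (a⁻¹ * q) n := by
      have e : n = w⁻¹ * w' := by rw [he]; group
      rw [e]
      exact ((show Commute (a⁻¹ * q) w from d.mem_cW.1 h2 w hw).inv_right).mul_right (hPI _ h3 w' hw')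
    have h5 : Commute a n := hnK a (le_cl A Y ha)
    have e : q = a * (a⁻¹ * q) := by group
    rw [e]
    exact (h5.mul_left h4).eq
  rw [he]
  exact mul_mem ((le_sup_left : W ≤ W ⊔ L) hw) ((le_sup_right : L ≤ W ⊔ L) h1)

end Da

/-- `N(D)` normalises `O₂(C_G(D))` -/
theorem cj_oc {D : Subgroup G} {n : G} (hn : n ∈ normalizer (D : Set G)) :
    cj n (o2 (centralizer (D : Set G))) = o2 (centralizer (D : Set G)) := by
  rw [← ChoiceSit.o2_cj, cj_centralizer, cj_eq_of_mem_normalizer hn]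

/-- `V_P ≤ O₂(C_G(V_(j)))`, `k ≥ 2` -/
theorem L_le_oc (c : Cx S B Q M X L V z) (hne : ∃ i, i ≠ j) :
    L ≤ o2 (centralizer ((VV V j : Subgroup G) : Set G)) := by
  obtain ⟨i, hi⟩ := hne
  have h1 : centralizer ((VV V j : Subgroup G) : Set G) ≤ centralizer ({z i} : Set G) := by
    refine centralizer_le ?_
    rintro x hx
    rw [Set.mem_singleton_iff.1 hx]
    exact c.V_VV hi (c.zV i)
  have h2 : L ≤ centralizer ((VV V j : Subgroup G) : Set G) := fun l hl =>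
    mem_centralizer_iff.2 fun x hx => c.xc (c.VV_X j hx) (c.LX hl)
  have h3 : L ≤ o2 (centralizer ({z i} : Set G)) ⊓ centralizer ((VV V j : Subgroup G) : Set G) := le_inf (c.LO i) h2
  refine h3.trans (ChoiceSit.le_o2 ((ChoiceSit.isPGroup_o2 _).to_le inf_le_left) inf_le_right ?_)
  intro g hg
  refine mem_normalizer_of_cj_le ?_
  rw [cj_inf, cj_eq_of_mem_normalizer (le_normalizer hg),
    cj_eq_of_mem_normalizer (ChoiceSit.le_normalizer_o2 _ (h1 hg))]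

/-- **TOR, (2)**: `W^g ≤ W L` for `g ∈ N_M(Q) ∩ N(V_j)`. -/
theorem uni (c : Cx S B Q M X L V z) (o : Off S Q M X L 𝓦) (h : TY S B Q M X V z 𝓦 j Y W F)
    (hne : ∃ i, i ≠ j) (hc : oddGen Y ≤ centralizer (VV V j : Set G)) :
    ∀ g ∈ M, g ∈ normalizer (Q : Set G) → cj g (V j) = V j → cj g W ≤ W ⊔ L := by
  classical
  intro g hgM hgQ hgV
  obtain ⟨ℓ, π, h0, hW, hi, hcl, hA5, hk⟩ := h.act
  have l : Ln (V j) W F Y ℓ π := ⟨h0, hW, hi, hcl, hA5, hk⟩
  have nVV : Y ≤ normalizer ((VV V j : Subgroup G) : Set G) := by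
    have h1 : oddGen Y ⊔ B ≤ normalizer ((VV V j : Subgroup G) : Set G) :=
      sup_le (hc.trans (centralizer_le_normalizer _)) fun b hb => c.norm_VV' (c.BQ hb) (c.BVj hb)
    rwa [h.oddB c] at h1
  have ePI : Q ⊓ o2 Y = o2 Y ⊓ centralizer ((VV V j : Subgroup G) : Set G) := by
    refine le_antisymm ?_ ?_
    · rintro x ⟨hx, hx2⟩
      exact ⟨hx2, mem_centralizer_iff.2 fun v hv => (c.cQL x hx v (c.VV_L j hv)).symm⟩
    · rintro x ⟨hx2, hxV⟩
      refine ⟨c.cSL x (c.BS (h.o2B c hx2)) fun u hu => ?_, hx2⟩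
      obtain ⟨v, hv, v', hv', rfl⟩ := c.split j hu
      have h1 : v * x = x * v := mem_centralizer_iff.1 (h.o2_cW c hx2) v (h.VW hv)
      have h2 : v' * x = x * v' := mem_centralizer_iff.1 hxV v' hv'
      calc x * (v * v') = (x * v) * v' := by group
        _ = v * x * v' := by rw [← h1]
        _ = v * (x * v') := by group
        _ = v * (v' * x) := by rw [← h2]
        _ = _ := by group
  have nPI : Y ≤ normalizer ((Q ⊓ o2 Y : Subgroup G) : Set G) := by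
    intro y hy
    rw [ePI]
    refine mem_normalizer_of_cj_le ?_
    rw [cj_inf, cj_eq_of_mem_normalizer (ChoiceSit.le_normalizer_o2 _ hy), cj_centralizer,
      cj_eq_of_mem_normalizer (nVV hy)]
  have t := tw_cj c h hgM hgQ hgV
  have hVV : VV V j ≠ ⊥ := by
    obtain ⟨i, hi⟩ := hne
    exact fun e => c.V_ne_bot i (le_bot_iff.1 (e ▸ c.V_VV hi))
  have gVV : g ∈ normalizer ((VV V j : Subgroup G) : Set G) := c.norm_VV' hgQ hgV
  have LE := L_le_oc c hne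
  have WE : W ≤ o2 (centralizer ((VV V j : Subgroup G) : Set G)) :=
    h.gen _ (LE (c.VL j (c.zV j))) fun y hy => by
      rw [mem_normalizer_iff_cj]; exact cj_oc (nVV hy)
  have W2E : cj g W ≤ o2 (centralizer ((VV V j : Subgroup G) : Set G)) := by
    rw [← cj_oc gVV]; exact cj_mono g WE
  obtain ⟨A, hA, hAS, hAW⟩ := h.mv
  have NX : cl (cj g W) Y ≤ X := cl_le fun y hy => by
    have h1 := cj_mono y t.WX
    rwa [cj_eq_of_mem_normalizer (c.MX (h.YM hy))] at h1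
  have NE : cl (cj g W) Y ≤ o2 (centralizer ((VV V j : Subgroup G) : Set G)) := cl_le fun y hy => by
    rw [← cj_oc (nVV hy)]; exact cj_mono y W2E
  have zN : z j ∈ cl (cj g W) Y := le_cl _ _ (t.VW (c.zV j))
  have VL1 : VV V j ≤ cj 1 L := by rw [cj_one]; exact c.VV_L j
  have d : Da S B Q M X L V z 𝓦 j Y W F (cj g W) (cj g F) (cl (cj g W) Y) A ℓ π :=
    { c := c, h := h, l := l, t := t, nPI := nPI, nVV := nVV, NX := NX
      YN := le_normalizer_cl _ _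
      WN := h.gen _ zN (le_normalizer_cl _ _)
      W₂N := le_cl _ _
      gen := fun U hU hYU => cl_le fun y hy => by
        have h1 := cj_mono y hU
        rwa [cj_eq_of_mem_normalizer (hYU hy)] at h1
      AQ := o.AQ A hA hAS
      mvA := hAW
      best := by
        have h1 := o.best A hA hAS 1 (one_mem _) (VV V j) hVV VL1 _ NX NE
        rwa [cj_one] at h1
      quad := by
        intro x hx a ha b hb
        exact o.quad A hA hAS 1 (one_mem _) (VV V j) hVV VL1 x (NX hx) (NE hx) a (by rwa [cj_one]) b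
          (by rwa [cj_one]) }
  exact d.le_WL

end Cfsg.Agent.Omega.NO3S.WY.Tor.UniB

end

-- merged: Cfsg.Agent.Mrg.Omega.NO3S.WY.Tor.CxOf
section

section


/-!
# THEOREM TOR: the frame `Cx` over `MulL`

`MulL S P B ZJ L W Z C A 2`, `Z i = {1, z i}`, `WQ S P B Y`, `Md S P Y V`.

* `exists_z` : the generators `z i`;
* `perm_W` : `N_G(Q)` permutes the `W i` (from the fusion in `Z_J`: `Bg.fus`);
* `syl_Lam` : a 2-group `T ≥ B` which centralises all `z i`, `i ≠ j`, lies in `B`;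
* `exists_t`, `exists_d`;
* `cx_of` : `Cx S B (o2 P) (GX S P Y) V (zl S P) W z`; `LO` : `V_P ≤ O₂(C_G(z i))`.
-/

set_option autoImplicit false
set_option linter.unusedSectionVars false
set_option linter.dupNamespace false

namespace Cfsg.Agent.Omega.NO3S.WY.Tor

open Subgroup Cfsg Cfsg.Agent.ZN Cfsg.Agent.ZN.ChoiceBase Cfsg.Agent.Omega.MinPar Cfsg.Agent.Omega.Frame
open Cfsg.Agent.ZN.ChoiceSit (Syl)
open Cfsg.Agent.Omega.NO3S.Level
open Cfsg.Agent.Omega.NO3S.RedC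
open Cfsg.Agent.Omega.NO3S.EThree.Frame (Bg Fg)
open Cfsg.Agent.Omega.Node.MulX (MulL)

universe u

variable {G : Type u} [Group G] [Finite G]

section bg

variable {S : Sylow 2 G} {P B ZJ : Subgroup G} {ι : Type} {L W Z C : ι → Subgroup G}

theorem exists_z (h : Bg S P B ZJ L W Z C 2) : ∃ z : ι → G, ∀ i x, x ∈ Z i ↔ x = 1 ∨ x = z i := by
  have key : ∀ i, ∃ y : G, ∀ x, x ∈ Z i ↔ x = 1 ∨ x = y := by
    intro i
    obtain ⟨y, hy, hy1⟩ : ∃ y ∈ Z i, y ≠ 1 := by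
      by_contra hcon
      push Not at hcon
      exact h.Z_ne i ((eq_bot_iff_forall _).2 hcon)
    have h2 : y ^ 2 = 1 := h.fr.Vsq (h.fr.ZV i hy)
    have e : zpowers y = Z i := by
      refine Subgroup.eq_of_le_of_card_ge (by rwa [zpowers_le]) ?_
      rw [h.fr.cardZ, Nat.card_zpowers, orderOf_eq_prime h2 hy1]
    refine ⟨y, fun x => ⟨fun hx => ?_, ?_⟩⟩
    · rw [← e, mem_zpowers_iff] at hx
      obtain ⟨n, rfl⟩ := hx
      rcases Int.even_or_odd' n with ⟨m, rfl | rfl⟩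
      · left
        rw [zpow_mul]
        have : y ^ (2 : ℤ) = 1 := by exact_mod_cast h2
        rw [this, one_zpow]
      · right
        rw [zpow_add, zpow_mul]
        have : y ^ (2 : ℤ) = 1 := by exact_mod_cast h2
        rw [this, one_zpow, one_mul, zpow_one]
    · rintro (rfl | rfl)
      · exact one_mem _
      · exact hy
  choose z hz using key
  exact ⟨z, hz⟩

variable (h : Bg S P B ZJ L W Z C 2) {z : ι → G} (hz : ∀ i x, x ∈ Z i ↔ x = 1 ∨ x = z i)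
include h hz

theorem Z_eq (i : ι) : Z i = zpowers (z i) := by
  symm
  refine Subgroup.eq_of_le_of_card_ge ?_ ?_
  · rw [zpowers_le]
    exact EK3.z_mem_Z h hz i
  · rw [h.fr.cardZ, Nat.card_zpowers, orderOf_eq_prime (EK3.z_sq h hz i) (EK3.z_ne h hz i)]

theorem zW (i : ι) : z i ∈ W i := (h.fr.blk i).ZV (EK3.z_mem_Z h hz i)

theorem cardW (i : ι) : Nat.card (W i) = 4 := by
  rw [(h.fr.blk i).card, h.fr.cardZ]

/-- `W i = {1, z, v, vz}` for every `v ∈ W i - Z i` -/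
theorem four (i : ι) {v : G} (hv : v ∈ W i) (hvZ : v ∉ Z i) {x : G} (hx : x ∈ W i) :
    x = 1 ∨ x = z i ∨ x = v ∨ x = v * z i := by
  have hzW := zW h hz i
  have hsq := fun {y : G} (hy : y ∈ W i) => h.fr.Vsq (h.fr.WV i hy)
  have hz1 := EK3.z_ne h hz i
  have hv1 : v ≠ 1 := fun e => hvZ (e ▸ one_mem _)
  have hvz : v ≠ z i := fun e => hvZ (e ▸ EK3.z_mem_Z h hz i)
  have hzz : z i * z i = 1 := by rw [← pow_two]; exact hsq hzW
  by_contra hcon
  push Not at hcon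
  obtain ⟨h1, h2, h3, h4⟩ := hcon
  have hfin : (Set.range ![(1 : G), z i, v, v * z i, x]).ncard ≤ 4 := by
    rw [← cardW h hz i]
    refine Set.ncard_le_ncard ?_ (Set.toFinite _)
    rintro _ ⟨j, rfl⟩
    fin_cases j
    · exact one_mem _
    · exact hzW
    · exact hv
    · exact mul_mem hv hzW
    · exact hx
  have hinj : Function.Injective ![(1 : G), z i, v, v * z i, x] := by
    have hvz1 : v * z i ≠ 1 := fun e => hvz (by
      calc v = v * z i * z i := by rw [mul_assoc, hzz, mul_one]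
        _ = z i := by rw [e, one_mul])
    have hvz2 : v * z i ≠ z i := fun e => hv1 (by
      calc v = v * z i * (z i)⁻¹ := by group
        _ = 1 := by rw [e, mul_inv_cancel])
    have hvz3 : v * z i ≠ v := fun e => hz1 (by
      calc z i = v⁻¹ * (v * z i) := by group
        _ = 1 := by rw [e, inv_mul_cancel])
    intro a b hab
    fin_cases a <;> fin_cases b <;> simp_all [eq_comm]
  rw [Set.ncard_range_of_injective hinj] at hfin
  simp at hfin

/-- the `i`-th component of `c ∈ V_P` can be moved into `Z i` by an element of `P ∩ C(C i)` -/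
theorem exists_move (i : ι) {w : G} (hw : w ∈ W i) : ∃ l ∈ P, l ∈ centralizer (C i : Set G) ∧ l * w * l⁻¹ ∈ Z i := by
  by_cases hw1 : w = 1
  · subst hw1
    exact ⟨1, one_mem _, one_mem _, by simp⟩
  obtain ⟨l, hl, hlc, y, hy, e⟩ := h.tr i w hw hw1
  refine ⟨l⁻¹, inv_mem hl, inv_mem hlc, ?_⟩
  have : l⁻¹ * w * l⁻¹⁻¹ = y := by rw [← e]; group
  rwa [this]

/-- every element of `V_P` is conjugate in `P` to an element of `Z_J` -/
theorem exists_to_ZJ [Finite ι] {c : G} (hc : c ∈ zl (S : Subgroup G) P) : ∃ n ∈ P, n * c * n⁻¹ ∈ ZJ := by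
  classical
  have : Fintype ι := Fintype.ofFinite ι
  have key : ∀ s : Finset ι, ∃ n ∈ P, n * c * n⁻¹ ∈ zl (S : Subgroup G) P ∧
      ∀ i ∈ s, ∃ w ∈ Z i, ∃ d ∈ C i, n * c * n⁻¹ = w * d := by
    intro s
    induction s using Finset.induction_on with
    | empty => exact ⟨1, one_mem _, by simpa using hc, fun i hi => by simp at hi⟩
    | insert j s hj ih =>
      obtain ⟨n, hn, hnV, hns⟩ := ih
      obtain ⟨w, hw, d, hd, e⟩ := h.fr.WC j _ hnV
      obtain ⟨l, hl, hlc, hlw⟩ := exists_move h hz j hw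
      have hPV : P ≤ normalizer (zl (S : Subgroup G) P : Set G) := ZN.le_normalizer_zl _ _
      refine ⟨l * n, mul_mem hl hn, ?_, fun i hi => ?_⟩
      · have e1 : l * n * c * (l * n)⁻¹ = l * (n * c * n⁻¹) * l⁻¹ := by group
        rw [e1]
        exact (mem_normalizer_iff.1 (hPV hl) _).1 hnV
      · have e1 : l * n * c * (l * n)⁻¹ = l * (n * c * n⁻¹) * l⁻¹ := by group
        rcases Finset.mem_insert.1 hi with rfl | hi
        · refine ⟨_, hlw, d, hd, ?_⟩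
          rw [e1, e]
          have h3 := mem_centralizer_iff.1 hlc d hd
          calc l * (w * d) * l⁻¹ = l * w * l⁻¹ * (l * d * l⁻¹) := by group
            _ = l * w * l⁻¹ * d := by rw [← h3]; group
        · have hij : i ≠ j := fun e => hj (e ▸ hi)
          obtain ⟨w', hw', d', hd', e'⟩ := hns i hi
          have hlCi : l * d' * l⁻¹ ∈ C i := by
            obtain ⟨σ, hσ⟩ := h.perm l hl
            have h3 : cj l (W i) = W i := mem_normalizer_iff_cj.1 (centralizer_le_normalizer _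
              (centralizer_le (h.fr.WjC j i hij.symm) hlc))
            have h4 : σ i = i := h.W_inj ((hσ i).1.symm.trans h3)
            have h5 := (hσ i).2
            rw [h4] at h5
            rw [← h5]
            exact ⟨d', hd', rfl⟩
          refine ⟨w', hw', _, hlCi, ?_⟩
          rw [e1, e']
          have h3 := mem_centralizer_iff.1 hlc w' (h.fr.WjC j i hij.symm ((h.fr.blk i).ZV hw'))
          calc l * (w' * d') * l⁻¹ = l * w' * l⁻¹ * (l * d' * l⁻¹) := by group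
            _ = w' * (l * d' * l⁻¹) := by rw [← h3]; group
  obtain ⟨n, hn, hnV, hns⟩ := key Finset.univ
  refine ⟨n, hn, (h.fr.mem_ZJ _).2 ⟨hnV, fun b hb => ?_⟩⟩
  -- `b` fixes the components
  have h1 : b * (n * c * n⁻¹) * b⁻¹ * (n * c * n⁻¹)⁻¹ = 1 := by
    have hbV : b * (n * c * n⁻¹) * b⁻¹ ∈ zl (S : Subgroup G) P :=
      (mem_normalizer_iff.1 (h.bau_norm hb) _).1 hnV
    refine h.fr.C0 _ (mul_mem hbV (inv_mem hnV)) fun i => ?_
    obtain ⟨w, hw, d, hd, e⟩ := hns i (Finset.mem_univ i)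
    rw [e]
    have h3 := (h.fr.blk i).cZ b hb w hw
    have h4 := h.fr.BC i b hb d hd
    have h5 : b * (w * d) * b⁻¹ * (w * d)⁻¹ = w * (b * d * b⁻¹ * d⁻¹) * w⁻¹ := by
      calc b * (w * d) * b⁻¹ * (w * d)⁻¹ = (b * w) * d * b⁻¹ * d⁻¹ * w⁻¹ := by group
        _ = (w * b) * d * b⁻¹ * d⁻¹ * w⁻¹ := by rw [h3]
        _ = w * (b * d * b⁻¹ * d⁻¹) * w⁻¹ := by group
    have h6 : b * d * b⁻¹ * d⁻¹ ∈ C i := mul_mem h4 (inv_mem hd)
    rw [h5, h.fr.Vc (h.fr.WV i ((h.fr.blk i).ZV hw)) (h.fr.CV i h6), mul_assoc, mul_inv_cancel, mul_one]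
    exact h6
  calc b * (n * c * n⁻¹) = b * (n * c * n⁻¹) * b⁻¹ * (n * c * n⁻¹)⁻¹ * (n * c * n⁻¹) * b := by group
    _ = n * c * n⁻¹ * b := by rw [h1, one_mul]

/-- a `G`-conjugate of `z i` in `V_P` lies in some `W j` -/
theorem mem_W_of_conj [Finite ι] {i : ι} {g : G} (hg : g * z i * g⁻¹ ∈ zl (S : Subgroup G) P) :
    ∃ j, g * z i * g⁻¹ ∈ W j := by
  obtain ⟨n, hn, hnJ⟩ := exists_to_ZJ h hz hg
  have e1 : n * (g * z i * g⁻¹) * n⁻¹ = (n * g) * z i * (n * g)⁻¹ := by group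
  obtain ⟨j, hj⟩ := h.fus (i := i) (x := n * (g * z i * g⁻¹) * n⁻¹) (g := n * g) hnJ (by
    have : (n * g)⁻¹ * (n * (g * z i * g⁻¹) * n⁻¹) * (n * g) = z i := by group
    rw [this]
    exact EK3.z_mem_Z h hz i)
  obtain ⟨σ, hσ⟩ := h.perm n⁻¹ (inv_mem hn)
  refine ⟨σ j, ?_⟩
  rw [← (hσ j).1]
  refine ⟨_, (h.fr.blk j).ZV hj, ?_⟩
  simp only [MulEquiv.coe_toMonoidHom, MulAut.conj_apply]
  group

/-- **`N_G(V_P)` permutes the `W i`.** -/
theorem perm_W [Finite ι] {g : G} (hg : g ∈ normalizer (zl (S : Subgroup G) P : Set G)) (i : ι) :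
    ∃ j, cj g (W i) = W j := by
  -- every element of `W i` goes into some `W j`
  have key : ∀ w ∈ W i, w ≠ 1 → ∃ j, g * w * g⁻¹ ∈ W j := by
    intro w hw hw1
    obtain ⟨l, hl, -, y, hy, e⟩ := h.tr i w hw hw1
    have hy1 : y ≠ 1 := fun e1 => hw1 (by rw [← e, e1]; group)
    have hyz : y = z i := EK3.eq_z h hz hy hy1
    subst hyz
    have e1 : g * w * g⁻¹ = (g * l) * z i * (g * l)⁻¹ := by rw [← e]; group
    have h1 : (g * l) * z i * (g * l)⁻¹ ∈ zl (S : Subgroup G) P := by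
      rw [← e1]
      exact (mem_normalizer_iff.1 hg _).1 (h.fr.WV i hw)
    rw [e1]
    exact mem_W_of_conj h hz h1
  have hz1 := EK3.z_ne h hz i
  have hzW := zW h hz i
  obtain ⟨j, hj⟩ := key (z i) hzW hz1
  refine ⟨j, Subgroup.eq_of_le_of_card_ge ?_ (by rw [card_cj, cardW h hz, cardW h hz])⟩
  rintro _ ⟨w, hw, rfl⟩
  change g * w * g⁻¹ ∈ W j
  by_cases hw1 : w = 1
  · rw [hw1]; simp
  by_cases hwz : w = z i
  · rw [hwz]; exact hj
  obtain ⟨m, hm⟩ := key w hw hw1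
  obtain ⟨m', hm'⟩ := key (w * z i) (mul_mem hw hzW) (fun e => hwz (by
    have h3 : w = (z i)⁻¹ := by rw [← mul_eq_one_iff_eq_inv]; exact e
    rw [h3, inv_eq_iff_mul_eq_one, ← pow_two]
    exact EK3.z_sq h hz i))
  have hinj : ∀ x : G, x ≠ 1 → g * x * g⁻¹ ≠ 1 := fun x hx e => hx (conj_eq_one_iff.1 e)
  by_cases hmj : m = j
  · rw [← hmj]; exact hm
  exfalso
  have e2 : g * (w * z i) * g⁻¹ = (g * w * g⁻¹) * (g * z i * g⁻¹) := by group
  rw [e2] at hm'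
  by_cases h3 : m' = m
  · -- then `g z g⁻¹ ∈ W m ∩ W j`
    subst h3
    have h4 : g * z i * g⁻¹ ∈ W m' := by
      have := mul_mem (inv_mem hm) hm'
      rwa [inv_mul_cancel_left] at this
    have h5 : g * z i * g⁻¹ ∈ W m' ⊓ W j := ⟨h4, hj⟩
    rw [h.W_disj hmj, mem_bot] at h5
    exact hinj _ hz1 h5
  · -- `g w g⁻¹ ∈ W m`, the other two in `C m`
    have h4 : (g * w * g⁻¹) * (g * z i * g⁻¹) ∈ C m := h.fr.WjC m m' (Ne.symm h3) hm'
    have h5 : g * z i * g⁻¹ ∈ C m := h.fr.WjC m j hmj hj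
    have h6 : g * w * g⁻¹ ∈ C m := by
      have := mul_mem h4 (inv_mem h5)
      rwa [mul_inv_cancel_right] at this
    have h7 : g * w * g⁻¹ ∈ W m ⊓ C m := ⟨hm, h6⟩
    rw [h.fr.dir m, mem_bot] at h7
    exact hinj _ hw1 h7

/-- **`B` is a Sylow 2-subgroup of `C_G(z_i : i ≠ j)`.** -/
theorem syl_Lam [Finite ι] (j : ι) {T : Subgroup G} (hT : IsPGroup 2 T) (hB : B ≤ T)
    (hc : ∀ i, i ≠ j → ∀ x ∈ T, x * z i = z i * x) : T ≤ B := by
  have hTn := h.le_norm_B hT hB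
  have h1 : ∀ x ∈ T, x * z j = z j * x := by
    intro x hx
    obtain ⟨m, hm⟩ := EK3.cj_Z h hz (hTn hx) j
    by_cases hmj : m = j
    · rw [hmj] at hm
      exact mul_inv_eq_iff_eq_mul.1 hm
    exfalso
    apply hmj
    have h2 := hc m hmj x hx
    apply EK3.z_inj h hz
    have h3 : x * z m * x⁻¹ = z m := by rw [h2]; group
    have h4 : x * z j * x⁻¹ = x * z m * x⁻¹ := hm.trans h3.symm
    have h5 : z j = z m := by
      have := congrArg (fun t => x⁻¹ * t * x) h4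
      simpa [mul_assoc] using this
    exact h5.symm
  have h2 : T ≤ centralizer (ZJ : Set G) := fun x hx => EK3.mem_cent_ZJ h hz fun i => by
    by_cases hi : i = j
    · rw [hi]; exact h1 x hx
    · exact hc i hi x hx
  exact (h.syl_B.2.2 T h2 hT hB).le

theorem exists_W_not_Z (i : ι) : ∃ v ∈ W i, v ∉ Z i := by
  by_contra hcon
  push Not at hcon
  have h1 := Subgroup.card_le_of_le (show W i ≤ Z i from hcon)
  rw [cardW h hz, h.fr.cardZ] at h1
  omega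

theorem exists_t (i : ι) : ∃ t ∈ B, (∀ j, j ≠ i → ∀ v ∈ W j, t * v = v * t) ∧ ∃ v ∈ W i, t * v ≠ v * t := by
  obtain ⟨v, hv, hvZ⟩ := exists_W_not_Z h hz i
  obtain ⟨t, ht, htc, e⟩ := h.root i v hv hvZ (z i) (EK3.z_mem_Z h hz i)
  refine ⟨t, ht, fun j hj w hw => (mem_centralizer_iff.1 htc w (h.fr.WjC i j hj.symm hw)).symm, v, hv, fun e1 => ?_⟩
  apply EK3.z_ne h hz i
  rw [← e, e1]
  group

/-- `d_i` -/
theorem exists_d [Finite ι] (i : ι) : ∃ d ∈ P, Odd (orderOf d) ∧ (∀ j, j ≠ i → ∀ v ∈ W j, d * v = v * d) ∧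
    d * z i * d⁻¹ ≠ z i := by
  obtain ⟨v, hv, hvZ⟩ := exists_W_not_Z h hz i
  have hv1 : v ≠ 1 := fun e => hvZ (e ▸ one_mem _)
  obtain ⟨t, ht, htc, et⟩ := h.root i v hv hvZ (z i) (EK3.z_mem_Z h hz i)
  obtain ⟨l, hl, hlc, y, hy, el⟩ := h.tr i v hv hv1
  have hy1 : y ≠ 1 := fun e1 => hv1 (by rw [← el, e1]; group)
  have hyz : y = z i := EK3.eq_z h hz hy hy1
  subst hyz
  have htP : t ∈ P := h.hyp.star.isLoc.le (h.BS ht)
  -- `a` : an element of `P ∩ C(C i)` with `z ↦ v ↦ v z`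
  have hzt : t * z i * t⁻¹ = z i := by
    rw [(h.fr.blk i).cZ t ht (z i) (EK3.z_mem_Z h hz i)]; group
  have hzz : z i * z i = 1 := by rw [← pow_two]; exact EK3.z_sq h hz i
  have htv : t * v * t⁻¹ = v * z i := by
    have h1 : t * v * t⁻¹ = z i * v := by rw [← et]; group
    rw [h1]
    exact h.fr.Vc (h.fr.WV i (zW h hz i)) (h.fr.WV i hv)
  have key : ∃ a ∈ P, a ∈ centralizer (C i : Set G) ∧ ∃ v' ∈ W i, v' ∉ Z i ∧ a * z i * a⁻¹ = v' ∧
      a * v' * a⁻¹ = v' * z i := by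
    have hlW : l * v * l⁻¹ ∈ W i := by
      have h1 := h.fix hl hlc i
      rw [← h1]
      exact ⟨v, hv, rfl⟩
    have hlv1 : l * v * l⁻¹ ≠ 1 := fun e => hv1 (conj_eq_one_iff.1 e)
    have hlvv : l * v * l⁻¹ ≠ v := by
      intro e
      have h1 : l * v * l⁻¹ = l * z i * l⁻¹ := e.trans el.symm
      have h2 : v = z i := by
        have := congrArg (fun t => l⁻¹ * t * l) h1
        simpa [mul_assoc] using this
      exact hvZ (h2 ▸ EK3.z_mem_Z h hz i)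
    rcases four h hz i hv hvZ hlW with h1 | h1 | h1 | h1
    · exact absurd h1 hlv1
    · -- `l` interchanges `z` and `v`: take `t l`
      refine ⟨t * l, mul_mem htP hl, mul_mem htc hlc, v * z i, mul_mem hv (zW h hz i), ?_, ?_, ?_⟩
      · intro hcon
        apply hvZ
        have := mul_mem hcon (inv_mem (EK3.z_mem_Z h hz i))
        rwa [mul_inv_cancel_right] at this
      · calc t * l * z i * (t * l)⁻¹ = t * (l * z i * l⁻¹) * t⁻¹ := by group
          _ = v * z i := by rw [el, htv]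
      · calc t * l * (v * z i) * (t * l)⁻¹ = t * ((l * v * l⁻¹) * (l * z i * l⁻¹)) * t⁻¹ := by group
          _ = t * (z i * v) * t⁻¹ := by rw [h1, el]
          _ = (t * z i * t⁻¹) * (t * v * t⁻¹) := by group
          _ = z i * (v * z i) := by rw [hzt, htv]
          _ = v * z i * z i := by
            rw [h.fr.Vc (h.fr.WV i (zW h hz i)) (h.fr.WV i (mul_mem hv (zW h hz i)))]
    · exact absurd h1 hlvv
    · exact ⟨l, hl, hlc, v, hv, hvZ, el, h1⟩
  obtain ⟨a, ha, hac, v', hv', hvZ', e1, e2⟩ := key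
  have hc : ∀ j, j ≠ i → ∀ w ∈ W j, a * w = w * a := fun j hj w hw =>
    (mem_centralizer_iff.1 hac w (h.fr.WjC i j hj.symm hw)).symm
  have e3 : a * (v' * z i) * a⁻¹ = z i := by
    calc a * (v' * z i) * a⁻¹ = (a * v' * a⁻¹) * (a * z i * a⁻¹) := by group
      _ = v' * z i * v' := by rw [e1, e2]
      _ = z i * (v' * v') := by
        rw [h.fr.Vc (h.fr.WV i hv') (h.fr.WV i (zW h hz i)), mul_assoc]
      _ = z i := by rw [← pow_two, h.fr.Vsq (h.fr.WV i hv'), mul_one]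
  -- `a` has order 3 on `z i`
  have hne1 : a * z i * a⁻¹ ≠ z i := fun e => hvZ' (by rw [← e1, e]; exact EK3.z_mem_Z h hz i)
  have e5 : a ^ 3 * z i * (a ^ 3)⁻¹ = z i := by
    have e4 : a ^ 3 = a * a * a := by rw [pow_succ, pow_two]
    calc a ^ 3 * z i * (a ^ 3)⁻¹ = a * (a * (a * z i * a⁻¹) * a⁻¹) * a⁻¹ := by rw [e4]; group
      _ = z i := by rw [e1, e2, e3]
  -- the odd part of `a`
  set n := orderOf a with hn
  have hn0 : n ≠ 0 := (orderOf_pos a).ne'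
  obtain ⟨s, m, hm, hnm⟩ := Nat.exists_eq_two_pow_mul_odd hn0
  refine ⟨a ^ 2 ^ s, pow_mem ha _, ?_, fun j hj w hw => ?_, ?_⟩
  · rw [orderOf_pow' a (by positivity), ← hn, hnm]
    have : Nat.gcd (2 ^ s * m) (2 ^ s) = 2 ^ s := Nat.gcd_mul_right_left _ _
    rw [this, Nat.mul_div_cancel_left _ (by positivity)]
    exact hm
  · exact Commute.pow_left (show Commute a w from hc j hj w hw) _
  · -- `2 ^ s` is prime to `3`
    intro e
    apply hne1
    -- stabiliser of `z i`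
    have hst1 : a ^ 3 ∈ centralizer ({z i} : Set G) := by
      rw [mem_centralizer_singleton_iff]
      exact mul_inv_eq_iff_eq_mul.1 e5
    have hst2 : a ^ 2 ^ s ∈ centralizer ({z i} : Set G) := by
      rw [mem_centralizer_singleton_iff]
      exact mul_inv_eq_iff_eq_mul.1 e
    have hcop : Nat.Coprime 3 (2 ^ s) := Nat.Coprime.pow_right _ (by norm_num)
    have hgcd := Nat.gcd_eq_gcd_ab 3 (2 ^ s)
    rw [hcop] at hgcd
    have : a ∈ centralizer ({z i} : Set G) := by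
      have e6 : a = (a ^ 3) ^ (Nat.gcdA 3 (2 ^ s)) * (a ^ 2 ^ s) ^ (Nat.gcdB 3 (2 ^ s)) := by
        have e7 : a = a ^ (1 : ℤ) := (zpow_one a).symm
        conv_lhs => rw [e7]
        have e8 : (1 : ℤ) = (3 : ℕ) * Nat.gcdA 3 (2 ^ s) + ((2 ^ s : ℕ) : ℤ) * Nat.gcdB 3 (2 ^ s) := by
          exact_mod_cast hgcd
        conv_lhs => rw [e8]
        rw [zpow_add, zpow_mul, zpow_mul, zpow_natCast, zpow_natCast]
      rw [e6]
      exact mul_mem (zpow_mem hst1 _) (zpow_mem hst2 _)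
    rw [mul_inv_eq_iff_eq_mul]
    exact mem_centralizer_singleton_iff.1 this

theorem W_le_VV_C (i : ι) : VV W i ≤ C i := iSup_le fun j => iSup_le fun hj => h.fr.WjC i j (Ne.symm hj)

end bg

/-- `V_P ≤ O₂(C_G(z_i))` -/
theorem L_le_o2_cent {S : Sylow 2 G} {P B ZJ : Subgroup G} {ι : Type} [Finite ι] {L W Z C : ι → Subgroup G}
    (h : Bg S P B ZJ L W Z C 2) {z : ι → G} (hz : ∀ i x, x ∈ Z i ↔ x = 1 ∨ x = z i) (i : ι) :
    zl (S : Subgroup G) P ≤ o2 (centralizer ({z i} : Set G)) := by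
  have e : normalizer (Z i : Set G) = centralizer ({z i} : Set G) := by
    ext x
    rw [mem_centralizer_singleton_iff]
    constructor
    · intro hx
      have h1 := (mem_normalizer_iff.1 hx (z i)).1 (EK3.z_mem_Z h hz i)
      have h2 := EK3.eq_z h hz h1 (fun e => EK3.z_ne h hz i (conj_eq_one_iff.1 e))
      exact mul_inv_eq_iff_eq_mul.1 h2
    · intro hx
      have h2 : x ∈ centralizer (Z i : Set G) := by
        rw [mem_centralizer_iff]
        intro y hy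
        rcases (hz i y).1 hy with rfl | rfl
        · simp
        · exact hx.symm
      exact centralizer_le_normalizer _ h2
  rw [← e]
  exact h.V_le i

/-- **The frame `Cx` of THEOREM TOR over `MulL`.** -/
theorem cx_of {S : Sylow 2 G} {P B ZJ Y V : Subgroup G} {k : ℕ} {L W Z C A : Fin k → Subgroup G}
    (h : MulL S P B ZJ L W Z C A 2) (hY : WQ S P B Y) (hV : Md S P Y V) {z : Fin k → G}
    (hz : ∀ i x, x ∈ Z i ↔ x = 1 ∨ x = z i) :
    Cx (S : Subgroup G) B (o2 P) (GX (S : Subgroup G) P Y) V (zl (S : Subgroup G) P) W z where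
  char2 := h.cl.ctx.char2
  S2 := S.isPGroup'
  Sidx := by
    have : Fact (Nat.Prime 2) := ⟨Nat.prime_two⟩
    exact S.not_dvd_index
  SM := hY.S_le
  MX := hV.norm
  XS := hV.le.trans hY.V_le_S
  Xc := fun x hx y hy => Lev.zc_comm (hV.le hx) (hV.le hy)
  Xs := fun x hx => by rw [← pow_two]; exact hY.V_sq x (hV.le hx)
  LX := hY.L_le_zl.trans hV.ge
  QB := h.bg.fr.QB
  BS := h.bg.BS
  cXQ := fun x hx hc => by
    rw [← hY.cvQ]
    exact ⟨hV.le hx, mem_centralizer_iff.2 hc⟩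
  cQL := fun q hq l hl => h.bg.fr.cQ hq hl
  cSL := fun s hs hc => by
    rw [← IsParS.inf_centralizer S h.cl.ctx.char2 h.cl.pss.par]
    exact ⟨hs, mem_centralizer_iff.2 fun l hl => (hc l hl).symm⟩
  wc := fun g hg => h.cl.wc.eq g hg
  perm := fun g hg i => perm_W h.bg hz (h.cl.norm_o2_le hg) i
  eL := le_antisymm (Cfsg.Agent.Omega.Node.MultiOf.Fg_V_le h.bg.fr) (iSup_le h.bg.fr.WV)
  ind := fun i => le_bot_iff.1 ((inf_le_inf_left _ (W_le_VV_C h.bg hz i)).trans (h.bg.fr.dir i).le)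
  cV := fun i => cardW h.bg hz i
  zV := fun i => zW h.bg hz i
  z1 := fun i => EK3.z_ne h.bg hz i
  zS := fun s hs i => EK3.cj_Z h.bg hz (h.bg.S_norm_B hs) i
  Bz := fun b hb i => (h.bg.fr.blk i).cZ b hb _ (EK3.z_mem_Z h.bg hz i)
  memB := fun s hs hc => by
    rw [h.bg.eqB]
    exact ⟨hs, EK3.mem_cent_ZJ h.bg hz hc⟩
  t := fun i => exists_t h.bg hz i
  d := fun i => by
    obtain ⟨d, hd, h1, h2, h3⟩ := exists_d h.bg hz i
    exact ⟨d, hY.P_le hd, MinSimple.VModule.le_normalizer_o2 P hd, h1, h2, h3⟩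
  tr := fun i j => h.bg.trans i j
  LO := fun i => L_le_o2_cent h.bg hz i
  sylB := fun j T hT hB hc => syl_Lam h.bg hz j hT hB hc

end Cfsg.Agent.Omega.NO3S.WY.Tor

end

section


/-!
# THEOREM TOR: the instance `TorP ⟹ Cx, Off, Co`

* `off_of` : `FamT` gives `Off` (the 2-groups of the family);
* `co_of`, `TorP.exists_co` : coordinates.
-/

set_option autoImplicit false
set_option linter.unusedSectionVars false
set_option linter.dupNamespace false

namespace Cfsg.Agent.Omega.NO3S.WY.Tor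

open Subgroup Cfsg Cfsg.Agent.ZN Cfsg.Agent.ZN.ChoiceBase
open Cfsg.Agent.ZN.ChoiceSit (Syl)
open Cfsg.Agent.MinSimple.MinParabolic (IsMinPar)
open Cfsg.Agent.Omega.NO3S.Level
open Cfsg.Agent.Omega.NO3S.RedC
open Cfsg.Agent.Omega.NO3S.EThree.Frame (Bg Fg)
open Cfsg.Agent.Omega.FFThm (OffM ElemM NatK NatKM ActsSL)
open Cfsg.Agent.Omega.NO1.BestOff (Best)
open Cfsg.Agent.Omega.FrameFF (cv)
open Cfsg.Agent.Omega.Node.MulX (MulL)
open Cfsg.Agent.Lib.SL2Mat (up)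

universe u

variable {G : Type u} [Group G] [Finite G]

/-- a best offender beats all its subgroups -/
theorem best_le {U A : Subgroup G} (h : Best U A) {A' : Subgroup G} (hA : A' ≤ A) :
    Nat.card A' * Nat.card ↥(U ⊓ centralizer (A' : Set G)) ≤ Nat.card A * Nat.card ↥(U ⊓ centralizer (A : Set G)) := by
  have h1 := h.max (A' ⊔ (A ⊓ centralizer (U : Set G))) (sup_le hA inf_le_left) le_sup_right
  refine le_trans (Nat.mul_le_mul (Subgroup.card_le_of_le le_sup_left) (Subgroup.card_le_of_le ?_)) h1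
  refine le_inf inf_le_left ?_
  rw [le_centralizer_iff]
  exact sup_le (le_centralizer_iff.1 inf_le_right) (inf_le_right.trans (centralizer_le inf_le_left))

/-- **`Off`** -/
theorem off_of {S : Sylow 2 G} {P Y V : Subgroup G} {𝓕 : Set (Subgroup G)} (h : FamT S P Y V 𝓕) :
    Off (S : Subgroup G) (o2 P) (GX (S : Subgroup G) P Y) V (zl (S : Subgroup G) P) {A | A ∈ 𝓕 ∧ IsPGroup 2 A} where
  cj := fun A hA g hg => ⟨h.cj A hA.1 g hg, isPGroup_cj g hA.2⟩
  AM := fun A hA => h.le A hA.1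
  A2 := fun A hA => hA.2
  AQ := fun A hA hS => h.pas A hA.1 hS
  quad := fun A hA hS g hg D hD hDL x hx hxO a ha b hb => by
    have h1 := (h.her A hA.1 hS g hg D (zpowers x) hD hDL ((zpowers_le).2 hx) ((zpowers_le).2 hxO)).2
    exact (h1 a ha b hb x (mem_zpowers x)).symm
  best := fun A hA hS g hg D hD hDL U hU hUO A' hA' =>
    best_le (h.her A hA.1 hS g hg D U hD hDL hU hUO).1 hA'

section inst

variable {S : Sylow 2 G} {P B ZJ : Subgroup G} {k : ℕ} {L W Z C A : Fin k → Subgroup G} {j : Fin k}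
  {Y V : Subgroup G} {𝓕 : Set (Subgroup G)} {z : Fin k → G}

theorem WQ_of_WJ (h : WJ S P B Z j Y) : WQ S P B Y := h.toWY.toWQ

/-- **`Co`** -/
def co_of {F : Type} [Field F] (h : MulL S P B ZJ L W Z C A 2) (wj : WJ S P B Z j Y) (hf : FamT S P Y V 𝓕)
    (hz : ∀ i x, x ∈ Z i ↔ x = 1 ∨ x = z i) (N : NatKM F B Y (zl B Y) (cv B Y) 1) (c4 : Nat.card F = 4)
    (line : ∀ v ∈ zl B Y, N.e v 0 1 = 0 ↔ v ∈ W j ⊔ cv B Y)
    (rt : ∀ q ∈ o2 P, ∃ b : F, ActsSL N.e (zl B Y) (cv B Y) q fun _ => up b) :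
    Co F (S : Subgroup G) B (o2 P) (GX (S : Subgroup G) P Y) V (zl (S : Subgroup G) P) W z
      {A | A ∈ 𝓕 ∧ IsPGroup 2 A} j Y where
  cx := cx_of h wj.toWQ hf.md hz
  syl := wj.syl
  min := wj.min
  c2 := wj.c2
  YM := wj.toWQ.Y_le
  cen := fun y hy i hi => by
    have h1 := mem_centralizer_iff.1 (wj.cen i hi hy) (z i) ((hz i _).2 (Or.inr rfl))
    exact h1.symm
  zcB := by
    rw [h.bg.fr.zcB]
    refine le_antisymm ((EK3.ZJ_le h.bg).trans (iSup_mono fun i x hx => ?_)) (iSup_le fun i => ?_)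
    · rcases (hz i x).1 hx with rfl | rfl
      · exact one_mem _
      · exact mem_zpowers _
    · exact (zpowers_le).2 (h.fr.Z_le i ((hz i _).2 (Or.inr rfl)))
  zX := wj.toWQ.zcT_le.trans (wj.toWQ.L_le_zl.trans hf.md.ge)
  nat := N
  c4 := c4
  line := line
  rt := rt
  act := by
    obtain ⟨A₀, hA, h1, h2⟩ := hf.act
    exact ⟨A₀, ⟨hA, S.isPGroup'.to_le (h1.trans wj.toWQ.o2P_le)⟩, h1.trans wj.toWQ.o2P_le, h1, h2⟩
  best := fun A₀ hA hS U hU hUO A' hA' => by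
    have hz1 : ∀ i, z i ≠ 1 := EK3.z_ne h.bg hz
    obtain ⟨i, hi⟩ := h.bg.two j
    have h1 : Lam z j ≠ ⊥ := by
      intro h0
      have h3 : z i ∈ Lam z j := le_trans (le_iSup (fun _ : i ≠ j => zpowers (z i)) hi)
        (le_iSup (fun i => ⨆ (_ : i ≠ j), zpowers (z i)) i) (mem_zpowers _)
      rw [h0, mem_bot] at h3
      exact hz1 i h3
    have h2 : Lam z j ≤ cj 1 (zl (S : Subgroup G) P) := by
      rw [cj_one]
      exact iSup_le fun i => iSup_le fun _ => (zpowers_le).2 (h.bg.fr.ZV i ((hz i _).2 (Or.inr rfl)))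
    have h3 := best_le (hf.her A₀ hA.1 hS 1 (one_mem _) (Lam z j) U h1 h2 hU hUO).1 (A' := A') (by rwa [cj_one])
    rwa [cj_one] at h3
  two := h.bg.two j

end inst

end Cfsg.Agent.Omega.NO3S.WY.Tor

end

section


/-!
# THEOREM TOR (0): the odd kernel lemma over the frame (helper491)

* `TY.lines` : the five lines contain `F` properly;
* `nil_of_min` : odd normal subgroups of (quotients of) a minimal parabolic are nilpotent: no Feit-Thompson;
* `TY.datKer` : helper570's `OddKer.Dat` for `Y`, `Q`, `O₂(Y)`;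
* `TY.odd_ker` : a vector of a section `N / N₀` of `X` which is fixed by `N_Y(Q)` is fixed by `Y`;
* `TY.ker0` : helper594's `Ker0`.
-/

set_option autoImplicit false
set_option linter.unusedSectionVars false
set_option linter.unusedVariables false

namespace Cfsg.Agent.Omega.NO3S.WY.Tor

open Subgroup Cfsg Cfsg.Agent.ZN Cfsg.Agent.ZN.ChoiceBase
open Cfsg.Agent.ZN.ChoiceSit (Syl)
open Cfsg.Agent.MinSimple.MinParabolic (IsMinPar)
open scoped commutatorElement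

universe u

variable {G : Type u} [Group G] {ι : Type} {S B Q M X L : Subgroup G} {V : ι → Subgroup G} {z : ι → G}
  {𝓦 : Set (Subgroup G)} {j : ι} {Y W F : Subgroup G}

theorem relIndex_sup_normal {H : Type*} [Group H] [Finite H] (K B : Subgroup H) [K.Normal] :
    B.relIndex (K ⊔ B) = B.relIndex K := by
  have e1 : K.relIndex (K ⊔ B) = K.relIndex B := relIndex_sup_left _ _
  have e2 := relIndex_mul_relIndex (K ⊓ B) K (K ⊔ B) inf_le_left le_sup_left
  have e3 := relIndex_mul_relIndex (K ⊓ B) B (K ⊔ B) inf_le_right le_sup_right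
  rw [e1, inf_relIndex_left] at e2
  rw [inf_relIndex_right] at e3
  have e4 : K.relIndex B ≠ 0 := by
    intro h
    have := Subgroup.relIndex_eq_zero_of_le_right (le_top : B ≤ ⊤) h
    rw [relIndex_top_right] at this
    exact index_ne_zero_of_finite this
  have e5 : K.relIndex B * B.relIndex (K ⊔ B) = K.relIndex B * B.relIndex K := by
    rw [e3, ← e2, mul_comm]
  exact Nat.eq_of_mul_eq_mul_left (Nat.pos_of_ne_zero e4) e5

/-- `ψ : Y → H` surjective, `B ≤ Y` a 2-subgroup with a unique maximal overgroup, `K ⊴ H` odd, `⟨ψ⁻¹(K), B⟩ ≠ Y`: then `K` is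
nilpotent. -/
theorem nil_of_min {Y H : Type*} [Group Y] [Finite Y] [Group H] [Finite H] (ψ : Y →* H) (hψ : Function.Surjective ψ)
    {B M : Subgroup Y} (hB : IsPGroup 2 B) (hM : M ≠ ⊤) (hmax : ∀ X : Subgroup Y, B ≤ X → X ≠ ⊤ → X ≤ M)
    (K : Subgroup H) [hKn : K.Normal] (hodd : Odd (Nat.card K)) (hKB : K.comap ψ ⊔ B ≠ ⊤) : Group.IsNilpotent K := by
  have h2 : Fact (Nat.Prime 2) := ⟨Nat.prime_two⟩
  refine (Group.isNilpotent_of_finite_tfae (G := K)).out 0 3 |>.2 fun p hp P => ?_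
  have hp' : Fact (Nat.Prime p) := hp
  -- a Sylow `p`-subgroup fixed by `B`
  have hB' : IsPGroup 2 (B.map ψ) := hB.map ψ
  let _ : MulAction (B.map ψ) (Sylow p K) :=
    MulAction.compHom (Sylow p K) ((MulAut.conjNormal (H := K)).comp (B.map ψ).subtype)
  have hcard : ¬ 2 ∣ Nat.card (Sylow p K) := by
    intro h
    have h3 := (h.trans (Sylow.card_dvd_index P)).trans (index_dvd_card (P : Subgroup K))
    rcases hodd with ⟨m, hm⟩
    omega
  obtain ⟨P₀, hP₀⟩ := hB'.nonempty_fixed_point_of_prime_not_dvd_card (Sylow p K) hcard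
  have hfix : ∀ b ∈ B.map ψ, MulAut.conjNormal (H := K) b • P₀ = P₀ := fun b hb =>
    MulAction.mem_fixedPoints.1 hP₀ ⟨b, hb⟩
  set R : Subgroup H := (P₀ : Subgroup K).map K.subtype with hR
  have hBR : B.map ψ ≤ normalizer (R : Set H) := by
    have key : ∀ b ∈ B.map ψ, ∀ x ∈ R, b * x * b⁻¹ ∈ R := by
      intro b hb x hx
      obtain ⟨k, hk, rfl⟩ := hx
      have h3 : MulAut.conjNormal (H := K) b • k ∈ (MulAut.conjNormal (H := K) b • P₀ : Sylow p K) :=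
        Subgroup.smul_mem_pointwise_smul _ _ _ hk
      rw [hfix b hb] at h3
      refine ⟨_, h3, ?_⟩
      simp
    intro b hb
    rw [mem_normalizer_iff]
    intro x
    refine ⟨fun hx => key b hb x hx, fun hx => ?_⟩
    have h3 := key b⁻¹ (inv_mem hb) _ hx
    have e : b⁻¹ * (b * x * b⁻¹) * b⁻¹⁻¹ = x := by group
    rwa [e] at h3
  have hFr : normalizer (R : Set H) ⊔ K = ⊤ := Sylow.normalizer_sup_eq_top P₀
  have hRtop : normalizer (R : Set H) = ⊤ := by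
    by_contra hne
    have h4 : (normalizer (R : Set H)).comap ψ ≤ M := by
      refine hmax _ ?_ ?_
      · rw [← map_le_iff_le_comap]; exact hBR
      · intro h5
        apply hne
        rw [eq_top_iff]
        intro x _
        obtain ⟨y, rfl⟩ := hψ x
        have : y ∈ (normalizer (R : Set H)).comap ψ := h5 ▸ mem_top y
        exact this
    have h5 : K.comap ψ ≤ M := le_sup_left.trans (hmax _ le_sup_right hKB)
    have h6 := comap_sup_eq ψ (normalizer (R : Set H)) K hψ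
    rw [hFr, comap_top] at h6
    exact hM (top_le_iff.1 (h6 ▸ sup_le h4 h5))
  have hP₀n : (P₀ : Subgroup K).Normal := by
    refine ⟨fun k hk g => ?_⟩
    have h3 : (g : H) ∈ normalizer (R : Set H) := hRtop ▸ mem_top _
    have h4 : (g : H) * (k : H) * (g : H)⁻¹ ∈ R := (mem_normalizer_iff.1 h3 _).1 ⟨k, hk, rfl⟩
    obtain ⟨k', hk', e⟩ := h4
    have : k' = g * k * g⁻¹ := Subtype.ext (by simpa using e)
    rwa [← this]
  have hu := Sylow.unique_of_normal P₀ hP₀n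
  have : P = P₀ := Subsingleton.elim _ _
  rw [this]
  exact hP₀n


/-- the kernel is solvable -/
theorem sol_of_min {Y : Type*} [Group Y] [Finite Y] {B M K D : Subgroup Y} (nD : D.Normal) (hD : IsPGroup 2 D)
    (hB : IsPGroup 2 B) (hM : M ≠ ⊤) (hmax : ∀ X : Subgroup Y, B ≤ X → X ≠ ⊤ → X ≤ M) [hK : K.Normal]
    (hDK : D ≤ K) (hko : Odd (D.relIndex K)) (hKB : K ⊔ B ≠ ⊤) : Group.IsSolvable ↥K := by
  have hnD := nD
  refine OddKer.sol_of_quot K D nD hD ?_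
  set ψ : Y →* Y ⧸ D := QuotientGroup.mk' D with hψ
  have hsur : Function.Surjective ψ := QuotientGroup.mk'_surjective D
  have hker : ψ.ker = D := QuotientGroup.ker_mk' D
  set φ : ↥K →* Y ⧸ D := ψ.comp K.subtype with hφ
  have hkφ : φ.ker = D.subgroupOf K := by
    ext x
    rw [MonoidHom.mem_ker, mem_subgroupOf]
    exact QuotientGroup.eq_one_iff (x : Y)
  have hr : φ.range = K.map ψ := by rw [hφ, MonoidHom.range_comp, range_subtype]
  have hn : (K.map ψ).Normal := hK.map ψ hsur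
  have hodd : Odd (Nat.card (K.map ψ)) := by
    rw [← hr, ← index_ker, hkφ]
    exact hko
  have hcom : (K.map ψ).comap ψ = K := by rw [comap_map_eq, hker, sup_eq_left.2 hDK]
  have hnil := nil_of_min ψ hsur hB hM hmax (K.map ψ) hodd (by rwa [hcom])
  have hs : Group.IsSolvable ↥(K.map ψ) := IsNilpotent.to_isSolvable
  have e : (↥K ⧸ D.subgroupOf K) ≃* ↥(K.map ψ) :=
    ((QuotientGroup.quotientMulEquivOfEq hkφ.symm).trans (QuotientGroup.quotientKerEquivRange φ)).trans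
      (MulEquiv.subgroupCongr hr)
  exact Group.isSolvable_of_isSolvable_injective (f := e.toMonoidHom) e.injective

/-- the alternating group of degree 5 is not a 2-group -/
theorem not_two_alt {X : Subgroup (Equiv.Perm (Fin 5))} (hX : IsPGroup 2 X) : ¬ alternatingGroup (Fin 5) ≤ X := by
  intro hle
  have h3 : (Equiv.swap (0 : Fin 5) 1 * Equiv.swap 1 2) ∈ X := hle (by
    rw [Equiv.Perm.mem_alternatingGroup]
    decide)
  obtain ⟨k, hk⟩ := hX ⟨_, h3⟩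
  have h4 : orderOf (Equiv.swap (0 : Fin 5) 1 * Equiv.swap 1 2) = 3 := by
    apply orderOf_eq_prime
    · decide
    · decide
  have h5 : (Equiv.swap (0 : Fin 5) 1 * Equiv.swap 1 2) ^ 2 ^ k = 1 := congrArg Subtype.val hk
  have h6 := orderOf_dvd_of_pow_eq_one h5
  rw [h4] at h6
  have h7 := Nat.Prime.dvd_of_dvd_pow Nat.prime_three h6
  omega

namespace TY

/-- the five lines contain `F` properly -/
theorem lines [Finite G] (c : Cx S B Q M X L V z) (h : TY S B Q M X V z 𝓦 j Y W F) {ℓ : Fin 5 → Subgroup G}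
    {π : ↥Y →* Equiv.Perm (Fin 5)} (h0 : ℓ 0 = V j ⊔ F) (hi : ∀ a b, a ≠ b → ℓ a ⊓ ℓ b = F)
    (hc : ∀ (y : Y) a, cj (y : G) (ℓ a) = ℓ (π y a)) (hA : alternatingGroup (Fin 5) ≤ π.range) :
    (∀ a, F ≤ ℓ a) ∧ ∀ a, ℓ a ≠ F := by
  have hF : ∀ a, F ≤ ℓ a := fun a => by
    have : ∃ b : Fin 5, a ≠ b := by
      by_cases h5 : a = 0
      · exact ⟨1, by rw [h5]; decide⟩
      · exact ⟨0, h5⟩
    obtain ⟨b, hb⟩ := this
    rw [← hi a b hb]; exact inf_le_left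
  refine ⟨hF, ?_⟩
  intro a e
  have htr : ∃ g : Y, π g 0 = a := by
    by_cases ha : a = 0
    · exact ⟨1, by rw [ha]; simp⟩
    · obtain ⟨b, hb0, hba⟩ : ∃ b : Fin 5, b ≠ 0 ∧ b ≠ a := by
        by_cases h1 : a = 1
        · exact ⟨2, by decide, by rw [h1]; decide⟩
        · exact ⟨1, by decide, fun e => h1 e.symm⟩
      have h4 : (Equiv.swap (0 : Fin 5) b * Equiv.swap 0 a) ∈ alternatingGroup (Fin 5) := by
        rw [Equiv.Perm.mem_alternatingGroup, map_mul, Equiv.Perm.sign_swap (Ne.symm ha),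
          Equiv.Perm.sign_swap hb0.symm]
        decide
      obtain ⟨g, hg⟩ := hA h4
      refine ⟨g, ?_⟩
      rw [hg, Equiv.Perm.mul_apply, Equiv.swap_apply_left, Equiv.swap_apply_of_ne_of_ne ha hba.symm]
  obtain ⟨g, hg⟩ := htr
  have h6 := hc g 0
  rw [hg, h0, e] at h6
  have h7 := card_cj (g : G) (V j ⊔ F)
  rw [h6, h.card_VF c] at h7
  have h8 : 0 < Nat.card F := Nat.card_pos
  omega

/-- `q² ∈ C(W)` for `q ∈ Q` -/
theorem sq_comm (c : Cx S B Q M X L V z) (h : TY S B Q M X V z 𝓦 j Y W F) {q : G} (hq : q ∈ Q) {w : G} (hw : w ∈ W) :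
    (q * q) * w = w * (q * q) := by
  have h1 := h.quad q hq w hw
  set u := q * w * q⁻¹ * w⁻¹ with hu
  have h2 : q * u = u * q := c.cQL q hq u (h.VF_L c h1)
  have h3 : u * u = 1 := c.Xs u (((h.VF_L c).trans c.LX) h1)
  have e1 : q * w = u * w * q := by rw [hu]; group
  calc q * q * w = q * (q * w) := by group
    _ = q * u * w * q := by rw [e1]; group
    _ = u * (q * w) * q := by rw [h2]; group
    _ = (u * u) * w * q * q := by rw [e1]; group
    _ = w * (q * q) := by rw [h3]; group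

/-- **helper570's data** -/
theorem datKer [Finite G] (c : Cx S B Q M X L V z) (h : TY S B Q M X V z 𝓦 j Y W F) :
    ∃ π : ↥Y →* Equiv.Perm (Fin 5), OddKer.Dat π (Q.subgroupOf Y) ((o2 Y).subgroupOf Y) := by
  obtain ⟨ℓ, π, h0, hW, hi, hc, hA, hk⟩ := h.act
  obtain ⟨hF, hne⟩ := h.lines c h0 hi hc hA
  have hQY := h.QY c
  -- `O₂(Y)` is trivial on the lines
  have hDk : ∀ d : ↥Y, (d : G) ∈ o2 Y → π d = 1 := by
    intro d hd
    refine ker_le hW hF hne hi hc fun w hw => ?_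
    have h1 : (d : G) * w * (d : G)⁻¹ * w⁻¹ = 1 := comm_iff.2 (mem_centralizer_iff.1 (h.o2_cW c hd) w hw).symm
    rw [h1]; exact one_mem _
  have hDle : (o2 Y).subgroupOf Y ≤ π.ker := fun d hd => hDk d (mem_subgroupOf.1 hd)
  -- `q ∈ Q` fixes `ℓ 0`
  have hq0 : ∀ q : ↥Y, (q : G) ∈ Q → π q 0 = 0 := by
    intro q hq
    have h1 : cj (q : G) (ℓ 0) = ℓ 0 := by
      refine cj_eq_of_mem_normalizer ?_
      rw [h0]
      have h2 : Q ≤ centralizer ((V j ⊔ F : Subgroup G) : Set G) := fun x hx =>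
        mem_centralizer_iff.2 fun l hl => (c.cQL x hx l (h.VF_L c hl)).symm
      exact (h2.trans (centralizer_le_normalizer _)) hq
    by_contra hne'
    have h2 := hc q 0
    rw [h1] at h2
    have h3 := hi 0 (π q 0) (Ne.symm hne')
    rw [← h2, inf_idem] at h3
    exact hne 0 h3
  -- `q² = 1` on the lines
  have hq2 : ∀ q : ↥Y, (q : G) ∈ Q → π q * π q = 1 := by
    intro q hq
    rw [← map_mul]
    refine ker_le hW hF hne hi hc fun w hw => ?_
    have h1 : ((q * q : ↥Y) : G) * w * ((q * q : ↥Y) : G)⁻¹ * w⁻¹ = 1 := comm_iff.2 (h.sq_comm c hq hw)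
    rw [h1]; exact one_mem _
  -- free on the other lines
  have hfree : ∀ q : ↥Y, (q : G) ∈ Q → ∀ i, i ≠ 0 → π q i = i → (q : G) ∈ centralizer (W : Set G) := by
    intro q hq i hi0 hqi
    obtain ⟨w, hw, hwF⟩ : ∃ w ∈ ℓ i, w ∉ F := by
      by_contra hcon
      push Not at hcon
      exact hne i (le_antisymm hcon (hF i))
    have hwV : w ∉ V j ⊔ F := by
      intro h2
      apply hwF
      rw [← hi i 0 hi0, h0]
      exact ⟨hw, h2⟩
    have h2 : (q : G) * w * (q : G)⁻¹ * w⁻¹ ∈ F := by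
      have h3 : (q : G) * w * (q : G)⁻¹ ∈ cj (q : G) (ℓ i) := mem_cj' hw
      rw [hc, hqi] at h3
      have h4 : (q : G) * w * (q : G)⁻¹ * w⁻¹ ∈ ℓ i := (ℓ i).mul_mem h3 ((ℓ i).inv_mem hw)
      have h5 : (q : G) * w * (q : G)⁻¹ * w⁻¹ ∈ ℓ 0 := by
        rw [h0]
        exact h.quad _ hq w (hW i hw)
      rw [← hi i 0 hi0]
      exact mem_inf.2 ⟨h4, h5⟩
    rw [mem_centralizer_iff]
    intro u hu
    exact (h.free _ hq w (hW i hw) hwV h2 u hu).symm
  -- transitive on the other lines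
  have hqt : ∀ i : Fin 5, i ≠ 0 → ∀ k : Fin 5, k ≠ 0 → ∃ q : ↥Y, (q : G) ∈ Q ∧ π q i = k := by
    intro i hi0 k hk0
    set K : Subgroup ↥Q := (Q ⊓ centralizer (W : Set G)).subgroupOf Q with hK
    have hcard : Nat.card (↥Q ⧸ K) = 4 := by
      have h1 := Subgroup.card_mul_index K
      have h2 : Nat.card K = Nat.card ↥(Q ⊓ centralizer (W : Set G)) :=
        Nat.card_congr (subgroupOfEquivOfLe inf_le_left).toEquiv
      have h3 := h.cardQ
      have h4 : 0 < Nat.card ↥(Q ⊓ centralizer (W : Set G)) := Nat.card_pos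
      rw [h2, h3, mul_comm] at h1
      have h5 : K.index = 4 := Nat.eq_of_mul_eq_mul_right h4 h1
      exact h5
    let e : ↥Q → ↥Y := fun q => ⟨(q : G), hQY q.2⟩
    have hnz : ∀ q : ↥Q, π (e q) i ≠ 0 := by
      intro q hq
      apply hi0
      have h1 := hq0 (e q) q.2
      exact (π (e q)).injective (hq.trans h1.symm)
    let f : ↥Q ⧸ K → {k : Fin 5 // k ≠ 0} := fun x => ⟨π (e x.out) i, hnz _⟩
    have hinj : Function.Injective f := by
      intro x y hxy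
      have h1 : π (e x.out) i = π (e y.out) i := congrArg Subtype.val hxy
      have h2 : π (e (x.out⁻¹ * y.out)) i = i := by
        have h3 : e (x.out⁻¹ * y.out) = (e x.out)⁻¹ * e y.out := rfl
        rw [h3, map_mul, map_inv, Equiv.Perm.mul_apply, ← h1]
        simp
      have h4 := hfree _ (x.out⁻¹ * y.out).2 i hi0 h2
      have h5 : x.out⁻¹ * y.out ∈ K := mem_subgroupOf.2 ⟨(x.out⁻¹ * y.out).2, h4⟩
      rw [← QuotientGroup.eq] at h5
      rw [← x.out_eq', ← y.out_eq']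
      exact h5
    have hbij := hinj.bijective_of_nat_card_le (by
      rw [hcard, Nat.card_eq_fintype_card]
      decide)
    obtain ⟨x, hx⟩ := hbij.2 ⟨k, hk0⟩
    exact ⟨e x.out, x.out.2, congrArg Subtype.val hx⟩
  -- the index of `O₂(Y)` in the kernel is odd
  have hko : Odd (((o2 Y).subgroupOf Y).relIndex π.ker) := by
    have h2 : B.subgroupOf Y ⊓ π.ker ≤ (o2 Y).subgroupOf Y := by
      rintro b ⟨hb, hbk⟩
      rw [mem_subgroupOf]
      exact h.mem_o2_of c (mem_subgroupOf.1 hb) (hk b hbk)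
    have h3 : ¬ 2 ∣ (B.subgroupOf Y).index := ChoiceSit.syl_not_dvd (h.syl c)
    have h4 : (B.subgroupOf Y).relIndex (π.ker ⊔ B.subgroupOf Y) * (π.ker ⊔ B.subgroupOf Y).index =
        (B.subgroupOf Y).index := relIndex_mul_index le_sup_right
    have h5 : (B.subgroupOf Y).relIndex (π.ker ⊔ B.subgroupOf Y) = (B.subgroupOf Y).relIndex π.ker :=
      relIndex_sup_normal _ _
    have h6 : (B.subgroupOf Y ⊓ π.ker).relIndex π.ker = (B.subgroupOf Y).relIndex π.ker := inf_relIndex_right _ _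
    have h7 : (B.subgroupOf Y ⊓ π.ker).relIndex ((o2 Y).subgroupOf Y) * ((o2 Y).subgroupOf Y).relIndex π.ker =
        (B.subgroupOf Y ⊓ π.ker).relIndex π.ker := relIndex_mul_relIndex _ _ _ h2 hDle
    rw [← Nat.not_even_iff_odd, even_iff_two_dvd]
    intro h8
    apply h3
    rw [← h4, h5, ← h6, ← h7]
    exact Dvd.dvd.mul_right (Dvd.dvd.mul_left h8 _) _
  -- the kernel is solvable
  have hsol : Group.IsSolvable ↥π.ker := by
    obtain ⟨M₀, hM₀, hmax⟩ := h.min.exists_max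
    have hnD : ((o2 Y).subgroupOf Y).Normal := normal_subgroupOf_of_le_normalizer (ChoiceSit.le_normalizer_o2 Y)
    have hB' : IsPGroup 2 (B.subgroupOf Y) := c.B2.comap_of_injective Y.subtype Y.subtype_injective
    have hD' : IsPGroup 2 ((o2 Y).subgroupOf Y) :=
      (ChoiceSit.isPGroup_o2 Y).comap_of_injective Y.subtype Y.subtype_injective
    refine sol_of_min (M := M₀.subgroupOf Y) hnD hD' hB' ?_ (fun X' hX' hne' => ?_) hDle hko ?_
    · intro e
      rw [subgroupOf_eq_top] at e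
      exact hM₀.not_ge e
    · have h1 : X'.map Y.subtype ≤ M₀ := by
        refine hmax _ ?_ (lt_of_le_of_ne (map_subtype_le _) fun e => hne' ?_)
        · intro b hb
          exact ⟨⟨b, h.BY hb⟩, hX' (mem_subgroupOf.2 hb), rfl⟩
        · rw [eq_top_iff]
          rintro ⟨x, hx⟩ -
          have hx2 : x ∈ X'.map Y.subtype := e.ge hx
          obtain ⟨x', hx', e'⟩ := hx2
          have : x' = ⟨x, hx⟩ := Subtype.ext e'
          rwa [← this]
      intro x hx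
      exact mem_subgroupOf.2 (h1 ⟨x, hx, rfl⟩)
    · intro e
      refine not_two_alt (hB'.map π) (hA.trans ?_)
      have h1 : (π.ker ⊔ B.subgroupOf Y).map π = (B.subgroupOf Y).map π := by
        rw [Subgroup.map_sup, (π.ker.map_eq_bot_iff (f := π)).2 le_rfl, bot_sup_eq]
      rw [← h1, e, MonoidHom.range_eq_map]
  refine ⟨π, OddKer.Dat.of π hQY (ChoiceSit.o2_le Y) (ChoiceSit.le_normalizer_o2 Y) (ChoiceSit.isPGroup_o2 Y)
    (c.B2.to_le c.QB) hDk hko hsol ?_ hq0 hq2 hqt ((h.o2B c).trans c.BQ) ?_⟩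
  · have h1 : (Equiv.swap (0 : Fin 5) 1 * Equiv.swap 1 2) ∈ alternatingGroup (Fin 5) := by
      rw [Equiv.Perm.mem_alternatingGroup]; decide
    obtain ⟨g, hg⟩ := hA h1
    refine ⟨g, ?_⟩
    rw [hg]; decide
  · intro y hy hyn
    have h1 : cj y Q ≤ S := by
      have h2 : cj y Q ≤ cj y (Q ⊔ o2 Y) := cj_mono y le_sup_left
      rw [cj_eq_of_mem_normalizer hyn] at h2
      exact h2.trans ((sup_le c.QB (h.o2B c)).trans c.BS)
    rw [mem_normalizer_iff_cj]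
    exact c.wc y h1

/-- **THEOREM TOR (0)**: a vector of the section `N / N₀` of `X` fixed by `N_Y(Q)` is fixed by `Y`. -/
theorem odd_ker [Finite G] (c : Cx S B Q M X L V z) (h : TY S B Q M X V z 𝓦 j Y W F) {N N₀ : Subgroup G}
    (hN : N ≤ X) (h01 : N₀ ≤ N) (nN : Y ≤ normalizer (N : Set G)) (nN0 : Y ≤ normalizer (N₀ : Set G))
    (hQ : ∀ n ∈ N, ∀ a ∈ Q, ∀ b ∈ Q, b * (a * n * a⁻¹ * n⁻¹) * b⁻¹ * (a * n * a⁻¹ * n⁻¹)⁻¹ ∈ N₀) {v : G} (hv : v ∈ N)
    (hf : ∀ y ∈ Y, y ∈ normalizer (Q : Set G) → y * v * y⁻¹ * v⁻¹ ∈ N₀) : ∀ y ∈ Y, y * v * y⁻¹ * v⁻¹ ∈ N₀ := by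
  obtain ⟨π, d⟩ := h.datKer c
  refine OddKer.sect d (h.QY c) ⟨h01, nN, nN0, fun a ha b hb => ?_, fun a ha => ?_⟩
    (fun b hb a ha x hx => hQ x hx a ha b hb) hv hf
  · have e : ⁅a, b⁆ = 1 := commutatorElement_eq_one_iff_mul_comm.2 (c.xc (hN ha) (hN hb))
    rw [e]; exact one_mem _
  · rw [c.Xs a (hN ha)]; exact one_mem _

/-- `KerY Q X Y` of `OneTY.lean` (helper150), unfolded -/
theorem ker_all [Finite G] (c : Cx S B Q M X L V z) (h : TY S B Q M X V z 𝓦 j Y W F) :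
    ∀ N N₀ : Subgroup G, N ≤ X → N₀ ≤ N → Y ≤ normalizer (N : Set G) → Y ≤ normalizer (N₀ : Set G) →
      (∀ n ∈ N, ∀ y ∈ o2 Y, y * n * y⁻¹ * n⁻¹ ∈ N₀) →
      (∀ n ∈ N, ∀ a ∈ Q, ∀ b ∈ Q, b * (a * n * a⁻¹ * n⁻¹) * b⁻¹ * (a * n * a⁻¹ * n⁻¹)⁻¹ ∈ N₀) →
      ∀ v ∈ N, (∀ y ∈ Y, y ∈ normalizer (Q : Set G) → y * v * y⁻¹ * v⁻¹ ∈ N₀) → ∀ y ∈ Y, y * v * y⁻¹ * v⁻¹ ∈ N₀ :=
  fun _ _ hN h01 nN nN0 _ hQ _ hv hf => h.odd_ker c hN h01 nN nN0 hQ hv hf

/-- helper594's `Ker0` for a `Y`-invariant subgroup of `X` on which `Q` is quadratic -/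
theorem ker0 [Finite G] (c : Cx S B Q M X L V z) (h : TY S B Q M X V z 𝓦 j Y W F) {A : Subgroup G} (hA : A ≤ X)
    (nA : Y ≤ normalizer (A : Set G)) (qd : ∀ q ∈ Q, ∀ q' ∈ Q, ∀ x ∈ A, ⁅q, ⁅q', x⁆⁆ = 1) : OddKer.Ker0 Y Q A := by
  obtain ⟨π, d⟩ := h.datKer c
  exact OddKer.ker0 d (h.QY c) nA (fun a ha b hb => c.xc (hA ha) (hA hb)) (fun a ha => c.Xs a (hA ha)) qd

end TY

end Cfsg.Agent.Omega.NO3S.WY.Tor

end

section


/-!
# (TOR) for one block `S₅`: the data at the base triple `{0, 1, 4}`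

`CaseL S P`, `V_P` = the even subsets of the letters `{0,..,4}` (`Five S P p`: `p i` = the complement of the letter `i`,
`Ω₁(Z(S)) = ⟨p 4⟩`, `B = C_S(nn p)`, `nn p = {0, 1}`, `aa p = {2, 3}`).

`SBase` : `Y` is a weird minimal parabolic over `B`, `Y ≤ C(aa p)`, `K = O²(Y)`, `W = ⟨(nn p)^K⟩`, `W ∩ V_P` is the line
of `W` centralised by `Q = O₂(P)`, `A ≤ Q` is a member of the family (a `W_F`) which moves `W`.

`SBase.false_of` is in `Tor/SEnd.lean`.
-/

set_option autoImplicit false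
set_option linter.unusedSectionVars false

namespace Cfsg.Agent.Omega.NO3S.WY.TorFive

open Subgroup Cfsg Cfsg.Agent.ZN Cfsg.Agent.ZN.ChoiceBase
open Cfsg.Agent.Omega.FFThm (OffM ElemM NoOverM SymKM)
open Cfsg.Agent.Omega.FrameFF (cv)
open Cfsg.Agent.Omega.NO1.BestOff (Best)
open Cfsg.Agent.Omega.NO3S.Level (CaseL)
open Cfsg.Agent.Omega.NTwo (nn aa)

universe u

variable {G : Type u} [Group G] [Finite G]

/-- The base triple `{0, 1, 4}`. -/
structure SBase (S : Sylow 2 G) (P : Subgroup G) (p : Fin 5 → G) (M X W K A : Subgroup G) : Prop where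
  cl : CaseL S P
  sym : Nonempty (SymKM (S : Subgroup G) P (zl (S : Subgroup G) P) (cv (S : Subgroup G) P) 1 2)
  five : Sym.Exit.Five S P p
  PM : P ≤ M
  MX : M ≤ normalizer (X : Set G)
  Xc : X ≤ centralizer (X : Set G)
  Xs : ∀ x ∈ X, x ^ 2 = 1
  LX : zl (S : Subgroup G) P ≤ X
  KM : K ≤ M
  WX : W ≤ X
  nW : nn p ∈ W
  vW : p 0 * p 4 ∈ W
  /-- `W = ⟨(nn p)^K⟩` -/
  gen : ∀ U : Subgroup G, nn p ∈ U → K ≤ normalizer (U : Set G) → W ≤ U
  KW : K ≤ normalizer (W : Set G)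
  QW : o2 P ≤ normalizer (W : Set G)
  /-- `O²(Y)` centralises `C_L((0 1 4)) = ⟨p 2, p 3⟩` -/
  K2 : ∀ k ∈ K, k * p 2 * k⁻¹ = p 2
  K3 : ∀ k ∈ K, k * p 3 * k⁻¹ = p 3
  /-- `C_Q(W)` is normal in `Y` -/
  PI : K ≤ normalizer ((o2 P ⊓ centralizer (W : Set G) : Subgroup G) : Set G)
  /-- `W ∩ L ≤ V_{014} ⟨aa p⟩` -/
  WL : W ⊓ zl (S : Subgroup G) P ≤ closure {p 0 * p 1, p 0 * p 4, aa p}
  /-- `[W, Q] ≤ W ∩ L`, `C_W(q) ≤ W ∩ L` for `q ∈ Q - C(W)` -/
  quad : ∀ q ∈ o2 P, ∀ w ∈ W, q * w * q⁻¹ * w⁻¹ ∈ zl (S : Subgroup G) P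
  free : ∀ q ∈ o2 P, ∀ w ∈ W, w ∉ zl (S : Subgroup G) P → q * w = w * q → q ∈ centralizer (W : Set G)
  /-- `|W : W ∩ L| ≥ 4`, `|Q : C_Q(W)| ≤ 4` -/
  idxW : 4 ≤ (zl (S : Subgroup G) P).relIndex W
  idxQ : (centralizer (W : Set G)).relIndex (o2 P) ≤ 4
  /-- `V_{014} ≤ [W, Q]` -/
  comm : ∀ Z' : Subgroup G, CIn (o2 P) W Z' → p 0 * p 1 ∈ Z' ∧ p 0 * p 4 ∈ Z'
  /-- the lines of `W / F` meet trivially -/
  ti : ∀ g ∈ K ⊔ o2 P, ∀ x : G, (x = p 0 * p 1 ∨ x = p 0 * p 4 ∨ x = p 1 * p 4) →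
    g * x * g⁻¹ ∈ zl (S : Subgroup G) P → g ∈ normalizer ((W ⊓ zl (S : Subgroup G) P : Subgroup G) : Set G)
  /-- `A` moves a line through three different elements -/
  reg : ∃ y ∈ K ⊔ o2 P, ∃ t ∈ A, ∃ t' ∈ A,
    t ∉ normalizer (cj y (W ⊓ zl (S : Subgroup G) P) : Set G) ∧
    t' ∉ normalizer (cj y (W ⊓ zl (S : Subgroup G) P) : Set G) ∧
    t * t' ∉ normalizer (cj y (W ⊓ zl (S : Subgroup G) P) : Set G)
  /-- an element of `B` acting as the transposition `(0 1)` acts on `W / F` as an involution of `S₅ - A₅` -/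
  mvB : ∀ b ∈ (S : Subgroup G), b * p 0 * b⁻¹ = p 1 → b * p 1 * b⁻¹ = p 0 → b * p 2 * b⁻¹ = p 2 →
    b * p 3 * b⁻¹ = p 3 → 2 < (centralizer ({b} : Set G)).relIndex W
  AQ : A ≤ o2 P
  mv : ¬ A ≤ centralizer (W : Set G)
  /-- (*) for the conjugates of `A` under `P`, `D = ⟨p 4⟩` -/
  best : ∀ g ∈ P, ∀ U ≤ X, U ≤ o2 (centralizer (zc (S : Subgroup G) : Set G)) → Best U (cj g A)
  qd : ∀ g ∈ P, ∀ x ∈ X, x ∈ o2 (centralizer (zc (S : Subgroup G) : Set G)) → ∀ a ∈ cj g A, ∀ b ∈ cj g A,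
    (a * x * a⁻¹ * x⁻¹) * b = b * (a * x * a⁻¹ * x⁻¹)

end Cfsg.Agent.Omega.NO3S.WY.TorFive

end

section


/-!
# Five points: small facts for (TOR), one block `S₅`

* `not_mem` : `p a p d ∉ ⟨p a p b, p a p c, p d p e⟩`-type statements;
* `swap_of` : `b ∈ S` with `|L : C_L(b)| ≤ 2`, moving `L = ⟨p i⟩`, acts as `(0 1)` or `(2 3)`.
-/

set_option autoImplicit false
set_option linter.unusedSectionVars false

namespace Cfsg.Agent.Omega.NO3S.WY.TorFive

open Subgroup Cfsg Cfsg.Agent.ZN Cfsg.Agent.ZN.ChoiceBase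
open Cfsg.Agent.Omega.NTwo (nn aa Fv Std)

universe u

variable {G : Type u} [Group G] {S P : Subgroup G} {p : Fin 5 → G}

/-- `{a, d} ∉ ⟨{a, b}, {a, c}, {e, d}⟩` for `e ≠ d` different from `a, b, c` -/
theorem not_mem (h : Fv P p) {a b c d e : Fin 5} (had : a ≠ d) (hae : a ≠ e) (hbd : b ≠ d) (hbe : b ≠ e)
    (hcd : c ≠ d) (hce : c ≠ e) (hde : d ≠ e) :
    p a * p d ∉ closure ({p a * p b, p a * p c, p e * p d} : Set G) := by
  intro hm
  obtain ⟨g, -, hg⟩ := h.full (Equiv.swap d e)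
  have ha : g * p a * g⁻¹ = p a := by rw [hg, Equiv.swap_apply_of_ne_of_ne had hae]
  have hb : g * p b * g⁻¹ = p b := by rw [hg, Equiv.swap_apply_of_ne_of_ne hbd hbe]
  have hc : g * p c * g⁻¹ = p c := by rw [hg, Equiv.swap_apply_of_ne_of_ne hcd hce]
  have hd : g * p d * g⁻¹ = p e := by rw [hg, Equiv.swap_apply_left]
  have he : g * p e * g⁻¹ = p d := by rw [hg, Equiv.swap_apply_right]
  have h1 : closure ({p a * p b, p a * p c, p e * p d} : Set G) ≤ centralizer ({g} : Set G) := by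
    rw [closure_le]
    rintro x hx
    rw [SetLike.mem_coe, mem_centralizer_singleton_iff]
    have key : g * x * g⁻¹ = x := by
      rcases hx with rfl | rfl | hx
      · rw [NTwo.cm, ha, hb]
      · rw [NTwo.cm, ha, hc]
      · rw [Set.mem_singleton_iff.1 hx, NTwo.cm, hd, he, h.comm]
    exact (NTwo.comm_iff.1 key).symm
  have h2 := mem_centralizer_singleton_iff.1 (h1 hm)
  have h3 : g * (p a * p d) * g⁻¹ = p a * p d := NTwo.comm_iff.2 h2.symm
  rw [NTwo.cm, ha, hd] at h3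
  exact hde (h.inj (mul_left_cancel h3)).symm

/-- a permutation which moves at most one pair -/
theorem perm_aux : ∀ σ : Equiv.Perm (Fin 5), σ 4 = 4 → σ ≠ 1 →
    (∀ i j, σ i ≠ i → σ j ≠ j → (σ i = i ∨ σ i = j) ∨ i = j) →
    (((σ 0 = 0 ∧ σ 1 = 1) ∨ (σ 0 = 1 ∧ σ 1 = 0)) ∨ ((σ 0 = 2 ∧ σ 1 = 3) ∨ (σ 0 = 3 ∧ σ 1 = 2))) →
    σ = Equiv.swap 0 1 ∨ σ = Equiv.swap 2 3 := by
  decide +kernel

/-- `p i p j = p k p l`, `i ≠ j` ⟹ `{i, j} = {k, l}` -/
theorem pair_eq (h : Fv P p) {i j k l : Fin 5} (hij : i ≠ j) (e : p i * p j = p k * p l) :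
    (k = i ∧ l = j) ∨ (k = j ∧ l = i) := by
  by_cases hki : k = i
  · subst hki
    exact Or.inl ⟨rfl, (h.inj (mul_left_cancel e)).symm⟩
  by_cases hkj : k = j
  · subst hkj
    rw [h.comm] at e
    exact Or.inr ⟨rfl, (h.inj (mul_left_cancel e)).symm⟩
  exfalso
  -- `l ∉ {i, j}` too; a fifth letter `m` gives a transposition `(k m)`
  have hkl : k ≠ l := by
    rintro rfl
    rw [h.sq] at e
    exact h.mul_ne_one hij e
  obtain ⟨m, hm1, hm2, hm3⟩ := Fv.exists_fourth i j k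
  by_cases hml : m = l
  · -- swap `k` with the fifth letter
    have hli : l ≠ i := by rintro rfl; exact hm1 hml
    have hlj : l ≠ j := by rintro rfl; exact hm2 hml
    obtain ⟨m', h1, h2, h3, h4⟩ : ∃ m' : Fin 5, m' ≠ i ∧ m' ≠ j ∧ m' ≠ k ∧ m' ≠ l := by
      have : ∀ i j k l : Fin 5, ∃ m' : Fin 5, m' ≠ i ∧ m' ≠ j ∧ m' ≠ k ∧ m' ≠ l := by decide
      exact this i j k l
    obtain ⟨g, -, hg⟩ := h.full (Equiv.swap k m')
    have h5 := congrArg (fun x => g * x * g⁻¹) e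
    simp only [NTwo.cm] at h5
    rw [hg i, hg j, hg k, hg l, Equiv.swap_apply_of_ne_of_ne (Ne.symm hki) h1.symm,
      Equiv.swap_apply_of_ne_of_ne (Ne.symm hkj) h2.symm, Equiv.swap_apply_left,
      Equiv.swap_apply_of_ne_of_ne hkl.symm h4.symm, e] at h5
    exact h3 (h.inj (mul_right_cancel h5)).symm
  · obtain ⟨g, -, hg⟩ := h.full (Equiv.swap k m)
    have h5 := congrArg (fun x => g * x * g⁻¹) e
    simp only [NTwo.cm] at h5
    rw [hg i, hg j, hg k, hg l, Equiv.swap_apply_of_ne_of_ne (Ne.symm hki) hm1.symm,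
      Equiv.swap_apply_of_ne_of_ne (Ne.symm hkj) hm2.symm, Equiv.swap_apply_left,
      Equiv.swap_apply_of_ne_of_ne hkl.symm (Ne.symm hml), e] at h5
    exact hm3 (h.inj (mul_right_cancel h5)).symm

/-- `b ∈ S` with `|L : C_L(b)| ≤ 2`, `b ∉ C(L)`, acts as `(0 1)` or `(2 3)`. -/
theorem swap_of [Finite G] (h : Std S P p) {L : Subgroup G} (hL : L = closure (Set.range p)) {b : G} (hb : b ∈ S)
    (hmv : b ∉ centralizer (L : Set G)) (hidx : (centralizer ({b} : Set G)).relIndex L ≤ 2) :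
    (∀ i, b * p i * b⁻¹ = p (Equiv.swap 0 1 i)) ∨ ∀ i, b * p i * b⁻¹ = p (Equiv.swap 2 3 i) := by
  obtain ⟨σ, hσ⟩ := h.perm b (h.le hb)
  have hpL : ∀ i, p i ∈ L := fun i => by rw [hL]; exact subset_closure ⟨i, rfl⟩
  -- two letters which are moved
  have hC : ∀ x, x ∈ L → x ∉ centralizer ({b} : Set G) → ∀ y, y ∈ L → y ∉ centralizer ({b} : Set G) →
      x * y ∈ centralizer ({b} : Set G) := by
    intro x hx hx' y hy hy'
    have h0 : (centralizer ({b} : Set G)).relIndex L ≠ 0 := index_ne_zero_of_finite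
    have h1 : (centralizer ({b} : Set G)).relIndex L ≠ 1 := fun e => hx' (relIndex_eq_one.1 e hx)
    have h2 : (centralizer ({b} : Set G)).relIndex L = 2 := by omega
    have h3 : ((centralizer ({b} : Set G)).subgroupOf L).index = 2 := h2
    have h4 := Subgroup.mul_mem_iff_of_index_two h3 (a := ⟨x, hx⟩) (b := ⟨y, hy⟩)
    rw [mem_subgroupOf, mem_subgroupOf, mem_subgroupOf] at h4
    exact h4.2 ⟨fun h5 => absurd h5 hx', fun h5 => absurd h5 hy'⟩
  have hmem : ∀ i, p i ∈ centralizer ({b} : Set G) ↔ σ i = i := by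
    intro i
    rw [mem_centralizer_singleton_iff]
    constructor
    · intro h1
      have h2 : b * p i * b⁻¹ = p i := NTwo.comm_iff.2 h1.symm
      rw [hσ] at h2
      exact h.inj h2
    · intro h1
      have h2 : b * p i * b⁻¹ = p i := by rw [hσ, h1]
      exact (NTwo.comm_iff.1 h2).symm
  have h4 : σ 4 = 4 := h.inj (by rw [← hσ, h.fix b hb])
  have h1 : σ ≠ 1 := by
    rintro rfl
    apply hmv
    rw [hL, centralizer_closure]
    rw [mem_centralizer_iff]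
    rintro _ ⟨i, rfl⟩
    have h2 : b * p i * b⁻¹ = p i := hσ i
    exact (NTwo.comm_iff.1 h2).symm
  have h5 : ∀ i j, σ i ≠ i → σ j ≠ j → (σ i = i ∨ σ i = j) ∨ i = j := by
    intro i j hi hj
    by_cases hij : i = j
    · exact Or.inr hij
    left; right
    have h6 := hC (p i) (hpL i) (fun h7 => hi ((hmem i).1 h7)) (p j) (hpL j) (fun h7 => hj ((hmem j).1 h7))
    rw [mem_centralizer_singleton_iff] at h6
    have h7 : b * (p i * p j) * b⁻¹ = p i * p j := NTwo.comm_iff.2 h6.symm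
    rw [NTwo.cm, hσ, hσ] at h7
    rcases pair_eq h.toFv hij h7.symm with h8 | h8
    · exact absurd h8.1 hi
    · exact h8.1
  have h6 : ((σ 0 = 0 ∧ σ 1 = 1) ∨ (σ 0 = 1 ∧ σ 1 = 0)) ∨ ((σ 0 = 2 ∧ σ 1 = 3) ∨ (σ 0 = 3 ∧ σ 1 = 2)) := by
    rcases h.part b hb with h7 | h7
    · rw [NTwo.cm, hσ, hσ] at h7
      left
      exact pair_eq h.toFv (by decide) h7.symm
    · rw [NTwo.cm, hσ, hσ] at h7
      right
      exact pair_eq h.toFv (by decide) h7.symm
  rcases perm_aux σ h4 h1 h5 h6 with rfl | rfl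
  · exact Or.inl hσ
  · exact Or.inr hσ

end Cfsg.Agent.Omega.NO3S.WY.TorFive

end

section


/-!
# (TOR) for one block `S₅`: the end (helper499 #25327 (2)-(5) = helper150 #25227 (c)-(e))

The conjugates `W^g`, `K^g` (`g ∈ P` moves the triple `{0, 1, 4}` into `{0, 1, 2, 3}`) lie in `C_M(p 4)`;
`R = ⟨C_P(p 4), K^g⟩`, `N = ⟨V_P^R⟩`: this is `TorFive.Five`.

* **`SBase.false_of`**.
-/

set_option autoImplicit false
set_option linter.unusedSectionVars false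

namespace Cfsg.Agent.Omega.NO3S.WY.TorFive

open Subgroup Cfsg Cfsg.Agent.ZN Cfsg.Agent.ZN.ChoiceBase
open Cfsg.Agent.Omega.FFThm (OffM ElemM NoOverM SymKM ActsSym)
open Cfsg.Agent.Omega.FrameFF (cv)
open Cfsg.Agent.Omega.NO1.BestOff (Best)
open Cfsg.Agent.Omega.NO3S.Level (CaseL)
open Cfsg.Agent.Omega.NTwo (nn aa)
open Cfsg.Agent.Omega.NO3b.EZero (cl cj_le_cl le_cl cl_le le_normalizer_cl cent_symm)
open Cfsg.Agent.Omega.SQ1.Bau (mem_sup_norm)
open Cfsg.Agent.Omega.NO3S.Fld (relIndex_mul_card)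

universe u

variable {G : Type u} [Group G] [Finite G]

/-! ### Conjugation -/

theorem relIndex_cj (g : G) (C X : Subgroup G) : (cj g C).relIndex (cj g X) = C.relIndex X := by
  have h1 := relIndex_mul_card X C
  have h2 := relIndex_mul_card (cj g X) (cj g C)
  rw [← cj_inf, card_cj, card_cj, ← h1] at h2
  exact Nat.eq_of_mul_eq_mul_right Nat.card_pos h2

theorem norm_cj {g : G} {A B : Subgroup G} (h : A ≤ normalizer (B : Set G)) :
    cj g A ≤ normalizer ((cj g B : Subgroup G) : Set G) := by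
  rw [← cj_normalizer]; exact cj_mono g h

theorem mem_cj_conj {g x : G} {A : Subgroup G} (h : x ∈ A) : g * x * g⁻¹ ∈ cj g A := by
  rw [mem_cj]
  have e : g⁻¹ * (g * x * g⁻¹) * g = x := by group
  rwa [e]

theorem cj_cent_sing (g x : G) : cj g (centralizer ({x} : Set G)) = centralizer ({g * x * g⁻¹} : Set G) := by
  ext y
  rw [mem_cj, mem_centralizer_singleton_iff, mem_centralizer_singleton_iff]
  constructor
  · intro h
    have := congrArg (fun z => g * z * g⁻¹) h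
    have e1 : g * (g⁻¹ * y * g * x) * g⁻¹ = y * (g * x * g⁻¹) := by group
    have e2 : g * (x * (g⁻¹ * y * g)) * g⁻¹ = g * x * g⁻¹ * y := by group
    simp only [e1, e2] at this
    exact this
  · intro h
    have := congrArg (fun z => g⁻¹ * z * g) h
    have e1 : g⁻¹ * (y * (g * x * g⁻¹)) * g = g⁻¹ * y * g * x := by group
    have e2 : g⁻¹ * (g * x * g⁻¹ * y) * g = x * (g⁻¹ * y * g) := by group
    simp only [e1, e2] at this
    exact this

/-- the index set: the elements of `P` which move the triple `{0, 1, 4}` into `{0, 1, 2, 3}` -/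
def Ix (P : Subgroup G) (p : Fin 5 → G) : Type u := {g : G // g ∈ P ∧ (g * p 2 * g⁻¹ = p 4 ∨ g * p 3 * g⁻¹ = p 4)}

/-- `C_P(z)` -/
abbrev R0 (S : Sylow 2 G) (P : Subgroup G) : Subgroup G := P ⊓ centralizer (zc (S : Subgroup G) : Set G)

/-- `R` -/
abbrev RR (S : Sylow 2 G) (P K : Subgroup G) (p : Fin 5 → G) : Subgroup G := R0 S P ⊔ ⨆ g : Ix P p, cj g.1 K

/-- `N` -/
abbrev NN (S : Sylow 2 G) (P K : Subgroup G) (p : Fin 5 → G) : Subgroup G := cl (zl (S : Subgroup G) P) (RR S P K p)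

namespace SBase

variable {S : Sylow 2 G} {P : Subgroup G} {p : Fin 5 → G} {M X W K A : Subgroup G} (b : SBase S P p M X W K A)
include b

theorem PL : P ≤ normalizer (zl (S : Subgroup G) P : Set G) := le_normalizer_zl _ _

theorem PQ : P ≤ normalizer (o2 P : Set G) := le_normalizer_o2 _

theorem SP : (S : Subgroup G) ≤ P := b.five.std.le

theorem QS : o2 P ≤ (S : Subgroup G) := b.cl.pss.par.isLoc.o2_le S

theorem QL : o2 P ≤ centralizer (zl (S : Subgroup G) P : Set G) := by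
  rw [← b.cl.zc_eq]; exact Level.le_centralizer_zc _

theorem pL (i : Fin 5) : p i ∈ zl (S : Subgroup G) P := by
  rw [b.five.gen]; exact subset_closure ⟨i, rfl⟩

theorem low : zl (S : Subgroup G) P ≤ o2 (centralizer (zc (S : Subgroup G) : Set G)) := b.cl.low P b.cl.pss.par

theorem p4 : p 4 ∈ zc (S : Subgroup G) := by
  rw [ChoiceBase.mem_zc]
  refine ⟨b.five.std.mem 4, by rw [pow_two]; exact b.five.std.sq 4, fun y hy => ?_⟩
  exact NTwo.comm_iff.1 (b.five.std.fix y hy)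

theorem zc_ne : zc (S : Subgroup G) ≠ ⊥ := fun h => b.five.std.ne 4 (by
  have := b.p4
  rw [h] at this
  exact mem_bot.1 this)

/-- `x ∈ C(Ω₁(Z(S)))` iff `x` centralises `p 4` -/
theorem mem_cz {x : G} (h : x * p 4 * x⁻¹ = p 4) : x ∈ centralizer (zc (S : Subgroup G) : Set G) := by
  rw [mem_centralizer_iff]
  intro z hz
  rcases b.five.std.zc4 z hz with rfl | rfl
  · rw [one_mul, mul_one]
  · exact (NTwo.comm_iff.1 h).symm

theorem gP (g : Ix P p) : g.1 ∈ P := g.2.1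

theorem cjQ (g : Ix P p) : cj g.1 (o2 P) = o2 P := cj_eq_of_mem_normalizer (b.PQ g.2.1)

theorem cjL (g : Ix P p) : cj g.1 (zl (S : Subgroup G) P) = zl (S : Subgroup G) P :=
  cj_eq_of_mem_normalizer (b.PL g.2.1)

theorem cjK_cz (g : Ix P p) : cj g.1 K ≤ centralizer (zc (S : Subgroup G) : Set G) := by
  intro x hx
  apply b.mem_cz
  have hk := mem_cj.1 hx
  obtain ⟨g, hg, h | h⟩ := g
  · have h2 := b.K2 _ hk
    simp only at hx hk h2 ⊢
    rw [← h]
    calc x * (g * p 2 * g⁻¹) * x⁻¹ = g * (g⁻¹ * x * g * p 2 * (g⁻¹ * x * g)⁻¹) * g⁻¹ := by group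
      _ = _ := by rw [h2]
  · have h2 := b.K3 _ hk
    simp only at hx hk h2 ⊢
    rw [← h]
    calc x * (g * p 3 * g⁻¹) * x⁻¹ = g * (g⁻¹ * x * g * p 3 * (g⁻¹ * x * g)⁻¹) * g⁻¹ := by group
      _ = _ := by rw [h2]

theorem cjK_M (g : Ix P p) : cj g.1 K ≤ M := by
  have h1 := cj_mono g.1 b.KM
  rwa [cj_eq_of_mem_normalizer (le_normalizer (b.PM g.2.1))] at h1

theorem RR_M : RR S P K p ≤ M := sup_le (inf_le_left.trans b.PM) (iSup_le b.cjK_M)

theorem RR_cz : RR S P K p ≤ centralizer (zc (S : Subgroup G) : Set G) := sup_le inf_le_right (iSup_le b.cjK_cz)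

theorem S_RR : (S : Subgroup G) ≤ RR S P K p :=
  (le_inf b.SP fun x hx => b.mem_cz (b.five.std.fix x hx)).trans le_sup_left

theorem NN_X : NN S P K p ≤ X := cl_le fun r hr => by
  have h1 := cj_mono r b.LX
  rwa [cj_eq_of_mem_normalizer (b.MX (b.RR_M hr))] at h1

theorem NN_low : NN S P K p ≤ o2 (centralizer (zc (S : Subgroup G) : Set G)) := cl_le fun r hr => by
  have h1 := cj_mono r b.low
  rwa [cj_eq_of_mem_normalizer (le_normalizer_o2 _ (b.RR_cz hr))] at h1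

theorem L_NN : zl (S : Subgroup G) P ≤ NN S P K p := le_cl _ _

theorem RN : RR S P K p ≤ normalizer (NN S P K p : Set G) := le_normalizer_cl _ _

theorem WN (g : Ix P p) : cj g.1 W ≤ NN S P K p := by
  have h1 : W ≤ cj g.1⁻¹ (NN S P K p) := by
    refine b.gen _ ?_ ?_
    · rw [mem_cj, inv_inv]
      exact b.L_NN ((mem_normalizer_iff.1 (b.PL g.2.1) _).1 (mul_mem (b.pL 0) (b.pL 1)))
    · have h2 : cj g.1 K ≤ RR S P K p := (le_iSup (fun g : Ix P p => cj g.1 K) g).trans le_sup_right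
      have h3 := norm_cj (g := g.1⁻¹) (h2.trans b.RN)
      rwa [cj_inv_cj] at h3
  have h2 := cj_mono g.1 h1
  rwa [cj_cj_inv] at h2

/-- `Q` normalises the `W^g` -/
theorem QWg (g : Ix P p) : o2 P ≤ normalizer ((cj g.1 W : Subgroup G) : Set G) := by
  have h1 := norm_cj (g := g.1) b.QW
  rwa [b.cjQ g] at h1

theorem PIg (g : Ix P p) : o2 P ⊓ centralizer ((cj g.1 W : Subgroup G) : Set G) =
    cj g.1 (o2 P ⊓ centralizer (W : Set G)) := by
  rw [cj_inf, b.cjQ g, cj_centralizer]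

/-- `free` for `W^g` -/
theorem freeg (g : Ix P p) {q w : G} (hq : q ∈ o2 P) (hw : w ∈ cj g.1 W) (hwL : w ∉ zl (S : Subgroup G) P)
    (h : q * w = w * q) : q ∈ centralizer ((cj g.1 W : Subgroup G) : Set G) := by
  have h1 : g.1⁻¹ * q * g.1 ∈ o2 P := by
    rw [← b.cjQ g] at hq
    exact mem_cj.1 hq
  have h2 : g.1⁻¹ * w * g.1 ∉ zl (S : Subgroup G) P := fun h3 => hwL (by
    rw [← b.cjL g]; exact mem_cj.2 h3)
  have h3 := b.free _ h1 _ (mem_cj.1 hw) h2 (by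
    have := congrArg (fun x => g.1⁻¹ * x * g.1) h
    have e1 : g.1⁻¹ * (q * w) * g.1 = g.1⁻¹ * q * g.1 * (g.1⁻¹ * w * g.1) := by group
    have e2 : g.1⁻¹ * (w * q) * g.1 = g.1⁻¹ * w * g.1 * (g.1⁻¹ * q * g.1) := by group
    simp only [e1, e2] at this
    exact this)
  rw [← cj_centralizer]
  exact mem_cj.2 h3

theorem idxWg (g : Ix P p) : 4 ≤ (zl (S : Subgroup G) P).relIndex (cj g.1 W) := by
  have h1 := relIndex_cj g.1 (zl (S : Subgroup G) P) W
  rw [b.cjL g] at h1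
  rw [h1]; exact b.idxW

theorem idxQg (g : Ix P p) : (centralizer ((cj g.1 W : Subgroup G) : Set G)).relIndex (o2 P) ≤ 4 := by
  have h1 := relIndex_cj g.1 (centralizer (W : Set G)) (o2 P)
  rw [b.cjQ g, cj_centralizer] at h1
  rw [h1]; exact b.idxQ

/-- `C_{W^g}(A') ≤ L` if `A' ≤ Q` moves `W^g` -/
theorem idxA (g : Ix P p) {A' : Subgroup G} (hA : A' ≤ o2 P) (hne : ¬ A' ≤ centralizer ((cj g.1 W : Subgroup G) : Set G)) :
    4 ≤ (centralizer (A' : Set G)).relIndex (cj g.1 W) := by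
  obtain ⟨q, hq, hqn⟩ := SetLike.not_le_iff_exists.1 hne
  have h1 : cj g.1 W ⊓ centralizer (A' : Set G) ≤ zl (S : Subgroup G) P := by
    intro w hw
    by_contra hwL
    exact hqn (b.freeg g (hA hq) hw.1 hwL (mem_centralizer_iff.1 hw.2 q hq))
  have h2 : (zl (S : Subgroup G) P).relIndex (cj g.1 W) ≤ (cj g.1 W ⊓ centralizer (A' : Set G)).relIndex (cj g.1 W) :=
    relIndex_le_of_le_left h1 index_ne_zero_of_finite
  rw [inf_relIndex_left] at h2
  exact (b.idxWg g).trans h2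

theorem noWg (g : Ix P p) (A' : Subgroup G) (hA : A' ≤ o2 P) (hne : ¬ A' ≤ centralizer ((cj g.1 W : Subgroup G) : Set G)) :
    Nat.card A' * Nat.card ↥(cj g.1 W ⊓ centralizer (A' : Set G)) ≤
      Nat.card (cj g.1 W) * Nat.card ↥(A' ⊓ centralizer ((cj g.1 W : Subgroup G) : Set G)) := by
  rw [FFThm.relIndex_le_iff]
  refine le_trans ?_ (b.idxA g hA hne)
  exact (relIndex_le_of_le_right hA index_ne_zero_of_finite).trans (b.idxQg g)

theorem lineWg (g : Ix P p) (A' : Subgroup G) (hA : A' ≤ o2 P) (ho : OffM (cj g.1 W) A') :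
    CIn A' (cj g.1 W) (cj g.1 (W ⊓ zl (S : Subgroup G) P)) ∧ ∀ Z' : Subgroup G, CIn A' (cj g.1 W) Z' →
      cj g.1 (closure {p 0 * p 1, p 0 * p 4}) ≤ Z' := by
  have hcov : ∀ q ∈ o2 P, ∃ a ∈ A', ∃ c ∈ centralizer ((cj g.1 W : Subgroup G) : Set G), q = a * c := by
    have h1 : 4 ≤ (centralizer ((cj g.1 W : Subgroup G) : Set G)).relIndex A' :=
      (b.idxA g hA ho.ne).trans (FFThm.relIndex_le_iff.1 ho.le)
    have h2 := b.idxQg g
    set C := o2 P ⊓ centralizer ((cj g.1 W : Subgroup G) : Set G) with hC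
    have hn : A' ≤ normalizer (C : Set G) := by
      have h3 : o2 P ≤ normalizer (C : Set G) := by
        have h4 := NO3b.EZero.le_normalizer_inf_cent (b.QWg g)
        exact h4
      exact hA.trans h3
    have h3 := NOne.Flat.Off.card_sup_mul_inf hn
    have h4 : A' ⊓ C = A' ⊓ centralizer ((cj g.1 W : Subgroup G) : Set G) := by
      rw [hC, ← inf_assoc, inf_eq_left.2 hA]
    rw [h4] at h3
    have h5 := relIndex_mul_card A' (centralizer ((cj g.1 W : Subgroup G) : Set G))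
    have h6 := relIndex_mul_card (o2 P) (centralizer ((cj g.1 W : Subgroup G) : Set G))
    rw [← hC] at h6
    have hle : A' ⊔ C ≤ o2 P := sup_le hA inf_le_left
    have hge : Nat.card ↥(o2 P) ≤ Nat.card ↥(A' ⊔ C) := by
      have p1 : 0 < Nat.card ↥(A' ⊓ centralizer ((cj g.1 W : Subgroup G) : Set G)) := Nat.card_pos
      refine Nat.le_of_mul_le_mul_right (c := Nat.card ↥(A' ⊓ centralizer ((cj g.1 W : Subgroup G) : Set G))) ?_ p1
      rw [h3, ← h5, ← h6]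
      calc (centralizer ((cj g.1 W : Subgroup G) : Set G)).relIndex (o2 P) * Nat.card C *
            Nat.card ↥(A' ⊓ centralizer ((cj g.1 W : Subgroup G) : Set G))
          ≤ (centralizer ((cj g.1 W : Subgroup G) : Set G)).relIndex A' * Nat.card C *
            Nat.card ↥(A' ⊓ centralizer ((cj g.1 W : Subgroup G) : Set G)) :=
            Nat.mul_le_mul_right _ (Nat.mul_le_mul_right _ (h2.trans h1))
        _ = _ := by ring
    have he : A' ⊔ C = o2 P := Subgroup.eq_of_le_of_card_ge hle hge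
    intro q hq
    rw [← he] at hq
    obtain ⟨a, ha, c, hc, rfl⟩ := mem_sup_norm hn hq
    exact ⟨a, ha, c, hc.2, rfl⟩
  constructor
  · intro q hq w hw
    have hq' : g.1⁻¹ * q * g.1 ∈ o2 P := by
      have h1 := hA hq
      rw [← b.cjQ g] at h1
      exact mem_cj.1 h1
    have hw' := mem_cj.1 hw
    rw [mem_cj]
    have e : g.1⁻¹ * (q * w * q⁻¹ * w⁻¹) * g.1 = (g.1⁻¹ * q * g.1) * (g.1⁻¹ * w * g.1) * (g.1⁻¹ * q * g.1)⁻¹ *
        (g.1⁻¹ * w * g.1)⁻¹ := by group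
    rw [e]
    exact mem_inf.2 ⟨mul_mem ((mem_normalizer_iff.1 (b.QW hq') _).1 hw') (inv_mem hw'), b.quad _ hq' _ hw'⟩
  · intro Z' hZ'
    have h1 : CIn (o2 P) W (cj g.1⁻¹ Z') := by
      intro q hq w hw
      rw [mem_cj, inv_inv]
      have hq' : g.1 * q * g.1⁻¹ ∈ o2 P := by
        rw [← b.cjQ g]; exact mem_cj_conj hq
      have hw' : g.1 * w * g.1⁻¹ ∈ cj g.1 W := mem_cj_conj hw
      obtain ⟨a, ha, c, hc, h2⟩ := hcov _ hq'
      have h3 := hZ' a ha _ hw'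
      have h4 := mem_centralizer_iff.1 hc _ hw'
      have e : g.1 * (q * w * q⁻¹ * w⁻¹) * g.1⁻¹ = (g.1 * q * g.1⁻¹) * (g.1 * w * g.1⁻¹) * (g.1 * q * g.1⁻¹)⁻¹ *
          (g.1 * w * g.1⁻¹)⁻¹ := by group
      rw [e, h2]
      have e2 : a * c * (g.1 * w * g.1⁻¹) * (a * c)⁻¹ * (g.1 * w * g.1⁻¹)⁻¹ =
          a * (c * (g.1 * w * g.1⁻¹)) * c⁻¹ * a⁻¹ * (g.1 * w * g.1⁻¹)⁻¹ := by group
      rw [e2, ← h4]
      have e3 : a * (g.1 * w * g.1⁻¹ * c) * c⁻¹ * a⁻¹ * (g.1 * w * g.1⁻¹)⁻¹ =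
          a * (g.1 * w * g.1⁻¹) * a⁻¹ * (g.1 * w * g.1⁻¹)⁻¹ := by group
      rw [e3]
      exact h3
    have h2 := b.comm _ h1
    have h3 : closure {p 0 * p 1, p 0 * p 4} ≤ cj g.1⁻¹ Z' := by
      rw [closure_le]
      rintro x (rfl | hx)
      · exact h2.1
      · rw [Set.mem_singleton_iff.1 hx]; exact h2.2
    have h4 := cj_mono g.1 h3
    rwa [cj_cj_inv] at h4

/-- an element of `P` with given letters -/
theorem exists_perm (σ : Equiv.Perm (Fin 5)) : ∃ g ∈ P, ∀ i, g * p i * g⁻¹ = p (σ i) := b.five.std.full σ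

theorem conj_mul {g h x y : G} (hx : h * x * h⁻¹ = y) : (g * h) * x * (g * h)⁻¹ = g * y * g⁻¹ := by
  rw [← hx]; group

/-- `sep` from an element `h ∈ P` exchanging `4` and a letter -/
theorem sep_aux (g : Ix P p) (h : G) (hP : h ∈ P) (h0 : h * p 0 * h⁻¹ = p 0) (h1 : h * p 1 * h⁻¹ = p 1)
    (hx : (g.1 * h) * p 2 * (g.1 * h)⁻¹ = p 4 ∨ (g.1 * h) * p 3 * (g.1 * h)⁻¹ = p 4)
    (hn : p 0 * p 4 ∉ cj h (closure ({p 0 * p 1, p 0 * p 4, aa p} : Set G))) :
    ∃ j : Ix P p, ¬ cj g.1 (closure {p 0 * p 1, p 0 * p 4}) ≤ cj j.1 (W ⊓ zl (S : Subgroup G) P) ∧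
      ∀ x ∈ cj j.1 K ⊔ o2 P, cj x (cj g.1 (closure {p 0 * p 1, p 0 * p 4})) ≤ cj g.1 (W ⊓ zl (S : Subgroup G) P) →
        x ∈ normalizer ((cj j.1 (W ⊓ zl (S : Subgroup G) P) : Subgroup G) : Set G) := by
  refine ⟨⟨g.1 * h, mul_mem g.2.1 hP, hx⟩, fun hle => hn ?_, fun x hxK hle => ?_⟩
  · have h2 : g.1 * (p 0 * p 4) * g.1⁻¹ ∈ cj g.1 (closure {p 0 * p 1, p 0 * p 4}) :=
      mem_cj_conj (subset_closure (by simp))
    have h3 := hle h2
    have h4 := cj_mono (g.1 * h) b.WL h3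
    rw [← cj_cj, mem_cj] at h4
    have e : g.1⁻¹ * (g.1 * (p 0 * p 4) * g.1⁻¹) * g.1 = p 0 * p 4 := by group
    rwa [e] at h4
  · simp only at hxK hle ⊢
    set j : Ix P p := ⟨g.1 * h, mul_mem g.2.1 hP, hx⟩ with hj
    -- `x = j x' j⁻¹`
    have hx' : (g.1 * h)⁻¹ * x * (g.1 * h) ∈ K ⊔ o2 P := by
      have h2 : cj (g.1 * h) (K ⊔ o2 P) = cj (g.1 * h) K ⊔ o2 P := by
        rw [cj, Subgroup.map_sup]
        congr 1
        exact b.cjQ j
      rw [← h2] at hxK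
      exact mem_cj.1 hxK
    have h2 : g.1 * (p 0 * p 1) * g.1⁻¹ ∈ cj g.1 (closure {p 0 * p 1, p 0 * p 4}) :=
      mem_cj_conj (subset_closure (by simp))
    have h3 : x * (g.1 * (p 0 * p 1) * g.1⁻¹) * x⁻¹ ∈ zl (S : Subgroup G) P := by
      have h4 := hle (mem_cj_conj (g := x) h2)
      have h5 := cj_mono g.1 (inf_le_right : W ⊓ zl (S : Subgroup G) P ≤ zl (S : Subgroup G) P) h4
      rwa [b.cjL g] at h5
    have h01 : h * (p 0 * p 1) * h⁻¹ = p 0 * p 1 := by rw [NTwo.cm, h0, h1]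
    have h4 : ((g.1 * h)⁻¹ * x * (g.1 * h)) * (p 0 * p 1) * ((g.1 * h)⁻¹ * x * (g.1 * h))⁻¹ ∈ zl (S : Subgroup G) P := by
      have e : ((g.1 * h)⁻¹ * x * (g.1 * h)) * (p 0 * p 1) * ((g.1 * h)⁻¹ * x * (g.1 * h))⁻¹ =
          (g.1 * h)⁻¹ * (x * (g.1 * (h * (p 0 * p 1) * h⁻¹) * g.1⁻¹) * x⁻¹) * ((g.1 * h)⁻¹)⁻¹ := by group
      rw [e, h01]
      exact (mem_normalizer_iff.1 (b.PL (inv_mem (mul_mem g.2.1 hP))) _).1 h3
    have h5 := b.ti _ hx' _ (Or.inl rfl) h4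
    have h6 := norm_cj (g := g.1 * h) (zpowers_le.2 h5)
    have h7 : x ∈ cj (g.1 * h) (zpowers ((g.1 * h)⁻¹ * x * (g.1 * h))) := by
      rw [mem_cj]; exact mem_zpowers _
    exact h6 h7

theorem sep (g : Ix P p) : ∃ j : Ix P p, ¬ cj g.1 (closure {p 0 * p 1, p 0 * p 4}) ≤ cj j.1 (W ⊓ zl (S : Subgroup G) P) ∧
      ∀ x ∈ cj j.1 K ⊔ o2 P, cj x (cj g.1 (closure {p 0 * p 1, p 0 * p 4})) ≤ cj g.1 (W ⊓ zl (S : Subgroup G) P) →
        x ∈ normalizer ((cj j.1 (W ⊓ zl (S : Subgroup G) P) : Subgroup G) : Set G) := by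
  have hcl : ∀ h : G, ∀ c d e : G, h * (p 0 * p 1) * h⁻¹ = c → h * (p 0 * p 4) * h⁻¹ = d → h * aa p * h⁻¹ = e →
      cj h (closure ({p 0 * p 1, p 0 * p 4, aa p} : Set G)) ≤ closure ({c, d, e} : Set G) := by
    intro h c d e hc hd he
    rw [cj, MonoidHom.map_closure, closure_le]
    rintro _ ⟨x, rfl | rfl | hx, rfl⟩
    · exact subset_closure (Or.inl hc)
    · exact subset_closure (Or.inr (Or.inl hd))
    · rw [Set.mem_singleton_iff.1 hx]
      exact subset_closure (Or.inr (Or.inr he))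
  rcases g.2.2 with h | h
  · -- `h = (3 4)`
    obtain ⟨h', hP, hh⟩ := b.exists_perm (Equiv.swap 3 4)
    have s0 : h' * p 0 * h'⁻¹ = p 0 := hh 0
    have s1 : h' * p 1 * h'⁻¹ = p 1 := hh 1
    have s2 : h' * p 2 * h'⁻¹ = p 2 := hh 2
    have s3 : h' * p 3 * h'⁻¹ = p 4 := hh 3
    have s4 : h' * p 4 * h'⁻¹ = p 3 := hh 4
    refine b.sep_aux g h' hP s0 s1 (Or.inl ?_) fun hm => ?_
    · rw [b.conj_mul s2, h]
    · have h2 := hcl h' (p 0 * p 1) (p 0 * p 3) (p 2 * p 4) (by rw [NTwo.cm, s0, s1]) (by rw [NTwo.cm, s0, s4])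
        (by rw [aa, NTwo.cm, s2, s3]) hm
      exact not_mem b.five.std.toFv (a := 0) (b := 1) (c := 3) (d := 4) (e := 2) (by decide) (by decide) (by decide)
        (by decide) (by decide) (by decide) (by decide) h2
  · obtain ⟨h', hP, hh⟩ := b.exists_perm (Equiv.swap 2 4)
    have s0 : h' * p 0 * h'⁻¹ = p 0 := hh 0
    have s1 : h' * p 1 * h'⁻¹ = p 1 := hh 1
    have s2 : h' * p 2 * h'⁻¹ = p 4 := hh 2
    have s3 : h' * p 3 * h'⁻¹ = p 3 := hh 3
    have s4 : h' * p 4 * h'⁻¹ = p 2 := hh 4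
    refine b.sep_aux g h' hP s0 s1 (Or.inr ?_) fun hm => ?_
    · rw [b.conj_mul s3, h]
    · have h2 := hcl h' (p 0 * p 1) (p 0 * p 2) (p 3 * p 4) (by rw [NTwo.cm, s0, s1]) (by rw [NTwo.cm, s0, s4])
        (by rw [aa, NTwo.cm, s2, s3, b.five.std.comm]) hm
      exact not_mem b.five.std.toFv (a := 0) (b := 1) (c := 2) (d := 4) (e := 3) (by decide) (by decide) (by decide)
        (by decide) (by decide) (by decide) (by decide) h2

/-- an element `x ∈ S` acting as `(0 1)` moves some `W^g` much -/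
theorem act01 {x : G} (hx : x ∈ (S : Subgroup G)) (hσ : ∀ i, x * p i * x⁻¹ = p (Equiv.swap 0 1 i)) :
    ∃ g : Ix P p, 2 < (centralizer ({x} : Set G)).relIndex (cj g.1 W) := by
  obtain ⟨g₀, hg₀, hh⟩ := b.exists_perm (Equiv.swap 2 4)
  -- the action of `g₀⁻¹ x g₀`
  have hinv : ∀ i, g₀⁻¹ * p i * g₀ = p (Equiv.swap 2 4 i) := by
    intro i
    have h1 := hh (Equiv.swap 2 4 i)
    rw [Equiv.swap_apply_self] at h1
    rw [← h1]; group
  set a := g₀⁻¹ * x * g₀ with ha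
  have haP : a ∈ P := mul_mem (mul_mem (inv_mem hg₀) (b.SP hx)) hg₀
  have haσ : ∀ i, a * p i * a⁻¹ = p (Equiv.swap 0 1 i) := by
    intro i
    have e : a * p i * a⁻¹ = g₀⁻¹ * (x * (g₀ * p i * g₀⁻¹) * x⁻¹) * g₀ := by rw [ha]; group
    rw [e, hh, hσ, hinv]
    congr 1
    clear e
    revert i
    decide
  -- `a ∈ C_P(L) S`
  set C0 := P ⊓ centralizer (zl (S : Subgroup G) P : Set G) with hC0
  have hPC : P ≤ normalizer (C0 : Set G) := NO3b.EZero.le_normalizer_inf_cent b.PL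
  have hax : a * x⁻¹ ∈ C0 := by
    refine mem_inf.2 ⟨mul_mem haP (inv_mem (b.SP hx)), ?_⟩
    rw [b.five.gen, centralizer_closure, mem_centralizer_iff]
    rintro _ ⟨i, rfl⟩
    have hxi : x⁻¹ * p i * x = p (Equiv.swap 0 1 i) := by
      have h1 := hσ (Equiv.swap 0 1 i)
      rw [Equiv.swap_apply_self] at h1
      rw [← h1]; group
    have h1 : (a * x⁻¹) * p i * (a * x⁻¹)⁻¹ = p i := by
      have e : (a * x⁻¹) * p i * (a * x⁻¹)⁻¹ = a * (x⁻¹ * p i * x) * a⁻¹ := by group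
      rw [e, hxi, haσ, Equiv.swap_apply_self]
    exact (NTwo.comm_iff.1 h1).symm
  have hSC : (S : Subgroup G) ≤ normalizer (C0 : Set G) := b.SP.trans hPC
  have haSC : a ∈ (S : Subgroup G) ⊔ C0 := by
    have h1 : a = (a * x⁻¹) * x := by group
    rw [h1]
    exact mul_mem (mem_sup_right hax) (mem_sup_left hx)
  have h2a : IsPGroup 2 (zpowers a) := by
    have h1 : zpowers a = cj g₀⁻¹ (zpowers x) := by
      rw [cj, MonoidHom.map_zpowers]
      congr 1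
      simp [ha]
    rw [h1]
    exact isPGroup_cj _ (S.isPGroup'.to_le (zpowers_le.2 hx))
  obtain ⟨n, hn, hnS⟩ := NO3b.Union.exists_conj_le (S := S) (N := (S : Subgroup G) ⊔ C0) le_sup_left h2a
    (zpowers_le.2 haSC)
  obtain ⟨s, hs, c, hc, rfl⟩ := mem_sup_norm hSC hn
  have h3 : c * a * c⁻¹ ∈ (S : Subgroup G) := by
    have h4 : (s * c) * a * (s * c)⁻¹ ∈ (S : Subgroup G) := hnS (mem_cj_conj (mem_zpowers a))
    have h5 := mul_mem (mul_mem (inv_mem hs) h4) hs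
    have e : s⁻¹ * ((s * c) * a * (s * c)⁻¹) * s = c * a * c⁻¹ := by group
    rwa [e] at h5
  have hcp : ∀ i, c * p i * c⁻¹ = p i := fun i =>
    NTwo.comm_iff.2 (mem_centralizer_iff.1 hc.2 _ (b.pL i)).symm
  have hcp' : ∀ i, c⁻¹ * p i * c = p i := by
    intro i
    have h1 := hcp i
    calc c⁻¹ * p i * c = c⁻¹ * (c * p i * c⁻¹) * c := by rw [h1]
      _ = p i := by group
  have hb' : ∀ i, (c * a * c⁻¹) * p i * (c * a * c⁻¹)⁻¹ = p (Equiv.swap 0 1 i) := by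
    intro i
    have e : (c * a * c⁻¹) * p i * (c * a * c⁻¹)⁻¹ = c * (a * (c⁻¹ * p i * c) * a⁻¹) * c⁻¹ := by group
    rw [e, hcp', haσ, hcp]
  have h4 := b.mvB _ h3 (hb' 0) (hb' 1) (hb' 2) (hb' 3)
  refine ⟨⟨g₀ * c⁻¹, mul_mem hg₀ (inv_mem hc.1), Or.inl ?_⟩, ?_⟩
  · have e : (g₀ * c⁻¹) * p 2 * (g₀ * c⁻¹)⁻¹ = g₀ * (c⁻¹ * p 2 * c) * g₀⁻¹ := by group
    rw [e, hcp', hh]
    rfl
  · have h5 := relIndex_cj (g₀ * c⁻¹) (centralizer ({c * a * c⁻¹} : Set G)) W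
    rw [cj_cent_sing] at h5
    have e : g₀ * c⁻¹ * (c * a * c⁻¹) * (g₀ * c⁻¹)⁻¹ = x := by rw [ha]; group
    rw [e] at h5
    rw [h5]
    exact h4

theorem actL (A' : Subgroup G) (hA : A' ≤ (S : Subgroup G)) (ho : OffM (zl (S : Subgroup G) P) A') :
    ∃ a ∈ A', ∃ g : Ix P p, (centralizer ({a} : Set G)).relIndex (zl (S : Subgroup G) P) <
      (centralizer ({a} : Set G)).relIndex (cj g.1 W) := by
  obtain ⟨Y⟩ := b.sym
  have hcv : cv (S : Subgroup G) P = ⊥ := b.five.toHyp.cen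
  obtain ⟨-, h1⟩ := Y.offM A' hA ho
  obtain ⟨a, ha, hne⟩ := SetLike.not_le_iff_exists.1 ho.ne
  obtain ⟨τ, hτ, h2⟩ := h1 a ha
  -- `τ 0 ≠ 1`
  have hLn : ∀ y ∈ A', ∀ v ∈ zl (S : Subgroup G) P, y * v * y⁻¹ ∈ zl (S : Subgroup G) P := fun y hy v hv =>
    (mem_normalizer_iff.1 (b.PL (b.SP (hA hy))) v).1 hv
  have hinj : ∀ v ∈ zl (S : Subgroup G) P, ∀ w ∈ zl (S : Subgroup G) P, Y.e v = Y.e w → v = w := by
    intro v hv w hw h
    have hw2 : w * w = 1 := by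
      have := b.Xs w (b.LX hw)
      rwa [pow_two] at this
    have h3 : Y.e (v * w) = 0 := by
      rw [Y.mul v hv w hw, h]
      funext i x
      exact CharTwo.add_self_eq_zero _
    have h4 := (Y.ker _ (mul_mem hv hw)).1 h3
    rw [hcv, mem_bot] at h4
    calc v = v * (w * w) := by rw [hw2, mul_one]
      _ = v * w * w := by rw [mul_assoc]
      _ = w := by rw [h4, one_mul]
  obtain ⟨x, hx⟩ : ∃ x, τ 0 x ≠ x := by
    by_contra hcon
    push Not at hcon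
    apply hne
    rw [mem_centralizer_iff]
    intro v hv
    have h3 : a * v * a⁻¹ = v := by
      refine hinj _ (hLn a ha v hv) _ hv ?_
      funext i y
      have hi : i = 0 := Subsingleton.elim _ _
      subst hi
      have h4 := hτ v hv 0 y
      rw [hcon y] at h4
      exact h4
    exact (NTwo.comm_iff.1 h3).symm
  obtain ⟨-, c, hc, h3⟩ := h2 0 x hx
  set y := τ 0 x with hy
  -- `c` acts as the transposition `(x y)`
  have hact : ∀ v ∈ zl (S : Subgroup G) P, ∀ w, Y.e (c * v * c⁻¹) 0 (Equiv.swap x y w) = Y.e v 0 w := by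
    intro v hv w
    have h4 := h3 v hv 0 w
    simpa using h4
  have hfix : ∀ v ∈ zl (S : Subgroup G) P, Y.e v 0 x = Y.e v 0 y → v ∈ centralizer ({c} : Set G) := by
    intro v hv he
    rw [mem_centralizer_singleton_iff]
    have h4 : c * v * c⁻¹ = v := by
      refine hinj _ (hLn c hc v hv) _ hv ?_
      funext i w
      have hi : i = 0 := Subsingleton.elim _ _
      subst hi
      have h5 := hact v hv (Equiv.swap x y w)
      rw [Equiv.swap_apply_self] at h5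
      rw [h5]
      by_cases hwx : w = x
      · rw [hwx, Equiv.swap_apply_left, he]
      · by_cases hwy : w = y
        · rw [hwy, Equiv.swap_apply_right, he]
        · rw [Equiv.swap_apply_of_ne_of_ne hwx hwy]
    exact (NTwo.comm_iff.1 h4).symm
  have hidx : (centralizer ({c} : Set G)).relIndex (zl (S : Subgroup G) P) ≤ 2 := by
    have h4 : (centralizer ({c} : Set G)).relIndex (zl (S : Subgroup G) P) ∣ 2 := by
      rw [relIndex_dvd_two_iff]
      by_cases hall : ∀ v ∈ zl (S : Subgroup G) P, Y.e v 0 x = Y.e v 0 y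
      · exact ⟨1, one_mem _, fun v hv => Or.inr (hfix v hv (hall v hv))⟩
      · push Not at hall
        obtain ⟨v₀, hv₀, hne₀⟩ := hall
        refine ⟨v₀, hv₀, fun v hv => ?_⟩
        by_cases he : Y.e v 0 x = Y.e v 0 y
        · exact Or.inr (hfix v hv he)
        · left
          apply hfix _ (mul_mem hv hv₀)
          rw [Y.mul v hv v₀ hv₀]
          have hz : ∀ s t s' t' : ZMod 2, s ≠ t → s' ≠ t' → s + s' = t + t' := by decide
          exact hz _ _ _ _ he hne₀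
    exact Nat.le_of_dvd (by norm_num) h4
  have hmv : c ∉ centralizer (zl (S : Subgroup G) P : Set G) := by
    intro hcon
    -- a vector with `e v 0 x ≠ e v 0 y`
    have hxy : x ≠ y := fun h => hx (h ▸ rfl)
    obtain ⟨z, hzx, hzy⟩ : ∃ z : Fin (2 ^ 2 + 1), z ≠ x ∧ z ≠ y := by
      have : ∀ x y : Fin (2 ^ 2 + 1), ∃ z : Fin (2 ^ 2 + 1), z ≠ x ∧ z ≠ y := by decide
      exact this x y
    obtain ⟨v, hv, he⟩ := Y.surj (fun _ w => if w = x ∨ w = z then 1 else 0) (by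
      intro i
      have : ∀ x z : Fin (2 ^ 2 + 1), z ≠ x → ∑ w : Fin (2 ^ 2 + 1), (if w = x ∨ w = z then (1 : ZMod 2) else 0) = 0 := by
        decide
      exact this x z hzx)
    have h4 := hact v hv x
    rw [Equiv.swap_apply_left] at h4
    have h5 : c * v * c⁻¹ = v := NTwo.comm_iff.2 (mem_centralizer_iff.1 hcon v hv).symm
    rw [h5, he] at h4
    simp only [true_or, if_true] at h4
    rw [if_neg (by
      push Not
      exact ⟨fun h => hxy h.symm, fun h => hzy h.symm⟩)] at h4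
    exact zero_ne_one h4
  have hcS := hA hc
  rcases swap_of b.five.std b.five.gen hcS hmv hidx with h4 | h4
  · obtain ⟨g, hg⟩ := b.act01 hcS h4
    exact ⟨c, hc, g, by omega⟩
  · obtain ⟨τ', hτ', h5⟩ := b.five.std.tau
    -- the letters of `τ'`
    obtain ⟨ρ, hρ⟩ := b.five.std.perm τ' (b.SP hτ')
    have h6 : (ρ 0 = 2 ∧ ρ 1 = 3) ∨ (ρ 0 = 3 ∧ ρ 1 = 2) := by
      rw [NTwo.cm, hρ, hρ] at h5
      exact pair_eq b.five.std.toFv (by decide) h5.symm
    have h7 : (ρ 2 = 0 ∧ ρ 3 = 1) ∨ (ρ 2 = 1 ∧ ρ 3 = 0) := by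
      have h8 := b.five.std.s_eq_conj hτ' h5
      rw [aa, NTwo.cm, hρ, hρ] at h8
      exact pair_eq b.five.std.toFv (by decide) h8.symm
    have h8 : ∀ i, (τ' * c * τ'⁻¹) * p i * (τ' * c * τ'⁻¹)⁻¹ = p (Equiv.swap 0 1 i) := by
      intro i
      have hρ' : τ'⁻¹ * p i * τ' = p (ρ.symm i) := by
        have h9 := hρ (ρ.symm i)
        rw [Equiv.apply_symm_apply] at h9
        rw [← h9]; group
      have e : (τ' * c * τ'⁻¹) * p i * (τ' * c * τ'⁻¹)⁻¹ = τ' * (c * (τ'⁻¹ * p i * τ') * c⁻¹) * τ'⁻¹ := by group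
      rw [e, hρ', h4, hρ]
      congr 1
      have : ∀ ρ : Equiv.Perm (Fin 5), ((ρ 2 = 0 ∧ ρ 3 = 1) ∨ (ρ 2 = 1 ∧ ρ 3 = 0)) → ∀ i,
          ρ (Equiv.swap 2 3 (ρ.symm i)) = Equiv.swap 0 1 i := by
        intro ρ h i
        have e1 : ρ * Equiv.swap 2 3 * ρ⁻¹ = Equiv.swap (ρ 2) (ρ 3) := by
          rw [Equiv.swap_apply_apply, mul_assoc]
        have e2 := congrArg (fun σ : Equiv.Perm (Fin 5) => σ i) e1
        simp only [Equiv.Perm.mul_apply] at e2
        rw [show (ρ⁻¹ : Equiv.Perm (Fin 5)) i = ρ.symm i from rfl] at e2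
        rw [e2]
        rcases h with ⟨h1, h2⟩ | ⟨h1, h2⟩
        · rw [h1, h2]
        · rw [h1, h2, Equiv.swap_comm]
      exact this ρ h7 i
    obtain ⟨g, hg⟩ := b.act01 (mul_mem (mul_mem hτ' hcS) (inv_mem hτ')) h8
    have hτ4 : τ'⁻¹ * p 4 * τ' = p 4 := by
      have h9 := b.five.std.fix _ (inv_mem hτ')
      rwa [inv_inv] at h9
    refine ⟨c, hc, ⟨τ'⁻¹ * g.1, mul_mem (inv_mem (b.SP hτ')) g.2.1, ?_⟩, ?_⟩
    · rcases g.2.2 with h9 | h9
      · left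
        have e : (τ'⁻¹ * g.1) * p 2 * (τ'⁻¹ * g.1)⁻¹ = τ'⁻¹ * (g.1 * p 2 * g.1⁻¹) * τ' := by group
        rw [e, h9, hτ4]
      · right
        have e : (τ'⁻¹ * g.1) * p 3 * (τ'⁻¹ * g.1)⁻¹ = τ'⁻¹ * (g.1 * p 3 * g.1⁻¹) * τ' := by group
        rw [e, h9, hτ4]
    · have h9 := relIndex_cj τ'⁻¹ (centralizer ({τ' * c * τ'⁻¹} : Set G)) (cj g.1 W)
      rw [cj_cent_sing, cj_cj] at h9
      have e : τ'⁻¹ * (τ' * c * τ'⁻¹) * τ'⁻¹⁻¹ = c := by group
      rw [e] at h9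
      simp only
      rw [h9]
      omega

theorem noOver : NoOverM (zl (S : Subgroup G) P) P := by
  obtain ⟨A', hA', ho⟩ := b.cl.ff P b.cl.pss
  exact (FF.Glob.ffthmM G (S : Subgroup G) P ⟨b.SP, S.isPGroup', fun _ _ hT hST => S.is_maximal' hT hST⟩
    b.cl.pss.par.toIsMinPar (b.cl.pss.par.isLoc.char2 S b.cl.ctx.char2) ⟨A', hA'.trans b.SP, ho⟩).1

theorem exists_ix : ∃ g : Ix P p, g.1 ∈ P := by
  obtain ⟨g, hg, h⟩ := b.exists_perm (Equiv.swap 2 4)
  exact ⟨⟨g, hg, Or.inl (h 2)⟩, hg⟩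

theorem five' : Five (RR S P K p) (S : Subgroup G) (o2 P) (zl (S : Subgroup G) P) (NN S P K p) (R0 S P)
    (fun g : Ix P p => cj g.1 W) (fun g => cj g.1 K) (fun g => cj g.1 (closure {p 0 * p 1, p 0 * p 4}))
    (fun g => cj g.1 (W ⊓ zl (S : Subgroup G) P)) (fun g => cj g.1 A) where
  Nc := b.NN_X.trans (b.Xc.trans (centralizer_le b.NN_X))
  Ns := fun n hn => b.Xs n (b.NN_X hn)
  RN := b.RN
  SR := b.S_RR
  syl := fun Y hY hY2 => NO3b.Union.exists_conj_le b.S_RR hY2 hY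
  QS := b.QS
  SQL := (b.cl.pss.par.inf_centralizer S b.cl.ctx.char2).le
  LN := b.L_NN
  QL := b.QL
  R0R := le_sup_left
  R0Q := inf_le_left.trans b.PQ
  KR := fun g => (le_iSup (fun g : Ix P p => cj g.1 K) g).trans le_sup_right
  gen := le_rfl
  Ngen := fun Y hLY hRY => cl_le fun r hr => by
    have h1 := cj_mono r hLY
    rwa [cj_eq_of_mem_normalizer (hRY hr)] at h1
  WN := b.WN
  KPI := fun g => by
    rw [b.PIg g]
    exact norm_cj b.PI
  QPI := fun g => NO3b.EZero.le_normalizer_inf_cent (b.QWg g)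
  off := by
    obtain ⟨g, hg⟩ := b.exists_ix
    have hle : cj g.1 A ≤ o2 P := by
      have h1 := cj_mono g.1 b.AQ
      rwa [b.cjQ g] at h1
    refine ⟨cj g.1 A, hle.trans (b.QS.trans b.S_RR), (b.best g.1 hg _ b.NN_X b.NN_low).offM le_rfl fun h => b.mv ?_⟩
    have h1 : cj g.1 A ≤ centralizer ((cj g.1 W : Subgroup G) : Set G) := h.trans (centralizer_le (b.WN g))
    rw [← cj_centralizer] at h1
    have h2 := cj_mono g.1⁻¹ h1
    rwa [cj_inv_cj, cj_inv_cj] at h2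
  noL := fun Y hY hE _ => b.noOver Y (hY.trans b.SP) hE
  actL := b.actL
  noW := fun g Y hY _ hne => b.noWg g Y hY hne
  lineW := fun g Y hY ho => b.lineWg g Y hY ho
  sep := b.sep
  EQ := fun g => by
    have h1 := cj_mono g.1 b.AQ
    rwa [b.cjQ g] at h1
  quad := fun g t ht n hn => by
    rw [mem_centralizer_iff]
    intro y hy
    exact (b.qd g.1 g.2.1 n (b.NN_X hn) (b.NN_low hn) t ht y hy).symm
  reg := fun g => by
    obtain ⟨y, hy, t, ht, t', ht', n1, n2, n3⟩ := b.reg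
    have hKQ : cj g.1 (K ⊔ o2 P) = cj g.1 K ⊔ o2 P := by
      rw [cj, Subgroup.map_sup]
      congr 1
      exact b.cjQ g
    have key : ∀ x : G, x ∉ normalizer (cj y (W ⊓ zl (S : Subgroup G) P) : Set G) →
        g.1 * x * g.1⁻¹ ∉ normalizer ((cj (g.1 * y * g.1⁻¹) (cj g.1 (W ⊓ zl (S : Subgroup G) P)) : Subgroup G) :
          Set G) := by
      intro x hx hcon
      apply hx
      have e : cj (g.1 * y * g.1⁻¹) (cj g.1 (W ⊓ zl (S : Subgroup G) P)) =
          cj g.1 (cj y (W ⊓ zl (S : Subgroup G) P)) := by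
        rw [cj_cj, cj_cj]
        congr 1
        group
      rw [e, ← cj_normalizer, mem_cj] at hcon
      have e2 : g.1⁻¹ * (g.1 * x * g.1⁻¹) * g.1 = x := by group
      rwa [e2] at hcon
    refine ⟨g.1 * y * g.1⁻¹, hKQ ▸ mem_cj_conj hy, g.1 * t * g.1⁻¹, mem_cj_conj ht, g.1 * t' * g.1⁻¹,
      mem_cj_conj ht', key t n1, key t' n2, ?_⟩
    have e : g.1 * t * g.1⁻¹ * (g.1 * t' * g.1⁻¹) = g.1 * (t * t') * g.1⁻¹ := by group
    rw [e]
    exact key _ n3

/-- **(TOR) for one block `S₅`.** -/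
theorem false_of : False := b.five'.false_of

end SBase

end Cfsg.Agent.Omega.NO3S.WY.TorFive

end

section


/-!
# THEOREM TOR: the glue over the frame `Cx`, `Off`, `TY`, `Pr`

`TY.false_of` : the contradiction from the literals of the pieces of bb #26054 / #26158:
(0) = `TY.ker_all` (570, 491), (1) = `TY.cent_VV` (150), (2) = `UniB.uni` (822), `F_eq` (2F), (2+) = `TY.cj_W_eq` (613), (3) = `TY.W_le_o2`
(150), (4+) = `FourTY.kc` (594), (Sig) and (6) = `TY.false_end`.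
-/

set_option autoImplicit false

namespace Cfsg.Agent.Omega.NO3S.WY.Tor

open Subgroup Cfsg Cfsg.Agent.ZN Cfsg.Agent.ZN.ChoiceBase
open Cfsg.Agent.MinSimple.VModule (oddGen)

universe u

variable {G : Type u} [Group G] {ι : Type}

/-- **THEOREM TOR**, the glue. -/
theorem TY.false_of [Finite G] {S B Q M X L : Subgroup G} {V : ι → Subgroup G} {z : ι → G} {𝓦 : Set (Subgroup G)}
    {j : ι} {Y W F : Subgroup G} {z₀ : G} (c : Cx S B Q M X L V z) (o : Off S Q M X L 𝓦)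
    (h : TY S B Q M X V z 𝓦 j Y W F) (p : Pr S M L V z z₀)
    (hne : ∃ i, i ≠ j)
    (F_eq : (∀ g ∈ M, g ∈ normalizer (Q : Set G) → cj g (V j) = V j → cj g W ≤ W ⊔ L) → F = ⊥) : False := by
  have hk : KerY Q X Y := h.ker_all c
  have cVV := h.cent_VV c o hk
  have uni := UniB.uni c o h hne cVV
  have hF := F_eq uni
  have W3 := h.W_le_o2 c hF cVV
  have up : ∀ g ∈ M, g ∈ normalizer (Q : Set G) → cj g (V j) = V j → cj g W = W := fun g hg hQ hV =>
    TY.cj_W_eq c h hF cVV uni hg hQ hV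
  exact h.false_end c hF p (fun s hs e => up s (c.SM hs) (c.SnQ hs) e) (FourTY.kc c o h hF hk cVV W3 up)

end Cfsg.Agent.Omega.NO3S.WY.Tor

end

section


/-!
# THEOREM TOR: (2+) over the frame `Cx`, `TY` (helper491 #25169, helper613's `UniEq.eq_of_le`)

* `Cx.syl_VV` : `C_B(V_(j))` is a Sylow 2-subgroup of every `N*`, `C_B(V_(j)) ≤ N* ≤ C_G(V_(j))`;
* `TY.irr` : `W` is an irreducible `Y`-module (`F = 1`);
* `TY.WS_eq` : `W^g = W` for `g ∈ M ∩ N(Q) ∩ N(V_j)`, if `W^g ≤ W L` and `O²(Y)` centralises `V_(j)`.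
-/

set_option autoImplicit false
set_option linter.unusedSectionVars false

namespace Cfsg.Agent.Omega.NO3S.WY.Tor

open Subgroup Cfsg Cfsg.Agent.ZN Cfsg.Agent.ZN.ChoiceBase
open Cfsg.Agent.ZN.ChoiceSit (Syl syl_not_dvd syl_conj)
open Cfsg.Agent.MinSimple.MinParabolic (IsMinPar)
open Cfsg.Agent.MinSimple.VModule (oddGen mem_oddGen)

open scoped commutatorElement

universe u

variable {G : Type u} [Group G] {ι : Type}

namespace Cx

variable {S B Q M X L : Subgroup G} {V : ι → Subgroup G} {z : ι → G} (c : Cx S B Q M X L V z)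
include c

theorem Q_V {q v : G} {i : ι} (hq : q ∈ Q) (hv : v ∈ V i) : q * v = v * q := c.cQL q hq v (c.VLe i hv)

theorem wB2 : IsPGroup 2 B := c.S2.to_le c.BS

theorem wBV (i : ι) : B ≤ normalizer (V i : Set G) := by
  intro b hb
  rw [mem_normalizer_iff_cj]
  obtain ⟨m, hm⟩ := c.perm b (c.SnQ (c.BS hb)) i
  have h1 : z i ∈ V m := by
    rw [← hm]
    refine ⟨z i, c.zV i, ?_⟩
    show b * z i * b⁻¹ = z i
    rw [c.Bz b hb i]; group
  rw [hm, c.V_inj' (c.zV i) h1 (c.z1 i)]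

theorem wcj_VV {g : G} (hg : g ∈ normalizer (Q : Set G)) {i j : ι} (e : cj g (V i) = V j) :
    cj g (VV V i) = VV V j := by
  have key : ∀ {g : G} (_ : g ∈ normalizer (Q : Set G)) {i j : ι} (_ : cj g (V i) = V j),
      cj g (VV V i) ≤ VV V j := by
    intro g hg i j e
    rw [cj_le_iff]
    refine iSup₂_le fun l hl => ?_
    rw [← cj_le_iff]
    obtain ⟨m, hm⟩ := c.perm g hg l
    rw [hm]
    refine le_iSup₂_of_le (f := fun l (_ : l ≠ j) => V l) m ?_ le_rfl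
    rintro rfl
    have h1 : V l = V i := by rw [← cj_inv_cj g (V l), hm, ← e, cj_inv_cj]
    exact hl (c.V_inj' (c.zV i) (by rw [h1]; exact c.zV i) (c.z1 i))
  refine le_antisymm (key hg e) ?_
  have h1 : cj g⁻¹ (V j) = V i := by rw [← e, cj_inv_cj]
  have h2 := key (inv_mem hg) h1
  rwa [cj_le_iff, inv_inv] at h2

theorem wVV_L (j : ι) : VV V j ≤ L := iSup₂_le fun i _ => c.VLe i

theorem wL_eq (j : ι) : L = V j ⊔ VV V j := by
  refine le_antisymm ?_ (sup_le (c.VLe j) (c.wVV_L j))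
  rw [c.eL]
  refine iSup_le fun i => ?_
  by_cases e : i = j
  · rw [e]; exact le_sup_left
  · exact (le_iSup₂_of_le (f := fun l (_ : l ≠ j) => V l) i e le_rfl : V i ≤ VV V j).trans le_sup_right

/-- `C_B(V_(j))` is a Sylow 2-subgroup of `C_G(V_(j))` and of everything between. -/
theorem syl_VV [Finite G] (j : ι) {N : Subgroup G} (h1 : B ⊓ centralizer (VV V j : Set G) ≤ N)
    (h2 : N ≤ centralizer (VV V j : Set G)) : Syl (B ⊓ centralizer (VV V j : Set G)) N := by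
  refine ⟨h1, c.wB2.to_le inf_le_left, fun T hTN hT hBT => ?_⟩
  -- `H = C B`
  have hBC : B ≤ normalizer ((centralizer (VV V j : Set G) : Subgroup G) : Set G) := by
    intro b hb
    rw [mem_normalizer_iff_cj, cj_centralizer, c.wcj_VV (c.SnQ (c.BS hb)) (cj_eq_of_mem_normalizer (c.wBV j hb))]
  set H : Subgroup G := centralizer (VV V j : Set G) ⊔ B with hH
  have hHC : H ≤ normalizer ((centralizer (VV V j : Set G) : Subgroup G) : Set G) := sup_le le_normalizer hBC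
  have hBH : Syl B H := by
    refine ⟨le_sup_right, c.wB2, fun R hRH hR hBR => ?_⟩
    refine le_antisymm (c.sylB j R hR hBR fun i hi x hx => ?_) hBR
    have h3 : H ≤ centralizer ({z i} : Set G) := by
      refine sup_le (centralizer_le ?_) fun b hb => mem_centralizer_singleton_iff.2 (c.Bz b hb i)
      intro y hy
      rw [Set.mem_singleton_iff.1 hy]
      exact (le_iSup₂_of_le (f := fun l (_ : l ≠ j) => V l) i hi le_rfl : V i ≤ VV V j) (c.zV i)
    exact mem_centralizer_singleton_iff.1 (h3 (hRH hx))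
  obtain ⟨T', hT', hTT'⟩ := ChoiceSit.exists_syl hT ((hTN.trans h2).trans (le_sup_left : _ ≤ H))
  obtain ⟨x, hx, hx'⟩ := syl_conj hT' hBH
  have h3 : cj x T ≤ B ⊓ centralizer (VV V j : Set G) := by
    refine le_inf ((cj_mono x hTT').trans hx'.le) ?_
    have h4 := cj_mono x (hTN.trans h2)
    rwa [cj_eq_of_mem_normalizer (hHC hx)] at h4
  refine (Subgroup.eq_of_le_of_card_ge hBT ?_).symm
  rw [← card_cj x T]
  exact Subgroup.card_le_of_le h3

end Cx

namespace TY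

variable {S B Q M X L : Subgroup G} {V : ι → Subgroup G} {z : ι → G} {𝓦 : Set (Subgroup G)} {j : ι}
  {Y W F : Subgroup G}

/-- `W` is irreducible. -/
theorem irr [Finite G] (h : TY S B Q M X V z 𝓦 j Y W F) (c : Cx S B Q M X L V z) (hF : F = ⊥) {U : Subgroup G}
    (hU : U ≤ W) (hYU : Y ≤ normalizer (U : Set G)) (h1 : U ≠ ⊥) : W ≤ U := by
  subst hF
  have hBY : B ≤ Y := h.min.le
  obtain ⟨u, hu, hu1, huf⟩ := End.exists_fix (c.wB2) (c.S2.to_le (hU.trans (h.WX.trans c.XS))) h1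
    fun x hx v hv => (mem_normalizer_iff.1 (hYU (hBY hx)) v).1 hv
  have hc : ∀ b ∈ B, b * u = u * b := fun b hb => by
    calc b * u = b * u * b⁻¹ * b := by group
      _ = u * b := by rw [huf b hb]
  have huV : u ∈ V j := by
    have := h.cWQ u (hU hu) fun q hq => hc q (c.QB hq)
    rwa [sup_bot_eq] at this
  obtain ⟨t, ht, -, v, hv, hne⟩ := c.t j
  -- `u = z j`
  have huz : u = z j := by
    by_contra hne'
    apply hne
    have h4 := c.cV j
    have hfin : Finite (V j) := Nat.finite_of_card_ne_zero (by rw [h4]; norm_num)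
    -- the centraliser of `t` in `V j` contains `1, u, z j`
    have h5 : V j ≤ centralizer ({t} : Set G) := by
      have h6 : 2 < Nat.card ↥(V j ⊓ centralizer ({t} : Set G)) := by
        have hm1 : (1 : G) ∈ V j ⊓ centralizer ({t} : Set G) := one_mem _
        have hmu : u ∈ V j ⊓ centralizer ({t} : Set G) :=
          ⟨huV, mem_centralizer_singleton_iff.2 (hc t ht).symm⟩
        have hmz : z j ∈ V j ⊓ centralizer ({t} : Set G) :=
          ⟨c.zV j, mem_centralizer_singleton_iff.2 (c.Bz t ht j).symm⟩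
        classical
        have : Fintype ↥(V j ⊓ centralizer ({t} : Set G)) := Fintype.ofFinite _
        have h7 : ({⟨1, hm1⟩, ⟨u, hmu⟩, ⟨z j, hmz⟩} : Finset ↥(V j ⊓ centralizer ({t} : Set G))).card = 3 := by
          rw [Finset.card_eq_three]
          exact ⟨_, _, _, fun e => hu1 (congrArg Subtype.val e).symm, fun e => c.z1 j (congrArg Subtype.val e).symm,
            fun e => hne' (congrArg Subtype.val e), rfl⟩
        have h8 := Finset.card_le_univ ({⟨1, hm1⟩, ⟨u, hmu⟩, ⟨z j, hmz⟩} : Finset ↥(V j ⊓ centralizer ({t} : Set G)))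
        rw [h7, ← Nat.card_eq_fintype_card] at h8
        omega
      have h7 : Nat.card ↥(V j ⊓ centralizer ({t} : Set G)) ∣ 4 := by
        rw [← h4]; exact Subgroup.card_dvd_of_le inf_le_left
      have h8 : Nat.card ↥(V j ⊓ centralizer ({t} : Set G)) = 4 := by
        have := Nat.le_of_dvd (by norm_num) h7
        interval_cases hh : Nat.card ↥(V j ⊓ centralizer ({t} : Set G)) <;> omega
      exact inf_eq_left.1 (Subgroup.eq_of_le_of_card_ge inf_le_left (by rw [h4, h8]))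
    exact (mem_centralizer_singleton_iff.1 (h5 hv)).symm
  exact h.gen U (by rw [← huz]; exact hu) hYU

/-- `W = [W, O²(Y)]` -/
theorem w_le_comm [Finite G] (h : TY S B Q M X V z 𝓦 j Y W F) (c : Cx S B Q M X L V z) (hF : F = ⊥) :
    W ≤ ⁅W, oddGen Y⁆ := by
  have hKY := MinSimple.VModule.oddGen_le Y
  refine h.irr c hF ?_ ?_ ?_
  · rw [commutator_le]
    intro w hw k hk
    rw [commutatorElement_def, mul_assoc, mul_assoc]
    refine mul_mem hw ?_
    rw [← mul_assoc]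
    exact (mem_normalizer_iff.1 (h.YW (hKY hk)) _).1 (inv_mem hw)
  · intro y hy
    have h1 := cj_eq_of_mem_normalizer (h.YW hy)
    have h2 := cj_eq_of_mem_normalizer (MinSimple.VModule.le_normalizer_oddGen Y hy)
    rw [mem_normalizer_iff_cj, show cj y ⁅W, oddGen Y⁆ = ⁅cj y W, cj y (oddGen Y)⁆ from map_commutator _ _ _, h1, h2]
  · intro e
    obtain ⟨l, hl, v, hv, hlv⟩ := (h.n4 c hF).mv
    have h1 : oddGen Y ⊔ Q ≤ normalizer (V j : Set G) := by
      refine sup_le (fun k hk => ?_) (c.QB.trans (c.wBV j))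
      have h2 : k ∈ centralizer (W : Set G) := by
        rw [mem_centralizer_iff]
        intro w hw
        have h3 : ⁅w, k⁆ = 1 := by
          have : ⁅w, k⁆ ∈ ⁅W, oddGen Y⁆ := commutator_mem_commutator hw hk
          rwa [e, mem_bot] at this
        exact commutatorElement_eq_one_iff_mul_comm.1 h3
      exact centralizer_le_normalizer _ (centralizer_le h.VW h2)
    exact hlv ((mem_normalizer_iff.1 (h1 hl) v).1 hv)

theorem inf_VV (h : TY S B Q M X V z 𝓦 j Y W F) (c : Cx S B Q M X L V z) (hF : F = ⊥) : W ⊓ VV V j = ⊥ := by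
  subst hF
  rw [eq_bot_iff, ← c.ind j]
  rintro x ⟨hx, hx'⟩
  refine ⟨?_, hx'⟩
  have := h.cWQ x hx fun q hq => c.cQL q hq x (c.wVV_L j hx')
  rwa [sup_bot_eq] at this

/-- **(2+)** -/
theorem WS_eq [Finite G] (h : TY S B Q M X V z 𝓦 j Y W F) (c : Cx S B Q M X L V z) (hF : F = ⊥)
    (cV : oddGen Y ≤ centralizer (VV V j : Set G)) {g : G} (hQ : g ∈ normalizer (Q : Set G))
    (hV : cj g (V j) = V j) (uni : cj g W ≤ W ⊔ L) : cj g W = W := by
  have hVV := c.wcj_VV hQ hV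
  have hBY : B ≤ Y := h.min.le
  have hWV : W ⊔ VV V j ≤ X := sup_le h.WX ((c.wVV_L j).trans c.LX)
  have cV' : cj g (oddGen Y) ≤ centralizer (VV V j : Set G) := by
    have h1 := cj_mono g cV
    rwa [cj_centralizer, hVV] at h1
  have hn : oddGen Y ≤ normalizer (W : Set G) := (MinSimple.VModule.oddGen_le Y).trans h.YW
  refine UniEq.eq_of_le (W := W) (W₂ := cj g W) (Lam := VV V j) (K := oddGen Y) (K₂ := cj g (oddGen Y))
    (Bs := B ⊓ centralizer (VV V j : Set G)) (fun x hx y hy => c.Xc x (hWV hx) y (hWV hy))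
    (fun x hx => by rw [pow_two]; exact c.Xs x (hWV hx)) (h.inf_VV c hF) ?_ (card_cj _ _) ?_ cV cV' inf_le_right hn ?_
    (inf_le_left.trans (hBY.trans h.YW)) (h.w_le_comm c hF) ?_ ?_
  · refine uni.trans (sup_le le_sup_left ?_)
    rw [c.wL_eq j]
    exact sup_le_sup h.VW le_rfl
  · have h1 : cj g (W ⊓ VV V j) = ⊥ := by rw [h.inf_VV c hF]; exact Subgroup.map_bot _
    rwa [cj_inf, hVV] at h1
  · have h1 := cj_mono g hn
    rwa [cj_normalizer] at h1
  · have h1 := cj_mono g (h.w_le_comm c hF)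
    rwa [show cj g ⁅W, oddGen Y⁆ = ⁅cj g W, cj g (oddGen Y)⁆ from map_commutator _ _ _] at h1
  · refine syl_not_dvd (c.syl_VV j le_sup_right (sup_le (sup_le cV cV') inf_le_right))

end TY

end Cfsg.Agent.Omega.NO3S.WY.Tor

end

end
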