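import Cfsg.Agent.Mrg.Omega.NO3S.RedC.MaxMin
import Cfsg.Agent.Mrg.Omega.NO3S.WY.Tor.Lit
import Cfsg.Agent.Mrg.Omega.NO3S.Sym.Light

-- merged: Cfsg.Agent.Mrg.Omega.NO3S.WY.Tor.SFive
section

/-!
# (TOR) for one `S_5` block (helper150 #25227 (d), (e); proof by helper520)

`U` elementary abelian, `Q` a 2-group acting on `U`, `L = C_U(Q)`; `K`, `H` act on `U`, `H` normalises `Q`.
`W ≤ U` is `K`-invariant, `W / F` natural for `SL_2(4)`, `Q` induces a root group `T` on `W`, `|T| = 4`.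

* `Rt Q U L W` : `Q` acts on `W` as a full root group;
* `Rt.act` : a `MaxMin U Q E` which moves `W` : `E C_Q(W) = Q`, `U = W C_U(E)`, `[U, E] ≤ W`, `|U : C_U(E)| = 4`;
* `Sit` : the situation; `Sit.exists_mv` : some `MaxMin` moves `W`;
* `Sit.false`.
-/

set_option autoImplicit false
set_option linter.unusedSectionVars false

namespace Cfsg.Agent.Omega.NO3S.WY.Tor.SFive

open Subgroup Cfsg Cfsg.Agent.ZN Cfsg.Agent.ZN.ChoiceBase Cfsg.Agent.ZN.ChoiceSit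
open Cfsg.Agent.Omega.FFThm (OffM ElemM NoOverM)
open Cfsg.Agent.Omega.NO3S.RedC (MaxMin exists_maxMin)
open Cfsg.Agent.Omega.NO3b.EZero (cent_symm cj_cent relIndex_cj)
open Cfsg.Agent.Omega.NO3b.K0 (conj_mem' cj_of_le cj_self)
open Cfsg.Agent.Omega.NO3S.NotFF (le_normalizer_of_forall)
open Cfsg.Agent.Omega.SQ1.Bau (mem_sup_comm card_sup_comm mem_sup_norm)
open Cfsg.Agent.Omega.NO3S.Fld (relIndex_mul_card)
open Cfsg.Agent.Omega.NOThreeL.VF (fM fM_cj elemM_cj)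

open scoped commutatorElement

universe u

variable {G : Type u} [Group G] [Finite G] {Q U L K H W F R E X : Subgroup G} {g h gs : G}

/-- `Q` acts on `W ≤ U` as a full root group of order 4: `|Q : C_Q(W)| = 4 = |W : W ∩ L|`, `C_W(x) ≤ L` for
`x ∈ Q ∖ C(W)`. -/
structure Rt (Q U L W : Subgroup G) : Prop where
  WU : W ≤ U
  QW : Q ≤ normalizer (W : Set G)
  idx : (centralizer (W : Set G)).relIndex Q = 4
  cW : ∀ x ∈ Q, x ∉ centralizer (W : Set G) → W ⊓ centralizer ({x} : Set G) ≤ L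
  ix : L.relIndex W = 4

/-- a conjugate of a maximal offender of least rank -/
theorem maxMin_cj {M : Subgroup G} {x : G} (hx : x ∈ normalizer (U : Set G)) (m : MaxMin U M E) (hle : cj x E ≤ M) :
    MaxMin U M (cj x E) where
  le := hle
  pg := isPGroup_cj x m.pg
  elem := elemM_cj hx m.elem
  ne := fun h => m.ne (by
    have h2 := cj_mono x⁻¹ h
    rw [cj_inv_cj, cj_centralizer, cj_eq_of_mem_normalizer (inv_mem hx)] at h2
    exact h2)
  max := fun D hD hD2 hE => by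
    rw [(fM_cj (A := E) hx).1]
    exact m.max D hD hD2 hE
  min := fun D hD hD2 hE hne hf => by
    rw [(fM_cj (A := E) hx).2]
    rw [(fM_cj (A := E) hx).1] at hf
    exact m.min D hD hD2 hE hne hf

/-- conjugates of `Rt` -/
theorem Rt.conj (r : Rt Q U L W) {x : G} (hQ : x ∈ normalizer (Q : Set G)) (hU : x ∈ normalizer (U : Set G))
    (hL : x ∈ normalizer (L : Set G)) : Rt Q U L (cj x W) where
  WU := by
    have h1 := cj_mono x r.WU
    rwa [cj_eq_of_mem_normalizer hU] at h1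
  QW := by
    have h1 := cj_mono x r.QW
    rwa [cj_eq_of_mem_normalizer hQ, cj_normalizer] at h1
  idx := by
    have h1 := relIndex_cj x (centralizer (W : Set G)) Q
    rw [cj_centralizer, cj_eq_of_mem_normalizer hQ, r.idx] at h1
    exact h1
  cW := fun y hy hyW w hw => by
    have h1 : x⁻¹ * y * x ∈ Q := by
      have := conj_mem' le_rfl (inv_mem hQ) hy
      rwa [inv_inv] at this
    have h4 : x⁻¹ * y * x ∉ centralizer (W : Set G) := fun h => hyW (by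
      rw [← cj_centralizer]
      exact mem_cj.2 h)
    have h3 : x⁻¹ * w * x ∈ centralizer ({x⁻¹ * y * x} : Set G) := by
      rw [mem_centralizer_singleton_iff]
      have h5 := mem_centralizer_singleton_iff.1 hw.2
      have e1 : x⁻¹ * w * x * (x⁻¹ * y * x) = x⁻¹ * (w * y) * x := by group
      rw [e1, h5]
      group
    have h6 := r.cW _ h1 h4 ⟨mem_cj.1 hw.1, h3⟩
    rw [← cj_eq_of_mem_normalizer hL]
    exact mem_cj.2 h6
  ix := by
    have h1 := relIndex_cj x L W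
    rw [cj_eq_of_mem_normalizer hL, r.ix] at h1
    exact h1

theorem cj_sup (x : G) (A B : Subgroup G) : cj x (A ⊔ B) = cj x A ⊔ cj x B := Subgroup.map_sup _ _ _

/-- conjugation on a centraliser -/
theorem conj_cent {x d : G} (hx : x ∈ normalizer (W : Set G)) (hd : d ∈ centralizer (W : Set G)) :
    x * d * x⁻¹ ∈ centralizer (W : Set G) := by
  have h1 : cj x (centralizer (W : Set G)) = centralizer (W : Set G) := by
    rw [cj_centralizer, cj_eq_of_mem_normalizer hx]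
  rw [← h1, mem_cj]
  have e : x⁻¹ * (x * d * x⁻¹) * x = d := by group
  rwa [e]

theorem norm_inf_cent (hQW : Q ≤ normalizer (W : Set G)) :
    Q ≤ normalizer ((Q ⊓ centralizer (W : Set G) : Subgroup G) : Set G) :=
  le_normalizer_of_forall fun _ he _ hd =>
    mem_inf.2 ⟨mul_mem (mul_mem he (mem_inf.1 hd).1) (inv_mem he), conj_cent (hQW he) (mem_inf.1 hd).2⟩

theorem card_sup_norm {A B : Subgroup G} (hle : A ≤ normalizer (B : Set G)) :
    Nat.card (A ⊔ B : Subgroup G) * Nat.card (A ⊓ B : Subgroup G) = Nat.card A * Nat.card B := by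
  rw [← Cfsg.Agent.Lib.ProductSet.card_mul_card_inf A B, ← Subgroup.coe_mul_of_left_le_normalizer_right A B hle]
  rfl

/-- what a maximal offender of least rank does -/
structure Act (Q U L W E : Subgroup G) : Prop where
  iE : (centralizer (E : Set G)).relIndex U = 4
  sup : U ≤ W ⊔ (U ⊓ centralizer (E : Set G))
  com : ∀ e ∈ E, ∀ u ∈ U, e * u * e⁻¹ * u⁻¹ ∈ W
  cE : W ⊓ centralizer (E : Set G) = W ⊓ L
  QE : Q ≤ E ⊔ (Q ⊓ centralizer (W : Set G))

theorem Rt.act (r : Rt Q U L W) (hUc : U ≤ centralizer (U : Set G)) (hQU : Q ≤ normalizer (U : Set G))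
    (hLQ : L ≤ centralizer (Q : Set G)) (m : MaxMin U Q E) (hne : ¬ E ≤ centralizer (W : Set G)) :
    Act Q U L W E := by
  have hUm : ∀ x ∈ U, ∀ y ∈ U, x * y = y * x := fun x hx y hy => mem_centralizer_iff.1 (hUc hy) x hx
  have hcE : W ⊓ centralizer (E : Set G) = W ⊓ L := by
    obtain ⟨x, hx, hxW⟩ := SetLike.not_le_iff_exists.1 hne
    refine le_antisymm (le_inf inf_le_left fun w hw => r.cW x (m.le hx) hxW ⟨hw.1, ?_⟩)
      (le_inf inf_le_left (inf_le_right.trans (hLQ.trans (centralizer_le m.le))))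
    exact mem_centralizer_singleton_iff.2 (mem_centralizer_iff.1 hw.2 x hx).symm
  have iW : (centralizer (E : Set G)).relIndex W = 4 := by
    rw [← inf_relIndex_right, inf_comm, hcE, inf_comm, inf_relIndex_right, r.ix]
  have iE' : (centralizer (W : Set G)).relIndex E ≤ 4 := by
    rw [← r.idx]
    exact relIndex_le_of_le_right m.le (by rw [r.idx]; norm_num)
  have hno := FFThm.relIndex_le_iff.2 (iE'.trans iW.ge)
  obtain ⟨no, mo⟩ := m.minOff hQU r.WU hno hne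
  have hcut := mo.cut r.WU hno hne
  have i0 : (centralizer (U : Set G)).relIndex E = (centralizer (E : Set G)).relIndex U :=
    le_antisymm (FFThm.relIndex_le_iff.1 (no E m.le m.elem)) (m.off hUc le_rfl)
  have e1 : (centralizer (W : Set G)).relIndex E = (centralizer (U : Set G)).relIndex E := by
    rw [← inf_relIndex_right, ← inf_relIndex_right (centralizer (U : Set G))]
    congr 1
    refine le_antisymm (le_inf ?_ inf_le_right) (inf_le_inf_right _ (centralizer_le r.WU))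
    rw [inf_comm]
    exact hcut
  have iWE : (centralizer (W : Set G)).relIndex E = 4 :=
    le_antisymm iE' (iW.ge.trans (m.off hUc r.WU))
  have iE : (centralizer (E : Set G)).relIndex U = 4 := by rw [← i0, ← e1, iWE]
  set C := U ⊓ centralizer (E : Set G) with hC
  have hcom' : ∀ x ∈ W, ∀ y ∈ C, x * y = y * x := fun x hx y hy => hUm x (r.WU hx) y hy.1
  have hsup : U ≤ W ⊔ C := by
    have e2 : W ⊓ C = W ⊓ centralizer (E : Set G) := by
      rw [hC, ← inf_assoc, inf_eq_left.2 r.WU]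
    have c1 := card_sup_comm hcom'
    rw [e2] at c1
    have c2 := relIndex_mul_card W (centralizer (E : Set G))
    have c3 := relIndex_mul_card U (centralizer (E : Set G))
    rw [iW] at c2
    rw [iE, ← hC] at c3
    refine (Subgroup.eq_of_le_of_card_ge (sup_le r.WU inf_le_left) ?_).ge
    have p1 : 0 < Nat.card ↥(W ⊓ centralizer (E : Set G)) := Nat.card_pos
    refine Nat.le_of_mul_le_mul_right (c := Nat.card ↥(W ⊓ centralizer (E : Set G))) ?_ p1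
    rw [c1, ← c2, ← c3]
    exact le_of_eq (by ring)
  refine ⟨iE, hsup, fun e he u hu => ?_, hcE, ?_⟩
  · obtain ⟨w, hw, c, hc, rfl⟩ := mem_sup_comm hcom' (hsup hu)
    have e3 : e * (w * c) * e⁻¹ * (w * c)⁻¹ = e * w * (c * e⁻¹ * c⁻¹) * w⁻¹ := by group
    have e4 : c * e⁻¹ * c⁻¹ = e⁻¹ := by
      have h2 := mem_centralizer_iff.1 hc.2 e⁻¹ (inv_mem he)
      rw [← h2]
      group
    rw [e3, e4]
    exact mul_mem (conj_mem' r.QW (m.le he) hw) (inv_mem hw)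
  · have c1 := card_sup_norm (m.le.trans (norm_inf_cent r.QW))
    have e5 : E ⊓ (Q ⊓ centralizer (W : Set G)) = E ⊓ centralizer (W : Set G) := by
      rw [← inf_assoc, inf_eq_left.2 m.le]
    rw [e5] at c1
    have c2 := relIndex_mul_card E (centralizer (W : Set G))
    have c3 := relIndex_mul_card Q (centralizer (W : Set G))
    rw [iWE] at c2
    rw [r.idx] at c3
    refine (Subgroup.eq_of_le_of_card_ge (sup_le m.le inf_le_left) ?_).ge
    have p1 : 0 < Nat.card ↥(E ⊓ centralizer (W : Set G)) := Nat.card_pos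
    refine Nat.le_of_mul_le_mul_right (c := Nat.card ↥(E ⊓ centralizer (W : Set G))) ?_ p1
    rw [c1, ← c2, ← c3]
    exact le_of_eq (by ring)

/-- The situation. `W` is the block for the triple `t`, `cj gs W` the block for the triple `s`; `R` = the kernel of
`K ⊔ Q` on `W / F`. -/
structure Sit (Q U L K H W F R : Subgroup G) (g h gs : G) : Prop where
  Uc : U ≤ centralizer (U : Set G)
  QU : Q ≤ normalizer (U : Set G)
  KU : K ≤ normalizer (U : Set G)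
  HU : H ≤ normalizer (U : Set G)
  HQ : H ≤ normalizer (Q : Set G)
  LU : U ⊓ centralizer (Q : Set G) = L
  gen : ∀ X : Subgroup G, K ≤ normalizer (X : Set G) → H ≤ normalizer (X : Set G) → X ≤ centralizer (L : Set G) →
    X ≤ centralizer (U : Set G)
  off : ∃ A ≤ Q, OffM U A
  rt : Rt Q U L W
  KW : K ≤ normalizer (W : Set G)
  KE : K ≤ normalizer ((Q ⊓ centralizer (W : Set G) : Subgroup G) : Set G)
  syl : Syl Q (K ⊔ Q)
  FW : F ≤ W
  FL : F ≤ L
  KF : K ≤ normalizer (F : Set G)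
  Fe : W ⊓ centralizer (Q : Set G) ⊓ centralizer (cj g Q : Set G) ≤ F
  iF : F.relIndex W = 16
  RK : R ≤ K ⊔ Q
  nR : K ⊔ Q ≤ normalizer (R : Set G)
  ER : Q ⊓ centralizer (W : Set G) ≤ R
  RW : ∀ r ∈ R, ∀ w ∈ W, r * w * r⁻¹ * w⁻¹ ∈ F
  gK : g ∈ K
  gn : K ≤ Q ⊔ cj g Q ⊔ R
  hK : h ∈ K
  hQ : h ∈ normalizer (Q : Set G)
  gsH : gs ∈ H
  nv : ¬ ⁅cj gs W, Q⁆ ≤ W
  /-- `x` induces on `(W ∩ L) / F` the same map as `h` -/
  β : ∀ x ∈ K ⊔ Q, x ∈ normalizer (Q : Set G) → (∀ v ∈ W ⊓ L, x * v * x⁻¹ * (h * v * h⁻¹)⁻¹ ∈ F) →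
    ¬ cj x ⁅cj gs W, Q⁆ ≤ ⁅cj gs W, Q⁆

namespace Sit

variable (s : Sit Q U L K H W F R g h gs)
include s

theorem Um {x y : G} (hx : x ∈ U) (hy : y ∈ U) : x * y = y * x := mem_centralizer_iff.1 (s.Uc hy) x hx

theorem L_le : L ≤ U := s.LU ▸ inf_le_left

theorem LQ : L ≤ centralizer (Q : Set G) := s.LU ▸ inf_le_right

theorem norm_L {x : G} (hU : x ∈ normalizer (U : Set G)) (hQ : x ∈ normalizer (Q : Set G)) :
    x ∈ normalizer (L : Set G) := by
  rw [mem_normalizer_iff_cj, ← s.LU, cj_inf, cj_centralizer, cj_eq_of_mem_normalizer hU, cj_eq_of_mem_normalizer hQ]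

theorem KQ_U : K ⊔ Q ≤ normalizer (U : Set G) := sup_le s.KU s.QU

/-- **(d)** some maximal offender of least rank moves `W` -/
theorem exists_mv : ∃ E, MaxMin U Q E ∧ ¬ E ≤ centralizer (W : Set G) := by
  by_contra hcon
  push Not at hcon
  obtain ⟨E₀, m₀⟩ := exists_maxMin s.QU s.off
  have key : ∀ A : Subgroup G, A ≤ normalizer (U : Set G) →
      (∀ x ∈ A, ∀ E, MaxMin U Q E → cj x E ≤ Q) →
      A ≤ normalizer ((sSup {E | MaxMin U Q E} : Subgroup G) : Set G) := by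
    intro A hA h1 x hx
    refine mem_normalizer_of_cj_le ?_
    rw [cj_le_iff]
    refine sSup_le fun E (hE : MaxMin U Q E) => ?_
    rw [← cj_le_iff]
    exact le_sSup (maxMin_cj (hA hx) hE (h1 x hx E hE))
  have h1 := s.gen (sSup {E | MaxMin U Q E}) ?_ ?_ ?_
  · exact m₀.ne ((le_sSup (show E₀ ∈ {E | MaxMin U Q E} from m₀)).trans h1)
  · refine key K s.KU fun x hx E m => ?_
    have h2 := cj_mono x (le_inf m.le (hcon E m))
    rw [cj_eq_of_mem_normalizer (s.KE hx)] at h2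
    exact h2.trans inf_le_left
  · refine key H s.HU fun x hx E m => ?_
    have h2 := cj_mono x m.le
    rwa [cj_eq_of_mem_normalizer (s.HQ hx)] at h2
  · exact sSup_le fun E (hE : MaxMin U Q E) => hE.le.trans (cent_symm s.LQ)

section mv

variable (a : Act Q U L W E) (hEQ : E ≤ Q)
include a hEQ

/-- `U = W C_U(⟨E, E ^ g⟩)` -/
theorem supX : U ≤ W ⊔ (U ⊓ (centralizer (E : Set G) ⊓ centralizer (cj g E : Set G))) := by
  set C := U ⊓ (centralizer (E : Set G) ⊓ centralizer (cj g E : Set G)) with hC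
  have hcom' : ∀ x ∈ W, ∀ y ∈ C, x * y = y * x := fun x hx y hy => s.Um (s.rt.WU hx) hy.1
  have i1 : (centralizer (cj g E : Set G)).relIndex U = 4 := by
    have h1 := relIndex_cj g (centralizer (E : Set G)) U
    rwa [cj_centralizer, cj_eq_of_mem_normalizer (s.KU s.gK), a.iE] at h1
  have i2 : (centralizer (E : Set G) ⊓ centralizer (cj g E : Set G)).relIndex U ≤ 16 := by
    refine relIndex_inf_le.trans ?_
    rw [a.iE, i1]
  have hWC : W ⊓ C ≤ F := by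
    rintro w ⟨hw, hw1, hw2, hw3⟩
    have h1 : w ∈ W ⊓ L := a.cE ▸ (⟨hw, hw2⟩ : w ∈ W ⊓ centralizer (E : Set G))
    have h2 : w ∈ cj g (W ⊓ L) := by
      rw [← a.cE, cj_inf, cj_centralizer, cj_eq_of_mem_normalizer (s.KW s.gK)]
      exact ⟨hw, hw3⟩
    have h3 := cj_mono g (inf_le_right.trans s.LQ : W ⊓ L ≤ centralizer (Q : Set G)) h2
    rw [cj_centralizer] at h3
    exact s.Fe ⟨⟨hw, s.LQ h1.2⟩, h3⟩
  have c1 := card_sup_comm hcom'
  have c2 := relIndex_mul_card U (centralizer (E : Set G) ⊓ centralizer (cj g E : Set G))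
  rw [← hC] at c2
  have c3 := relIndex_mul_card W F
  rw [s.iF, inf_eq_right.2 s.FW] at c3
  have c4 := Subgroup.card_le_of_le hWC
  refine (Subgroup.eq_of_le_of_card_ge (sup_le s.rt.WU inf_le_left) ?_).ge
  have p1 : 0 < Nat.card F := Nat.card_pos
  refine Nat.le_of_mul_le_mul_right (c := Nat.card F) ?_ p1
  calc Nat.card U * Nat.card F ≤ (16 * Nat.card C) * Nat.card F := by
        refine Nat.mul_le_mul_right _ ?_
        rw [← c2]
        exact Nat.mul_le_mul_right _ i2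
    _ = Nat.card W * Nat.card C := by rw [← c3]; ring
    _ = Nat.card ↥(W ⊔ C) * Nat.card ↥(W ⊓ C) := c1.symm
    _ ≤ _ := Nat.mul_le_mul_left _ c4

/-- the torus element inside `⟨E, E ^ g⟩` -/
theorem torus : ∃ x ∈ E ⊔ cj g E, x ∈ K ⊔ Q ∧ x ∈ normalizer (Q : Set G) ∧
    ∀ v ∈ W ⊓ L, x * v * x⁻¹ * (h * v * h⁻¹)⁻¹ ∈ F := by
  set X := E ⊔ cj g E with hX
  set D := Q ⊓ centralizer (W : Set G) with hD
  have hgKQ : g ∈ K ⊔ Q := mem_sup_left s.gK
  have XK : X ≤ K ⊔ Q := by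
    refine sup_le (hEQ.trans le_sup_right) ?_
    have h1 := cj_mono g (hEQ.trans le_sup_right : E ≤ K ⊔ Q)
    rwa [cj_eq_of_mem_normalizer (le_normalizer hgKQ)] at h1
  have hDn : K ⊔ Q ≤ normalizer (D : Set G) := sup_le s.KE (norm_inf_cent s.rt.QW)
  have hDR : D ≤ R := s.ER
  have QX : Q ≤ X ⊔ D := a.QE.trans (sup_le_sup_right le_sup_left _)
  have gn' : K ≤ X ⊔ R := by
    refine s.gn.trans (sup_le (sup_le (QX.trans (sup_le_sup_left hDR _)) ?_) le_sup_right)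
    have h1 := cj_mono g a.QE
    refine h1.trans ?_
    rw [cj_sup]
    refine sup_le (le_sup_right.trans le_sup_left) ?_
    have h2 := cj_eq_of_mem_normalizer (hDn hgKQ)
    exact (h2.le.trans hDR).trans le_sup_right
  obtain ⟨x₀, hx₀, r₀, hr₀, e₀⟩ := mem_sup_norm (XK.trans s.nR) (gn' s.hK)
  have hhW : h ∈ normalizer (W : Set G) := s.KW s.hK
  have hhL : h ∈ normalizer (L : Set G) := s.norm_L (s.KU s.hK) s.hQ
  have QRn : Q ≤ normalizer (R : Set G) := le_sup_right.trans s.nR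
  -- `cj x₀ Q ≤ Q ⊔ R`
  have h1 : cj x₀ Q ≤ Q ⊔ R := by
    have e1 : x₀ = h * r₀⁻¹ := by rw [e₀]; group
    have h2 : cj r₀⁻¹ Q ≤ Q ⊔ R := by
      have h3 := cj_mono r₀⁻¹ (le_sup_left : Q ≤ Q ⊔ R)
      rwa [cj_eq_of_mem_normalizer (le_normalizer (inv_mem (mem_sup_right hr₀)))] at h3
    have h4 : cj h (Q ⊔ R) ≤ Q ⊔ R := by
      rw [cj_sup]
      refine sup_le ?_ ?_
      · exact (cj_eq_of_mem_normalizer s.hQ).le.trans le_sup_left
      · exact (cj_eq_of_mem_normalizer (s.nR (mem_sup_left s.hK))).le.trans le_sup_right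
    rw [e1, ← cj_cj]
    exact (cj_mono h h2).trans h4
  have h2 : cj x₀ Q ≤ X ⊔ D := by
    have h3 := cj_mono x₀ QX
    rwa [cj_eq_of_mem_normalizer (le_normalizer (mem_sup_left hx₀))] at h3
  set J := (X ⊔ D) ⊓ (Q ⊔ R) with hJ
  have JK : J ≤ K ⊔ Q := inf_le_left.trans (sup_le XK (inf_le_left.trans le_sup_right))
  have S1 : Syl Q J := ⟨le_inf QX le_sup_left, s.syl.2.1, fun T hT hT2 hQT => s.syl.2.2 T (hT.trans JK) hT2 hQT⟩
  have S2 : Syl (cj x₀ Q) J := by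
    refine ⟨le_inf h2 h1, isPGroup_cj _ s.syl.2.1, fun T hT hT2 hQT => ?_⟩
    have h3 : cj x₀⁻¹ T = Q := by
      refine s.syl.2.2 _ ?_ (isPGroup_cj _ hT2) ?_
      · have h4 := cj_mono x₀⁻¹ (hT.trans JK)
        rwa [cj_eq_of_mem_normalizer (le_normalizer (inv_mem (XK hx₀)))] at h4
      · rwa [← cj_le_iff]
    rw [← h3, cj_cj_inv]
  obtain ⟨y, hy, ey⟩ := syl_conj S2 S1
  have hn1 : y * x₀ ∈ normalizer (Q : Set G) := by
    rw [mem_normalizer_iff_cj, ← cj_cj, ey]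
  obtain ⟨x, hx, d, hd, e2⟩ := mem_sup_norm (XK.trans hDn) (mul_mem hy.1 (mem_sup_left hx₀))
  have ex : x = y * x₀ * d⁻¹ := by rw [e2]; group
  refine ⟨x, hx, XK hx, ?_, fun v hv => ?_⟩
  · rw [ex]
    exact mul_mem hn1 (inv_mem (le_normalizer hd.1))
  · have LQc : ∀ l ∈ L, ∀ q ∈ Q, q * l * q⁻¹ = l := fun l hl q hq => by
      have := mem_centralizer_iff.1 (s.LQ hl) q hq
      rw [this]; group
    obtain ⟨q, hq, r, hr, ey'⟩ := mem_sup_norm QRn hy.2
    have hu : h * v * h⁻¹ ∈ W ⊓ L := ⟨conj_mem' le_rfl hhW hv.1, conj_mem' le_rfl hhL hv.2⟩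
    have f1 : r₀⁻¹ * v * r₀⁻¹⁻¹ * v⁻¹ ∈ F := s.RW _ (inv_mem hr₀) v hv.1
    have f2 : h * (r₀⁻¹ * v * r₀⁻¹⁻¹ * v⁻¹) * h⁻¹ ∈ F := conj_mem' s.KF s.hK f1
    set f := h * (r₀⁻¹ * v * r₀⁻¹⁻¹ * v⁻¹) * h⁻¹ with hf
    set u := h * v * h⁻¹ with hu'
    have f3 : r * (f * u) * r⁻¹ * (f * u)⁻¹ ∈ F := s.RW _ hr _ (mul_mem (s.FW f2) hu.1)
    set f' := r * (f * u) * r⁻¹ * (f * u)⁻¹ with hf'
    have e3 : d⁻¹ * v * d = v := by
      have := LQc v hv.2 d⁻¹ (inv_mem hd.1)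
      rwa [inv_inv] at this
    have e4 : x₀ * v * x₀⁻¹ = f * u := by
      have e1 : x₀ = h * r₀⁻¹ := by rw [e₀]; group
      rw [hf, hu', e1]; group
    have e5 : x * v * x⁻¹ = f' * (f * u) := by
      have e6 : x * v * x⁻¹ = y * (x₀ * (d⁻¹ * v * d) * x₀⁻¹) * y⁻¹ := by rw [ex]; group
      have e7 : q * r * (f * u) * (q * r)⁻¹ = q * (f' * (f * u)) * q⁻¹ := by rw [hf']; group
      rw [e6, e3, e4, ey', e7]
      exact LQc _ (mul_mem (s.FL f3) (mul_mem (s.FL f2) hu.2)) q hq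
    rw [e5]
    have e8 : f' * (f * u) * u⁻¹ = f' * f := by group
    rw [e8]
    exact mul_mem f3 f2

/-- **Case A**: `E` does not centralise `W_s` -/
theorem caseA (hE : E ≤ centralizer (cj gs W : Set G)) : False := by
  obtain ⟨x, hx, hxK, hxQ, hxv⟩ := s.torus a hEQ
  refine s.β x hxK hxQ hxv ?_
  have hsup := s.supX a hEQ
  set C := U ⊓ (centralizer (E : Set G) ⊓ centralizer (cj g E : Set G)) with hC
  have hcom' : ∀ x ∈ W, ∀ y ∈ C, x * y = y * x := fun x hx y hy => s.Um (s.rt.WU hx) hy.1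
  have hXC : E ⊔ cj g E ≤ centralizer (C : Set G) :=
    sup_le (cent_symm (inf_le_right.trans inf_le_left)) (cent_symm (inf_le_right.trans inf_le_right))
  have hxU : x ∈ normalizer (U : Set G) := s.KQ_U hxK
  have hxL : x ∈ normalizer (L : Set G) := s.norm_L hxU hxQ
  have hWsU : cj gs W ≤ U := by
    have h1 := cj_mono gs s.rt.WU
    rwa [cj_eq_of_mem_normalizer (s.HU s.gsH)] at h1
  have e1 : cj x ⁅cj gs W, Q⁆ = ⁅cj x (cj gs W), cj x Q⁆ := Subgroup.map_commutator _ _ _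
  rw [e1, cj_eq_of_mem_normalizer hxQ, commutator_le]
  rintro w' hw' q hq
  obtain ⟨w, hw, rfl⟩ : ∃ w ∈ cj gs W, w' = x * w * x⁻¹ := ⟨x⁻¹ * w' * x, mem_cj.1 hw', by group⟩
  obtain ⟨w₁, hw₁, c, hc, ew⟩ := mem_sup_comm hcom' (hsup (hWsU hw))
  have h1 : w₁ ∈ W ⊓ L := by
    have h2 : w ∈ centralizer (E : Set G) := cent_symm hE hw
    have h3 : w₁ = w * c⁻¹ := by rw [ew]; group
    have h4 : w₁ ∈ centralizer (E : Set G) := by
      rw [h3]
      exact mul_mem h2 (inv_mem (mem_inf.1 (mem_inf.1 hc).2).1)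
    rw [← a.cE]
    exact ⟨hw₁, h4⟩
  have h2 : x * c = c * x := mem_centralizer_iff.1 (cent_symm hXC hc) x hx
  set l := x * w₁ * x⁻¹ * w₁⁻¹ with hl
  have hlL : l ∈ L := mul_mem (conj_mem' le_rfl hxL h1.2) (inv_mem h1.2)
  have e2 : x * w * x⁻¹ = l * w := by
    rw [ew, hl]
    have e3 : x * (w₁ * c) * x⁻¹ = x * w₁ * x⁻¹ * (x * c * x⁻¹) := by group
    rw [e3, h2]
    group
  have hq' : q * l = l * q := mem_centralizer_iff.1 (s.LQ hlL) q hq
  have hcU : w * (q * w⁻¹ * q⁻¹) ∈ U :=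
    mul_mem (hWsU hw) (conj_mem' s.QU hq (inv_mem (hWsU hw)))
  have e4 : ⁅x * w * x⁻¹, q⁆ = ⁅w, q⁆ := by
    rw [e2, commutatorElement_def, commutatorElement_def]
    have e5 : l * w * q * (l * w)⁻¹ * q⁻¹ = l * (w * (q * w⁻¹ * q⁻¹)) * (q * l⁻¹ * q⁻¹) := by group
    have e6 : q * l⁻¹ * q⁻¹ = l⁻¹ := by
      have := mem_centralizer_iff.1 (s.LQ (inv_mem hlL)) q hq
      rw [this]; group
    rw [e5, e6, s.Um (s.L_le hlL) hcU]
    group
  rw [e4]
  exact commutator_mem_commutator hw hq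

/-- **Case B**: `E` does not move `W_s` -/
theorem caseB (m : MaxMin U Q E) (hne : ¬ E ≤ centralizer (cj gs W : Set G)) : False := by
  have rs : Rt Q U L (cj gs W) := s.rt.conj (s.HQ s.gsH) (s.HU s.gsH) (s.norm_L (s.HU s.gsH) (s.HQ s.gsH))
  have as := rs.act s.Uc s.QU s.LQ m hne
  refine s.nv ?_
  rw [commutator_le]
  intro w hw q hq
  obtain ⟨e, he, d, hd, rfl⟩ := mem_sup_norm (hEQ.trans (norm_inf_cent rs.QW)) (as.QE hq)
  have h1 := mem_centralizer_iff.1 hd.2 w⁻¹ (inv_mem hw)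
  have e1 : ⁅w, e * d⁆ = (e * w * e⁻¹ * w⁻¹)⁻¹ := by
    rw [commutatorElement_def]
    have e2 : w * (e * d) * w⁻¹ * (e * d)⁻¹ = w * e * (d * w⁻¹) * d⁻¹ * e⁻¹ := by group
    rw [e2, ← h1]
    group
  rw [e1]
  exact inv_mem (a.com e he w (rs.WU hw))

end mv

/-- **(d) + (e): THE KILL** -/
protected theorem false : False := by
  obtain ⟨E, m, hne⟩ := s.exists_mv
  have a := s.rt.act s.Uc s.QU s.LQ m hne
  by_cases hE : E ≤ centralizer (cj gs W : Set G)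
  · exact s.caseA a m.le hE
  · exact s.caseB a m.le m hE

end Sit

end Cfsg.Agent.Omega.NO3S.WY.Tor.SFive

end

-- merged: Cfsg.Agent.Mrg.Omega.NO3S.WY.Tor.LitS
section

section


/-!
# (TOR') for ONE `S₅`: the literals

`FiveL S P p` : `p i` = the complement of the letter `i`; `Y ∈ P(T)`, `T = Std.T S p = C_S(nn p)`, `Y ≤ C_G(nn p)` weird,
`τ = {2, 3, 4}` : `V_τ = {1, p 2 p 3, p 2 p 4, p 3 p 4}`, `V*_τ = {1, p 0 p 1, p 0, p 1}`.

* `TorS S P p Y` : (TOR') for one `S₅` (output of #25080 for `S₅`);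
* `Y5 Q L K W F R g h q` : the facts (a), (b) of #25227 at `Y` (`K = O²(Y)`, `W = ⟨aa p ^ Y⟩`, `F = C_W(K)`, `R` = the
  kernel of `K Q` on `W / F`), in the letters `q` (`τ = {2, 3, 4}`).
-/

set_option autoImplicit false
set_option linter.unusedSectionVars false

namespace Cfsg.Agent.Omega.NO3S.WY.Tor.SFive

open Subgroup Cfsg Cfsg.Agent.ZN Cfsg.Agent.ZN.ChoiceBase Cfsg.Agent.ZN.ChoiceSit
open Cfsg.Agent.Omega.FFThm (OffM ElemM NatKM ActsSL)
open Cfsg.Agent.Lib.SL2Mat (up)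
open Cfsg.Agent.Omega.FrameFF (cv)
open Cfsg.Agent.Omega.NTwo (Std nn aa)
open Cfsg.Agent.Omega.NO3S.Sym.Light (FiveL)
open scoped commutatorElement

universe u

variable {G : Type u} [Group G] [Finite G]

/-- **(TOR')** for one `S₅`. -/
structure TorS (S : Sylow 2 G) (P : Subgroup G) (p : Fin 5 → G) (Y : Subgroup G) : Prop where
  five : FiveL S P p
  wy : WY S P (Std.T (S : Subgroup G) p) Y
  cen : Y ≤ centralizer ({nn p} : Set G)
  fam : ∃ (V : Subgroup G) (𝓕 : Set (Subgroup G)), FamT S P Y V 𝓕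
  /-- one natural `SL₂(4)`-block; `V_τ` = the line fixed by `T`; `O₂(P)` acts inside the root group -/
  nat : ∃ (F : Type) (_ : Field F) (_ : Finite F) (_ : CharP F 2)
    (N : NatKM F (Std.T (S : Subgroup G) p) Y (zl (Std.T (S : Subgroup G) p) Y) (cv (Std.T (S : Subgroup G) p) Y) 1),
    Nat.card F = 4 ∧
    (∀ v ∈ zl (Std.T (S : Subgroup G) p) Y,
      N.e v 0 1 = 0 ↔ v ∈ closure {p 2 * p 3, p 2 * p 4} ⊔ cv (Std.T (S : Subgroup G) p) Y) ∧
    ∀ x ∈ o2 P, ∃ b : F,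
      ActsSL N.e (zl (Std.T (S : Subgroup G) p) Y) (cv (Std.T (S : Subgroup G) p) Y) x fun _ => up b

/-- **The facts at `Y`** (#25227 (a), (b)), letters `q`, `τ = {2, 3, 4}`. -/
structure Y5 (Q L K W F R : Subgroup G) (g h : G) (q : Fin 5 → G) : Prop where
  QW : Q ≤ normalizer (W : Set G)
  idx : (centralizer (W : Set G)).relIndex Q = 4
  cW : ∀ x ∈ Q, x ∉ centralizer (W : Set G) → W ⊓ centralizer ({x} : Set G) ≤ L
  ix : L.relIndex W = 4
  KW : K ≤ normalizer (W : Set G)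
  KE : K ≤ normalizer ((Q ⊓ centralizer (W : Set G) : Subgroup G) : Set G)
  syl : Syl Q (K ⊔ Q)
  FW : F ≤ W
  KF : K ≤ normalizer (F : Set G)
  Fe : W ⊓ centralizer (Q : Set G) ⊓ centralizer (cj g Q : Set G) ≤ F
  iF : F.relIndex W = 16
  RK : R ≤ K ⊔ Q
  nR : K ⊔ Q ≤ normalizer (R : Set G)
  ER : Q ⊓ centralizer (W : Set G) ≤ R
  RW : ∀ r ∈ R, ∀ w ∈ W, r * w * r⁻¹ * w⁻¹ ∈ F
  gK : g ∈ K
  gn : K ≤ Q ⊔ cj g Q ⊔ R
  hK : h ∈ K
  hQ : h ∈ normalizer (Q : Set G)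
  /-- `h` is fixed-point-free on `(W ∩ L) / F` -/
  hv : ∀ v ∈ W ⊓ L, h * v * h⁻¹ * v⁻¹ ∈ F → v ∈ F
  /-- `W = ⟨(W ∩ L)^K⟩` -/
  WK : ∀ A : Subgroup G, L ≤ A → K ≤ normalizer (A : Set G) → W ≤ A
  /-- `[W, Q] F = W ∩ L` -/
  WC : ∀ v ∈ W ⊓ L, ∃ f ∈ F, v * f ∈ ⁅W, Q⁆
  /-- `K ≤ C(V*_τ)` -/
  K0 : ∀ k ∈ K, k * q 0 = q 0 * k
  K1 : ∀ k ∈ K, k * q 1 = q 1 * k
  Fq : ∀ f ∈ F, f = 1 ∨ f = q 0 * q 1
  V3 : q 2 * q 3 ∈ W
  V4 : q 2 * q 4 ∈ W
  WL : ∀ w ∈ W ⊓ L, ∃ f ∈ F, w = f ∨ w = q 2 * q 3 * f ∨ w = q 2 * q 4 * f ∨ w = q 3 * q 4 * f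

end Cfsg.Agent.Omega.NO3S.WY.Tor.SFive

end

section


/-!
# (TOR) for one `S₅`: the end (#25227 (c), (d), (e))

* `Y5.conj` : the facts at `Y ^ u`;
* `word` : equality of words in the five points;
* `Fc` : the situation with `τ` moved to `{0, 1, 2}` : `q 0 = p 3`, `q 1 = p 4`, `q 2 = p 0`, `q 3 = p 1`, `q 4 = p 2`;
* `false_of` : `FiveL`, `WY`, `FamT`, `Y5` ⟹ `False`.
-/

set_option autoImplicit false
set_option linter.unusedSectionVars false

namespace Cfsg.Agent.Omega.NO3S.WY.Tor.SFive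

open Subgroup Cfsg Cfsg.Agent.ZN Cfsg.Agent.ZN.ChoiceBase Cfsg.Agent.ZN.ChoiceSit
open Cfsg.Agent.Omega.FFThm (OffM ElemM)
open Cfsg.Agent.Omega.NO1.BestOff (Best)
open Cfsg.Agent.Omega.NO3b.EZero (cl cl_le le_cl cj_le_cl le_normalizer_cl cent_symm cj_cent relIndex_cj)
open Cfsg.Agent.Omega.NO3b.K0 (conj_mem' cj_of_le cj_self)
open Cfsg.Agent.Omega.NTwo (Std nn aa Fv)
open Cfsg.Agent.Omega.NO3S.Sym.Light (FiveL)
open Cfsg.Agent.Omega.FrameNOFF (CZ)
open Cfsg.Agent.Omega.NO3S.Level (CaseL)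
open Cfsg.Agent.Omega.NO3S.RedC (GX DX MaxMin)
open scoped commutatorElement

universe u

variable {G : Type u} [Group G] [Finite G] {Q L K W F R A B : Subgroup G} {g h : G} {q : Fin 5 → G}

theorem cj_norm {x : G} (hAB : A ≤ normalizer (B : Set G)) : cj x A ≤ normalizer (cj x B : Set G) := by
  rw [← cj_normalizer]
  exact cj_mono x hAB

theorem cj_mul (x y : G) (hxQ : x ∈ normalizer (Q : Set G)) : cj (x * y * x⁻¹) Q = cj x (cj y Q) := by
  rw [← cj_cj, ← cj_cj, cj_eq_of_mem_normalizer (inv_mem hxQ)]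

theorem mem_cj' {x y : G} (h : y ∈ A) : x * y * x⁻¹ ∈ cj x A := ⟨y, h, rfl⟩

theorem mem_cj_iff {x y : G} : x * y * x⁻¹ ∈ cj x A ↔ y ∈ A := by
  rw [mem_cj]
  have e : x⁻¹ * (x * y * x⁻¹) * x = y := by group
  rw [e]

theorem syl_cj' {T X : Subgroup G} (x : G) (hT : Syl T X) : Syl (cj x T) (cj x X) := by
  refine ⟨cj_mono x hT.1, isPGroup_cj x hT.2.1, fun D hD hD2 hTD => ?_⟩
  have h1 : cj x⁻¹ D = T := by
    refine hT.2.2 _ ?_ (isPGroup_cj _ hD2) ?_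
    · have h2 := cj_mono x⁻¹ hD
      rwa [cj_inv_cj] at h2
    · rwa [← cj_le_iff]
  rw [← h1, cj_cj_inv]

/-- the facts at `Y ^ u` -/
theorem Y5.conj (y : Y5 Q L K W F R g h q) {u : G} (uQ : u ∈ normalizer (Q : Set G)) (uL : u ∈ normalizer (L : Set G)) :
    Y5 Q L (cj u K) (cj u W) (cj u F) (cj u R) (u * g * u⁻¹) (u * h * u⁻¹) fun i => u * q i * u⁻¹ := by
  have rt : Rt Q ⊤ L (cj u W) := (Rt.mk le_top y.QW y.idx y.cW y.ix : Rt Q ⊤ L W).conj uQ
    (by rw [mem_normalizer_iff_cj]; exact (Subgroup.map_top_of_surjective _ (MulAut.conj u).surjective)) uL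
  have hQ : cj u Q = Q := cj_eq_of_mem_normalizer uQ
  have hL : cj u L = L := cj_eq_of_mem_normalizer uL
  have e1 : Q ⊓ centralizer (cj u W : Set G) = cj u (Q ⊓ centralizer (W : Set G)) := by
    rw [cj_inf, cj_centralizer, hQ]
  have e2 : cj u K ⊔ Q = cj u (K ⊔ Q) := by rw [cj_sup, hQ]
  have e3 : ⁅cj u W, Q⁆ = cj u ⁅W, Q⁆ := by
    conv_lhs => rw [← hQ]
    exact (Subgroup.map_commutator _ _ _).symm
  have e4 : cj u W ⊓ L = cj u (W ⊓ L) := by rw [cj_inf, hL]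
  refine
    { QW := rt.QW
      idx := rt.idx
      cW := rt.cW
      ix := rt.ix
      KW := cj_norm y.KW
      KE := by rw [e1]; exact cj_norm y.KE
      syl := by
        have h1 := syl_cj' u y.syl
        rw [hQ] at h1
        rw [e2]
        exact h1
      FW := cj_mono u y.FW
      KF := cj_norm y.KF
      Fe := ?_
      iF := by rw [relIndex_cj, y.iF]
      RK := by rw [e2]; exact cj_mono u y.RK
      nR := by rw [e2]; exact cj_norm y.nR
      ER := by rw [e1]; exact cj_mono u y.ER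
      RW := ?_
      gK := mem_cj' y.gK
      gn := ?_
      hK := mem_cj' y.hK
      hQ := ?_
      hv := ?_
      WK := ?_
      WC := ?_
      K0 := ?_
      K1 := ?_
      Fq := ?_
      V3 := ?_
      V4 := ?_
      WL := ?_ }
  · have e5 : centralizer (Q : Set G) = cj u (centralizer (Q : Set G)) := by rw [cj_centralizer, hQ]
    rw [cj_mul _ _ uQ, ← cj_centralizer, e5, ← cj_inf, ← cj_inf]
    exact cj_mono u y.Fe
  · rintro _ ⟨r, hr, rfl⟩ _ ⟨w, hw, rfl⟩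
    have h1 := y.RW r hr w hw
    have e : (MulAut.conj u).toMonoidHom r * (MulAut.conj u).toMonoidHom w * ((MulAut.conj u).toMonoidHom r)⁻¹ *
        ((MulAut.conj u).toMonoidHom w)⁻¹ = u * (r * w * r⁻¹ * w⁻¹) * u⁻¹ := by
      change u * r * u⁻¹ * (u * w * u⁻¹) * (u * r * u⁻¹)⁻¹ * (u * w * u⁻¹)⁻¹ = _
      group
    rw [e]
    exact mem_cj' h1
  · have h1 := cj_mono u y.gn
    rw [cj_sup, cj_sup, hQ] at h1
    rwa [cj_mul _ _ uQ]
  · exact mul_mem (mul_mem uQ y.hQ) (inv_mem uQ)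
  · rintro v hv h1
    rw [e4] at hv
    obtain ⟨v, hv, rfl⟩ := hv
    have e : u * h * u⁻¹ * (MulAut.conj u).toMonoidHom v * (u * h * u⁻¹)⁻¹ * ((MulAut.conj u).toMonoidHom v)⁻¹ =
        u * (h * v * h⁻¹ * v⁻¹) * u⁻¹ := by
      change u * h * u⁻¹ * (u * v * u⁻¹) * (u * h * u⁻¹)⁻¹ * (u * v * u⁻¹)⁻¹ = _
      group
    rw [e, mem_cj_iff] at h1
    exact mem_cj' (y.hv v hv h1)
  · intro A hA hK
    have h1 := y.WK (cj u⁻¹ A) ?_ ?_
    · rw [← cj_le_iff] at h1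
      exact h1
    · rw [← cj_le_iff, hL]; exact hA
    · have h2 := cj_norm (x := u⁻¹) hK
      rwa [cj_inv_cj] at h2
  · intro v hv
    rw [e4] at hv
    obtain ⟨v, hv, rfl⟩ := hv
    obtain ⟨f, hf, h1⟩ := y.WC v hv
    refine ⟨u * f * u⁻¹, mem_cj' hf, ?_⟩
    rw [e3]
    have e : (MulAut.conj u).toMonoidHom v * (u * f * u⁻¹) = u * (v * f) * u⁻¹ := by
      change u * v * u⁻¹ * (u * f * u⁻¹) = _
      group
    rw [e]
    exact mem_cj' h1
  · rintro _ ⟨k, hk, rfl⟩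
    have h1 := y.K0 k hk
    change u * k * u⁻¹ * (u * q 0 * u⁻¹) = u * q 0 * u⁻¹ * (u * k * u⁻¹)
    calc u * k * u⁻¹ * (u * q 0 * u⁻¹) = u * (k * q 0) * u⁻¹ := by group
      _ = u * (q 0 * k) * u⁻¹ := by rw [h1]
      _ = _ := by group
  · rintro _ ⟨k, hk, rfl⟩
    have h1 := y.K1 k hk
    change u * k * u⁻¹ * (u * q 1 * u⁻¹) = u * q 1 * u⁻¹ * (u * k * u⁻¹)
    calc u * k * u⁻¹ * (u * q 1 * u⁻¹) = u * (k * q 1) * u⁻¹ := by group
      _ = u * (q 1 * k) * u⁻¹ := by rw [h1]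
      _ = _ := by group
  · rintro _ ⟨f, hf, rfl⟩
    change u * f * u⁻¹ = 1 ∨ u * f * u⁻¹ = u * q 0 * u⁻¹ * (u * q 1 * u⁻¹)
    rcases y.Fq f hf with rfl | rfl
    · left; group
    · right; group
  · have h1 := mem_cj' (x := u) y.V3
    have e : u * q 2 * u⁻¹ * (u * q 3 * u⁻¹) = u * (q 2 * q 3) * u⁻¹ := by group
    simp only [e]
    exact h1
  · have h1 := mem_cj' (x := u) y.V4
    have e : u * q 2 * u⁻¹ * (u * q 4 * u⁻¹) = u * (q 2 * q 4) * u⁻¹ := by group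
    simp only [e]
    exact h1
  · intro w hw
    rw [e4] at hw
    obtain ⟨w, hw, rfl⟩ := hw
    obtain ⟨f, hf, h1⟩ := y.WL w hw
    refine ⟨u * f * u⁻¹, mem_cj' hf, ?_⟩
    change u * w * u⁻¹ = _ ∨ u * w * u⁻¹ = u * q 2 * u⁻¹ * (u * q 3 * u⁻¹) * _ ∨
      u * w * u⁻¹ = u * q 2 * u⁻¹ * (u * q 4 * u⁻¹) * _ ∨ u * w * u⁻¹ = u * q 3 * u⁻¹ * (u * q 4 * u⁻¹) * _
    rcases h1 with rfl | rfl | rfl | rfl
    · exact Or.inl rfl
    · exact Or.inr (Or.inl (by group))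
    · exact Or.inr (Or.inr (Or.inl (by group)))
    · exact Or.inr (Or.inr (Or.inr (by group)))

/-! ### Words in the five points -/

section words

variable {P : Subgroup G} {p : Fin 5 → G}

omit [Finite G] in
theorem four (hp : Fv P p) {i j k l m : Fin 5} (hd : [i, j, k, l, m].Nodup) : p i * p j * (p k * p l) = p m := by
  obtain ⟨σ, h0, h1, h2, h3, h4⟩ : ∃ σ : Equiv.Perm (Fin 5), σ 0 = i ∧ σ 1 = j ∧ σ 2 = k ∧ σ 3 = l ∧ σ 4 = m := by
    revert i j k l m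
    decide +kernel
  have := hp.prod' σ
  rwa [h0, h1, h2, h3, h4] at this

omit [Finite G] in
theorem pair_ne (hp : Fv P p) {i j k l m : Fin 5} (hd : [i, j, k, l, m].Nodup) : p i * p j ≠ p k * p l := fun e => by
  have h1 := four hp hd
  rw [e] at h1
  apply hp.ne m
  rw [← h1, mul_assoc, ← mul_assoc (p l), hp.comm l k, mul_assoc (p k), hp.sq, mul_one, hp.sq]

omit [Finite G] in
theorem pair_ne' (hp : Fv P p) {i j l : Fin 5} (h : j ≠ l) : p i * p j ≠ p i * p l := fun e =>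
  h (hp.inj (mul_left_cancel e))

end words

/-! ### (c) -/

section c

variable {S : Sylow 2 G} {P Y V : Subgroup G} {𝓕 : Set (Subgroup G)} {p : Fin 5 → G}

/-- a light element is not conjugate to a heavy element -/
theorem lh (five : FiveL S P p) {x : G} {i j : Fin 5} (hij : i ≠ j) (k : Fin 5) : x * (p i * p j) * x⁻¹ ≠ p k := by
  intro e
  obtain ⟨a, -, ha⟩ := five.toFive.lights hij
  obtain ⟨b, -, hb⟩ := five.toFive.heavy k
  set y := b⁻¹ * x * a with hy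
  have h1 : y * nn p * y⁻¹ = p 4 := by
    have : y * nn p * y⁻¹ = b⁻¹ * (x * (a * nn p * a⁻¹) * x⁻¹) * b := by rw [hy]; group
    rw [this, ha, e, ← hb]
    group
  refine five.light (y⁻¹ • S) fun z hz => ?_
  have hz' : z ∈ ((y⁻¹ • S : Sylow 2 G) : Subgroup G) := hz
  rw [Sylow.coe_subgroup_smul] at hz'
  obtain ⟨s, hs, rfl⟩ := hz'
  have h2 := five.std.fix s hs
  change (y⁻¹ * s * y⁻¹⁻¹) * nn p * (y⁻¹ * s * y⁻¹⁻¹)⁻¹ = nn p
  calc (y⁻¹ * s * y⁻¹⁻¹) * nn p * (y⁻¹ * s * y⁻¹⁻¹)⁻¹ = y⁻¹ * (s * (y * nn p * y⁻¹) * s⁻¹) * y := by group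
    _ = y⁻¹ * p 4 * y := by rw [h1, h2]
    _ = nn p := by rw [← h1]; group

/-- The situation of (c): `τ` is at `{0, 1, 2}`. -/
structure Fc (S : Sylow 2 G) (P Y V : Subgroup G) (𝓕 : Set (Subgroup G)) (p : Fin 5 → G) (K W F R : Subgroup G)
    (g h : G) : Prop where
  five : FiveL S P p
  wq : ∃ T, WQ S P T Y
  fm : FamT S P Y V 𝓕
  KG : K ≤ GX (S : Subgroup G) P Y
  y : Y5 (o2 P) (zl (S : Subgroup G) P) K W F R g h ![p 3, p 4, p 0, p 1, p 2]
  act : ∃ A ∈ 𝓕, A ≤ o2 P ∧ ¬ A ≤ centralizer (W : Set G)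

namespace Fc

variable (c : Fc S P Y V 𝓕 p K W F R g h)
include c

theorem hp : Fv P p := c.five.std.toFv

theorem caseL : CaseL S P := by
  obtain ⟨T, hT⟩ := c.wq
  exact hT.cl

theorem pL (i : Fin 5) : p i ∈ zl (S : Subgroup G) P := c.five.toFive.p_mem i

theorem LQ : zl (S : Subgroup G) P ≤ centralizer (o2 P : Set G) := by
  rw [← c.caseL.zc_eq, le_centralizer_iff]
  exact Level.le_centralizer_zc _

theorem normL : normalizer (o2 P : Set G) ≤ normalizer (zl (S : Subgroup G) P : Set G) := by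
  rw [← c.caseL.zc_eq]
  exact Level.normalizer_le_zc _

theorem Lc {x y : G} (hx : x ∈ zl (S : Subgroup G) P) (hy : y ∈ zl (S : Subgroup G) P) : x * y = y * x :=
  c.five.toFive.V_comm hx hy

theorem K3 {k : G} (hk : k ∈ K) : k * p 3 = p 3 * k := c.y.K0 k hk

theorem K4 {k : G} (hk : k ∈ K) : k * p 4 = p 4 * k := c.y.K1 k hk

theorem Fq {f : G} (hf : f ∈ F) : f = 1 ∨ f = p 3 * p 4 := c.y.Fq f hf

theorem V3 : p 0 * p 1 ∈ W := c.y.V3

theorem V4 : p 0 * p 2 ∈ W := c.y.V4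

theorem V5 : p 1 * p 2 ∈ W := by
  have h1 := mul_mem c.V3 c.V4
  have e : p 0 * p 1 * (p 0 * p 2) = p 1 * p 2 := by
    rw [c.hp.comm 0 1, mul_assoc, ← mul_assoc (p 0), c.hp.sq, one_mul]
  rwa [e] at h1

theorem WL {w : G} (hw : w ∈ W) (hL : w ∈ zl (S : Subgroup G) P) :
    ∃ f ∈ F, w = f ∨ w = p 0 * p 1 * f ∨ w = p 0 * p 2 * f ∨ w = p 1 * p 2 * f := c.y.WL w ⟨hw, hL⟩

theorem FL : F ≤ zl (S : Subgroup G) P := fun f hf => by
  rcases c.Fq hf with rfl | rfl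
  · exact one_mem _
  · exact mul_mem (c.pL 3) (c.pL 4)

theorem cls {w : G} (hw : w ∈ W) (hL : w ∈ zl (S : Subgroup G) P) (hF : w ∉ F) (hk : ∀ k, w ≠ p k) :
    w = p 0 * p 1 ∨ w = p 0 * p 2 ∨ w = p 1 * p 2 := by
  obtain ⟨f, hf, h1⟩ := c.WL hw hL
  rcases c.Fq hf with rfl | rfl
  · simp only [mul_one] at h1
    rcases h1 with h1 | h1 | h1 | h1
    · exact absurd (h1 ▸ one_mem F) hF
    · exact Or.inl h1
    · exact Or.inr (Or.inl h1)
    · exact Or.inr (Or.inr h1)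
  · rcases h1 with h1 | h1 | h1 | h1
    · exact absurd (h1 ▸ hf) hF
    · exact absurd (h1.trans (four c.hp (m := 2) (by decide))) (hk 2)
    · exact absurd (h1.trans (four c.hp (m := 1) (by decide))) (hk 1)
    · exact absurd (h1.trans (four c.hp (m := 0) (by decide))) (hk 0)

theorem KQW : K ⊔ o2 P ≤ normalizer (W : Set G) := sup_le c.y.KW c.y.QW

theorem KQF : K ⊔ o2 P ≤ normalizer (F : Set G) := by
  refine sup_le c.y.KF fun x hx => ?_
  have h1 : F ≤ centralizer (o2 P : Set G) := c.FL.trans c.LQ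
  exact centralizer_le_normalizer _ ((le_centralizer_iff.1 h1) hx)

theorem not_F {v : G} (hv : v = p 0 * p 1 ∨ v = p 0 * p 2 ∨ v = p 1 * p 2) : v ∉ F := fun h => by
  rcases c.Fq h with h1 | h1
  · rcases hv with rfl | rfl | rfl
    · exact c.hp.mul_ne_one (by decide) h1
    · exact c.hp.mul_ne_one (by decide) h1
    · exact c.hp.mul_ne_one (by decide) h1
  · rcases hv with rfl | rfl | rfl
    · exact pair_ne c.hp (m := 2) (by decide) h1
    · exact pair_ne c.hp (m := 1) (by decide) h1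
    · exact pair_ne c.hp (m := 0) (by decide) h1

theorem mem_W {v : G} (hv : v = p 0 * p 1 ∨ v = p 0 * p 2 ∨ v = p 1 * p 2) : v ∈ W := by
  rcases hv with rfl | rfl | rfl
  · exact c.V3
  · exact c.V4
  · exact c.V5

theorem mem_L {v : G} (hv : v = p 0 * p 1 ∨ v = p 0 * p 2 ∨ v = p 1 * p 2) : v ∈ zl (S : Subgroup G) P := by
  rcases hv with rfl | rfl | rfl
  · exact mul_mem (c.pL 0) (c.pL 1)
  · exact mul_mem (c.pL 0) (c.pL 2)
  · exact mul_mem (c.pL 1) (c.pL 2)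

/-- the images of the light elements of `V_t` -/
theorem img {x v : G} (hv : v = p 0 * p 1 ∨ v = p 0 * p 2 ∨ v = p 1 * p 2) (hx : x ∈ K ⊔ o2 P)
    (hxQ : x ∈ normalizer (o2 P : Set G)) :
    x * v * x⁻¹ = p 0 * p 1 ∨ x * v * x⁻¹ = p 0 * p 2 ∨ x * v * x⁻¹ = p 1 * p 2 := by
  refine c.cls (conj_mem' c.KQW hx (c.mem_W hv)) (conj_mem' c.normL hxQ (c.mem_L hv)) (fun h1 => c.not_F hv ?_)
    fun k => ?_
  · have h2 := conj_mem' c.KQF (inv_mem hx) h1
    have e : x⁻¹ * (x * v * x⁻¹) * x⁻¹⁻¹ = v := by group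
    rwa [e] at h2
  · rcases hv with rfl | rfl | rfl
    · exact lh c.five (by decide) k
    · exact lh c.five (by decide) k
    · exact lh c.five (by decide) k

theorem h_ne {v : G} (hv : v = p 0 * p 1 ∨ v = p 0 * p 2 ∨ v = p 1 * p 2) : h * v * h⁻¹ ≠ v := fun e =>
  c.not_F hv (c.y.hv v ⟨c.mem_W hv, c.mem_L hv⟩ (by rw [e, mul_inv_cancel]; exact one_mem _))

theorem cj_comm {x : G} (hW : x ∈ normalizer (W : Set G)) (hQ : x ∈ normalizer (o2 P : Set G)) :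
    cj x ⁅W, o2 P⁆ = ⁅W, o2 P⁆ := by
  have e1 : cj x ⁅W, o2 P⁆ = ⁅cj x W, cj x (o2 P)⁆ := Subgroup.map_commutator _ _ _
  rw [e1, cj_eq_of_mem_normalizer hW, cj_eq_of_mem_normalizer hQ]

/-- `V_t ≤ [W, Q]` -/
theorem VC : p 0 * p 1 ∈ ⁅W, o2 P⁆ ∧ p 0 * p 2 ∈ ⁅W, o2 P⁆ := by
  have hKQ : h ∈ K ⊔ o2 P := mem_sup_left c.y.hK
  have e1 : p 0 * p 1 * (p 0 * p 2) = p 1 * p 2 := by
    rw [c.hp.comm 0 1, mul_assoc, ← mul_assoc (p 0), c.hp.sq, one_mul]
  have e2 : p 0 * p 2 * (p 1 * p 2) = p 0 * p 1 := by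
    rw [c.hp.comm 1 2, mul_assoc, ← mul_assoc (p 2), c.hp.sq, one_mul]
  have e3 : p 0 * p 1 * (p 1 * p 2) = p 0 * p 2 := by
    rw [mul_assoc, ← mul_assoc (p 1), c.hp.sq, one_mul]
  have hD : ∀ x ∈ ⁅W, o2 P⁆, h * x * h⁻¹ ∈ ⁅W, o2 P⁆ := fun x hx => by
    have h1 := mem_cj' (x := h) hx
    rwa [c.cj_comm (c.KQW hKQ) c.y.hQ] at h1
  obtain ⟨f, hf, h1⟩ := c.y.WC (p 0 * p 1) ⟨c.V3, c.mem_L (Or.inl rfl)⟩
  have hhf : h * f * h⁻¹ = f := by
    have h2 : h * f = f * h := by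
      rcases c.Fq hf with rfl | rfl
      · group
      · rw [← mul_assoc, c.K3 c.y.hK, mul_assoc, c.K4 c.y.hK, mul_assoc]
    rw [h2]
    group
  -- `v (h v h⁻¹) ∈ [W, Q]`
  have h2 : p 0 * p 1 * (h * (p 0 * p 1) * h⁻¹) ∈ ⁅W, o2 P⁆ := by
    have h3 := mul_mem (inv_mem h1) (hD _ h1)
    have e4 : h * (p 0 * p 1 * f) * h⁻¹ = (h * (p 0 * p 1) * h⁻¹) * f := by
      have : h * (p 0 * p 1 * f) * h⁻¹ = (h * (p 0 * p 1) * h⁻¹) * (h * f * h⁻¹) := by group
      rw [this, hhf]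
    have e5 : (p 0 * p 1)⁻¹ = p 0 * p 1 := by
      rw [mul_inv_rev, c.hp.pinv, c.hp.pinv, c.hp.comm]
    have hL1 : h * (p 0 * p 1) * h⁻¹ ∈ zl (S : Subgroup G) P := conj_mem' c.normL c.y.hQ (c.mem_L (Or.inl rfl))
    have e6 : (p 0 * p 1 * f)⁻¹ * ((h * (p 0 * p 1) * h⁻¹) * f) = p 0 * p 1 * (h * (p 0 * p 1) * h⁻¹) := by
      rw [mul_inv_rev, e5, c.Lc hL1 (c.FL hf), c.Lc (inv_mem (c.FL hf)) (c.mem_L (Or.inl rfl))]
      group
    rwa [e4, e6] at h3
  rcases c.img (Or.inl rfl) hKQ c.y.hQ with h3 | h3 | h3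
  · exact absurd h3 (c.h_ne (Or.inl rfl))
  · rw [h3, e1] at h2
    have h4 := hD _ h2
    rcases c.img (Or.inr (Or.inr rfl)) hKQ c.y.hQ with h5 | h5 | h5
    · rw [h5] at h4
      refine ⟨h4, ?_⟩
      rw [← e3]
      exact mul_mem h4 h2
    · rw [h5] at h4
      refine ⟨?_, h4⟩
      rw [← e2]
      exact mul_mem h4 h2
    · exact absurd h5 (c.h_ne (Or.inr (Or.inr rfl)))
  · rw [h3, e3] at h2
    have h4 := hD _ h2
    rcases c.img (Or.inr (Or.inl rfl)) hKQ c.y.hQ with h5 | h5 | h5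
    · rw [h5] at h4
      exact ⟨h4, h2⟩
    · exact absurd h5 (c.h_ne (Or.inr (Or.inl rfl)))
    · rw [h5] at h4
      refine ⟨?_, h2⟩
      rw [← e2]
      exact mul_mem h2 h4

theorem not03 : p 0 * p 3 ∉ W := fun hW => by
  obtain ⟨f, hf, h1⟩ := c.WL hW (mul_mem (c.pL 0) (c.pL 3))
  rcases c.Fq hf with rfl | rfl
  · simp only [mul_one] at h1
    rcases h1 with h1 | h1 | h1 | h1
    · exact c.hp.mul_ne_one (by decide) h1
    · exact pair_ne' c.hp (by decide) h1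
    · exact pair_ne' c.hp (by decide) h1
    · exact pair_ne c.hp (m := 4) (by decide) h1
  · rcases h1 with h1 | h1 | h1 | h1
    · rw [c.hp.comm 0 3] at h1
      exact pair_ne' c.hp (by decide) h1
    · exact c.hp.mul_ne (by decide) 2 (h1.trans (four c.hp (by decide)))
    · exact c.hp.mul_ne (by decide) 1 (h1.trans (four c.hp (by decide)))
    · exact c.hp.mul_ne (by decide) 0 (h1.trans (four c.hp (by decide)))

theorem not13 : p 1 * p 3 ∉ W := fun hW => by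
  obtain ⟨f, hf, h1⟩ := c.WL hW (mul_mem (c.pL 1) (c.pL 3))
  rcases c.Fq hf with rfl | rfl
  · simp only [mul_one] at h1
    rcases h1 with h1 | h1 | h1 | h1
    · exact c.hp.mul_ne_one (by decide) h1
    · rw [c.hp.comm 0 1] at h1
      exact pair_ne' c.hp (by decide) h1
    · exact pair_ne c.hp (m := 4) (by decide) h1
    · exact pair_ne' c.hp (by decide) h1
  · rcases h1 with h1 | h1 | h1 | h1
    · rw [c.hp.comm 1 3] at h1
      exact pair_ne' c.hp (by decide) h1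
    · exact c.hp.mul_ne (by decide) 2 (h1.trans (four c.hp (by decide)))
    · exact c.hp.mul_ne (by decide) 1 (h1.trans (four c.hp (by decide)))
    · exact c.hp.mul_ne (by decide) 0 (h1.trans (four c.hp (by decide)))

/-- `H = C_P(z)` -/
def HH (P : Subgroup G) (p : Fin 5 → G) : Subgroup G := P ⊓ centralizer ({p 4} : Set G)

/-- `U = ⟨V_P^⟨K, H⟩⟩` -/
def UU (S P K : Subgroup G) (p : Fin 5 → G) : Subgroup G := cl (zl S P) (K ⊔ HH P p)

theorem L_UU : zl (S : Subgroup G) P ≤ UU (S : Subgroup G) P K p := le_cl _ _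

theorem nUU : K ⊔ HH P p ≤ normalizer (UU (S : Subgroup G) P K p : Set G) := le_normalizer_cl _ _

theorem PG : P ≤ GX (S : Subgroup G) P Y := by
  obtain ⟨T, hT⟩ := c.wq
  exact hT.P_le

theorem NG : K ⊔ HH P p ≤ GX (S : Subgroup G) P Y := sup_le c.KG (inf_le_left.trans c.PG)

theorem UV : UU (S : Subgroup G) P K p ≤ V := by
  obtain ⟨T, hT⟩ := c.wq
  refine cl_le fun n hn => ?_
  have h1 : zl (S : Subgroup G) P ≤ V := hT.L_le_zl.trans c.fm.md.ge
  rw [← cj_eq_of_mem_normalizer (c.fm.md.norm (c.NG hn))]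
  exact cj_mono n h1

theorem Uzc : UU (S : Subgroup G) P K p ≤ zc (DX (S : Subgroup G) P Y) := c.UV.trans c.fm.md.le

theorem HQ : HH P p ≤ normalizer (o2 P : Set G) := inf_le_left.trans (ZN.le_normalizer_o2 P)

theorem Q_HH : o2 P ≤ HH P p := by
  refine le_inf (ZN.o2_le P) fun x hx => ?_
  rw [mem_centralizer_singleton_iff]
  exact mem_centralizer_iff.1 (c.LQ (c.pL 4)) x hx

/-- `⟨K, H⟩ ≤ C_G(z)` -/
theorem Nz : K ⊔ HH P p ≤ CZ (S : Subgroup G) := by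
  have h1 : CZ (S : Subgroup G) = centralizer ({p 4} : Set G) := NTwo.cent_zc c.five.std
  rw [h1]
  refine sup_le (fun k hk => ?_) inf_le_right
  rw [mem_centralizer_singleton_iff]
  exact c.K4 hk

theorem Ulow : UU (S : Subgroup G) P K p ≤ o2 (CZ (S : Subgroup G)) := by
  refine cl_le fun n hn => ?_
  have h1 := cj_mono n (c.caseL.hypN.low P c.caseL.pss.par)
  rwa [cj_eq_of_mem_normalizer (ZN.le_normalizer_o2 _ (c.Nz hn))] at h1

theorem false : False := by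
  obtain ⟨T, hT⟩ := c.wq
  set L := zl (S : Subgroup G) P with hL
  set Q := o2 P with hQ
  set H := HH P p with hH
  set U := UU (S : Subgroup G) P K p with hU
  have hLU : L ≤ U := c.L_UU
  have hKN : K ≤ K ⊔ H := le_sup_left
  have hHN : H ≤ K ⊔ H := le_sup_right
  have hUc : U ≤ centralizer (U : Set G) := fun x hx => mem_centralizer_iff.2 fun y hy => Level.Lev.zc_comm (c.Uzc hy) (c.Uzc hx)
  have WU : W ≤ U := c.y.WK U hLU (hKN.trans c.nUU)
  have hUQ : U ⊓ centralizer (Q : Set G) = L := by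
    refine le_antisymm ?_ (le_inf hLU c.LQ)
    rw [hL, ← hT.cvQ]
    exact inf_le_inf_right _ c.Uzc
  -- the element of `C_P(z)` moving `t = {0, 1, 2}` to `{0, 1, 3}`
  obtain ⟨gs, hgP, hgs⟩ := c.hp.full (Equiv.swap 2 3)
  have hg0 : gs * p 0 * gs⁻¹ = p 0 := by rw [hgs, Equiv.swap_apply_of_ne_of_ne (by decide) (by decide)]
  have hg1 : gs * p 1 * gs⁻¹ = p 1 := by rw [hgs, Equiv.swap_apply_of_ne_of_ne (by decide) (by decide)]
  have hg2 : gs * p 2 * gs⁻¹ = p 3 := by rw [hgs, Equiv.swap_apply_left]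
  have hg3 : gs * p 3 * gs⁻¹ = p 2 := by rw [hgs, Equiv.swap_apply_right]
  have hg4 : gs * p 4 * gs⁻¹ = p 4 := by rw [hgs, Equiv.swap_apply_of_ne_of_ne (by decide) (by decide)]
  have hgH : gs ∈ H := mem_inf.2 ⟨hgP, NTwo.mem_cent.2 hg4⟩
  have e01 : gs * (p 0 * p 1) * gs⁻¹ = p 0 * p 1 := by rw [NTwo.cm, hg0, hg1]
  have e02 : gs * (p 0 * p 2) * gs⁻¹ = p 0 * p 3 := by rw [NTwo.cm, hg0, hg2]
  have e03 : gs * (p 0 * p 3) * gs⁻¹ = p 0 * p 2 := by rw [NTwo.cm, hg0, hg3]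
  have e13 : gs * (p 1 * p 3) * gs⁻¹ = p 1 * p 2 := by rw [NTwo.cm, hg1, hg3]
  have hgD : cj gs ⁅W, Q⁆ = ⁅cj gs W, Q⁆ := by
    have e1 : cj gs ⁅W, Q⁆ = ⁅cj gs W, cj gs Q⁆ := Subgroup.map_commutator _ _ _
    rw [e1, cj_eq_of_mem_normalizer (c.HQ hgH)]
  have h01 : p 0 * p 1 ∈ ⁅cj gs W, Q⁆ := by
    rw [← hgD, ← e01]
    exact mem_cj' c.VC.1
  have h03 : p 0 * p 3 ∈ ⁅cj gs W, Q⁆ := by
    rw [← hgD, ← e02]
    exact mem_cj' c.VC.2
  have rt : Rt Q U L W := ⟨WU, c.y.QW, c.y.idx, c.y.cW, c.y.ix⟩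
  have rs : Rt Q U L (cj gs W) := rt.conj (c.HQ hgH) (c.nUU (hHN hgH)) (c.normL (c.HQ hgH))
  have hDW : ⁅cj gs W, Q⁆ ≤ cj gs W := by
    rw [commutator_le]
    intro w hw x hx
    rw [commutatorElement_def]
    have h1 := conj_mem' rs.QW hx (inv_mem hw)
    have e : w * x * w⁻¹ * x⁻¹ = w * (x * w⁻¹ * x⁻¹) := by group
    rw [e]
    exact mul_mem hw h1
  have off : ∃ A ≤ Q, OffM U A := by
    obtain ⟨A, hA, hAQ, hAW⟩ := c.act
    have hZ : zc (S : Subgroup G) ≤ ChoiceBase.cj 1 (zl (S : Subgroup G) P) := by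
      rw [cj_one]
      exact ZN.zc_le_zl
    have h1 := (c.fm.her A hA (hAQ.trans hT.o2P_le) 1 (one_mem _) (zc (S : Subgroup G)) U hT.zc_ne hZ c.UV c.Ulow).1
    rw [cj_one] at h1
    refine ⟨A, hAQ, h1.toElemM, fun h2 => hAW (h2.trans (centralizer_le WU)), ?_⟩
    have h3 := h1.max (A ⊓ centralizer (U : Set G)) inf_le_left le_rfl
    have h4 : U ⊓ centralizer ((A ⊓ centralizer (U : Set G) : Subgroup G) : Set G) = U :=
      inf_eq_left.2 (cent_symm inf_le_right)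
    rw [h4, mul_comm] at h3
    exact h3
  refine Sit.false (Q := Q) (U := U) (L := L) (K := K) (H := H) (W := W) (F := F) (R := R) (g := g) (h := h)
    (gs := gs)
    { Uc := hUc
      QU := c.Q_HH.trans (hHN.trans c.nUU)
      KU := hKN.trans c.nUU
      HU := hHN.trans c.nUU
      HQ := c.HQ
      LU := hUQ
      gen := fun X hK hH hX => ?_
      off := off
      rt := rt
      KW := c.y.KW
      KE := c.y.KE
      syl := c.y.syl
      FW := c.y.FW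
      FL := c.FL
      KF := c.y.KF
      Fe := c.y.Fe
      iF := c.y.iF
      RK := c.y.RK
      nR := c.y.nR
      ER := c.y.ER
      RW := c.y.RW
      gK := c.y.gK
      gn := c.y.gn
      hK := c.y.hK
      hQ := c.y.hQ
      gsH := hgH
      nv := fun hle => c.not03 (hle h03)
      β := fun x hx hxQ hxv hle => ?_ }
  · have hN : K ⊔ H ≤ normalizer (X : Set G) := sup_le hK hH
    have h2 : UU (S : Subgroup G) P K p ≤ centralizer (X : Set G) := cl_le fun n hn => by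
      have h1 := cj_cent (g := n) (cent_symm hX : L ≤ centralizer (X : Set G))
      rwa [cj_eq_of_mem_normalizer (hN hn)] at h1
    exact cent_symm h2
  · -- `x (p 0 p 1) x⁻¹ ∈ cj gs W`
    have h1 : x * (p 0 * p 1) * x⁻¹ ∈ cj gs W := hDW (hle (mem_cj' h01))
    have h2 : x * (p 0 * p 1) * x⁻¹ ≠ p 0 * p 1 := fun e => by
      have h3 := hxv (p 0 * p 1) ⟨c.V3, c.mem_L (Or.inl rfl)⟩
      rw [e] at h3
      have h4 := inv_mem h3
      have e' : (p 0 * p 1 * (h * (p 0 * p 1) * h⁻¹)⁻¹)⁻¹ = h * (p 0 * p 1) * h⁻¹ * (p 0 * p 1)⁻¹ := by group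
      rw [e'] at h4
      exact c.not_F (Or.inl rfl) (c.y.hv _ ⟨c.V3, c.mem_L (Or.inl rfl)⟩ h4)
    rcases c.img (Or.inl rfl) hx hxQ with h3 | h3 | h3
    · exact h2 h3
    · rw [h3, ← e03, mem_cj_iff] at h1
      exact c.not03 h1
    · rw [h3, ← e13, mem_cj_iff] at h1
      exact c.not13 h1

end Fc

/-- **One `S₅` in (TOR') is impossible.** -/
theorem false_of {T : Subgroup G} (five : FiveL S P p) (wy : WQ S P T Y) (fm : FamT S P Y V 𝓕) (KY : K ≤ Y)
    (y : Y5 (o2 P) (zl (S : Subgroup G) P) K W F R g h p)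
    (mvW : ∀ A ≤ o2 P, ¬ A ≤ o2 Y → ¬ A ≤ centralizer (W : Set G)) : False := by
  obtain ⟨σ, h0, h1, h2, h3, h4⟩ : ∃ σ : Equiv.Perm (Fin 5), σ 0 = 3 ∧ σ 1 = 4 ∧ σ 2 = 0 ∧ σ 3 = 1 ∧ σ 4 = 2 := by
    decide +kernel
  obtain ⟨u, huP, hu⟩ := five.std.toFv.full σ
  have hPQ : P ≤ normalizer (o2 P : Set G) := ZN.le_normalizer_o2 P
  have hPG : P ≤ GX (S : Subgroup G) P Y := wy.P_le
  have uQ := hPQ huP
  have uL : u ∈ normalizer (zl (S : Subgroup G) P : Set G) := ZN.le_normalizer_zl _ _ huP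
  have hq : (fun i => u * p i * u⁻¹) = ![p 3, p 4, p 0, p 1, p 2] := by
    funext i
    rw [hu]
    fin_cases i
    · simp [h0]
    · simp [h1]
    · simp [h2]
    · simp [h3]
    · simp [h4]
  have y' := y.conj uQ uL
  rw [hq] at y'
  obtain ⟨A, hA, hAQ, hAY⟩ := fm.act
  have c : Fc S P Y V 𝓕 p (cj u K) (cj u W) (cj u F) (cj u R) (u * g * u⁻¹) (u * h * u⁻¹) :=
    { five := five
      wq := ⟨T, wy⟩
      fm := fm
      KG := by
        have h5 := cj_mono u (KY.trans wy.Y_le)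
        rwa [cj_eq_of_mem_normalizer (le_normalizer (hPG huP))] at h5
      y := y'
      act := ⟨cj u A, fm.cj A hA u (hPG huP), by
        have h5 := cj_mono u hAQ
        rwa [cj_eq_of_mem_normalizer uQ] at h5, fun h5 => by
        have h6 := cj_mono u⁻¹ h5
        rw [cj_inv_cj, cj_centralizer, cj_inv_cj] at h6
        exact mvW A hAQ hAY h6⟩ }
  exact c.false

/-- **One `S₅` in (TOR') is impossible**, over the facts at `Y`. -/
theorem TorS.false_of (t : TorS S P p Y)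
    (hy : ∃ (K W F R : Subgroup G) (g h : G), K ≤ Y ∧ Y5 (o2 P) (zl (S : Subgroup G) P) K W F R g h p ∧
      ∀ A ≤ o2 P, ¬ A ≤ o2 Y → ¬ A ≤ centralizer (W : Set G)) : False := by
  obtain ⟨K, W, F, R, g, h, KY, y, mvW⟩ := hy
  obtain ⟨V, 𝓕, fm⟩ := t.fam
  exact SFive.false_of t.five t.wy.toWQ fm KY y mvW

end c

end Cfsg.Agent.Omega.NO3S.WY.Tor.SFive

end

end
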