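import Cfsg.Agent.Mrg.Omega.NO3S.WY.Tor.TYOf
import Cfsg.Agent.Mrg.Omega.NO3S.WY.Tor.CxOf
import Cfsg.Agent.MinSimple.LemXPerm
import Cfsg.Agent.Mrg.Omega.NO3S.WY.FinDone

-- merged: Cfsg.Agent.Mrg.Omega.NO3S.WY.Tor.ActCo
section

/-!
# THEOREM TOR: `TY.act` over the coordinates `Co`
-/

set_option autoImplicit false
set_option linter.unusedSectionVars false

namespace Cfsg.Agent.Omega.NO3S.WY.Tor.Co

open Subgroup Cfsg Cfsg.Agent.ZN Cfsg.Agent.ZN.ChoiceBase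
open Cfsg.Agent.Omega.FrameFF (cv)

universe u

variable {G : Type u} [Group G] [Finite G] {ι : Type} {F : Type} [Field F] {S B Q M X L : Subgroup G}
  {V : ι → Subgroup G} {z : ι → G} {𝓦 : Set (Subgroup G)} {j : ι} {Y : Subgroup G}

/-- **the five lines of `W_j`** -/
theorem act_five [Finite F] [CharP F 2] (o : Co F S B Q M X L V z 𝓦 j Y) :
    ∃ (ℓ : Fin 5 → Subgroup G) (π : ↥Y →* Equiv.Perm (Fin 5)), ℓ 0 = V j ⊔ o.F0 ∧ (∀ a, ℓ a ≤ o.Wj) ∧
      (∀ a b, a ≠ b → ℓ a ⊓ ℓ b = o.F0) ∧ (∀ (y : Y) a, cj (y : G) (ℓ a) = ℓ (π y a)) ∧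
      alternatingGroup (Fin 5) ≤ π.range ∧ ∀ y : Y, π y = 1 → ∀ w ∈ o.Wj, (y : G) * w * (y : G)⁻¹ * w⁻¹ ∈ o.F0 := by
  obtain ⟨ℓ, π, h0, h1, h2, h3, h4, h5⟩ := Act.act o.nat.toNatK o.c4 o.YU o.BY o.B2 o.W_le o.YW
  refine ⟨ℓ, π, h0.trans ?_, h1, h2, h3, h4, h5⟩
  have hD : V j ⊔ o.F0 ≤ o.Wj := sup_le o.VW inf_le_left
  ext w
  constructor
  · rintro ⟨hw, -, hw0⟩
    exact (o.line' hw).1 hw0
  · intro hw
    exact ⟨hD hw, o.W_le (hD hw), (o.line' (hD hw)).2 hw⟩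

/-- **all of `TY`** -/
theorem ty' [Finite F] [CharP F 2] (o : Co F S B Q M X L V z 𝓦 j Y) : TY S B Q M X V z 𝓦 j Y o.Wj o.F0 :=
  o.ty o.act_five

end Cfsg.Agent.Omega.NO3S.WY.Tor.Co

end

-- merged: Cfsg.Agent.Mrg.Omega.NO3S.WY.Tor.PrOf
section

/-!
# THEOREM TOR: the frame `Pr` over `MulL`

* `comp` : every `1 ≠ y ∈ Ω₁(Z(S))` has all components `z i`; `zcS_eq` : `Ω₁(Z(S)) = {1, z₀}`;
* `exists_pr` : `Pr S (GX S P Y) (zl S P) W z z₀`, `z₀ ∈ Ω₁(Z(S))`.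
-/

set_option autoImplicit false
set_option linter.unusedSectionVars false
set_option linter.dupNamespace false

namespace Cfsg.Agent.Omega.NO3S.WY.Tor

open Subgroup Cfsg Cfsg.Agent.ZN Cfsg.Agent.ZN.ChoiceBase Cfsg.Agent.Omega.MinPar Cfsg.Agent.Omega.Frame
open Cfsg.Agent.ZN.ChoiceSit (Syl)
open Cfsg.Agent.MinSimple.MinParabolic (IsMinPar)
open Cfsg.Agent.Omega.NO3S.Level
open Cfsg.Agent.Omega.NO3S.RedC
open Cfsg.Agent.Omega.NO3S.EThree.Frame (Bg Fg)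
open Cfsg.Agent.Omega.Node.MulX (MulL)

universe u

variable {G : Type u} [Group G] [Finite G]

section bg

variable {S : Sylow 2 G} {P B ZJ : Subgroup G} {ι : Type} {L W Z C : ι → Subgroup G}

theorem C_le_VV [Finite ι] (h : Bg S P B ZJ L W Z C 2) (i : ι) : C i ≤ VV W i := by
  refine (h.C_le i).trans (iSup_le fun j => ?_)
  exact le_iSup_of_le j.1 (le_iSup_of_le j.2 le_rfl)

variable (h : Bg S P B ZJ L W Z C 2) {z : ι → G} (hz : ∀ i x, x ∈ Z i ↔ x = 1 ∨ x = z i)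
include h hz

/-- `1 ≠ y ∈ Ω₁(Z(S))` has all components `z i` -/
theorem comp {y : G} (hy : y ∈ ZJ) (hyS : ∀ s ∈ (S : Subgroup G), s * y = y * s) (hy1 : y ≠ 1) (i : ι) :
    ∃ c ∈ C i, y = z i * c := by
  obtain ⟨w, hw, c, hc, hcJ, e⟩ := h.fr.split_ZJ i hy
  rcases (hz i w).1 hw with rfl | rfl
  · exfalso
    apply hy1
    have hyC : y ∈ C i := by rw [e, one_mul]; exact hc
    refine h.fr.C0 y (h.fr.ZJV hy) fun j => ?_
    obtain ⟨s, hs, hsW⟩ := h.trans i j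
    obtain ⟨σ, hσ⟩ := h.perm_S hs
    have h1 : σ i = j := h.W_inj ((hσ i).1.symm.trans hsW)
    rw [← h1, ← (hσ i).2.2]
    refine ⟨y, hyC, ?_⟩
    simp only [MulEquiv.coe_toMonoidHom, MulAut.conj_apply]
    rw [hyS s hs]; group
  · exact ⟨c, hc, e⟩

theorem comp_unique {y y' : G} (hy : y ∈ ZJ) (hyS : ∀ s ∈ (S : Subgroup G), s * y = y * s) (hy1 : y ≠ 1)
    (hy' : y' ∈ ZJ) (hyS' : ∀ s ∈ (S : Subgroup G), s * y' = y' * s) (hy1' : y' ≠ 1) : y = y' := by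
  have h1 : y⁻¹ * y' = 1 := by
    refine h.fr.C0 _ (mul_mem (inv_mem (h.fr.ZJV hy)) (h.fr.ZJV hy')) fun i => ?_
    obtain ⟨c, hc, e⟩ := comp h hz hy hyS hy1 i
    obtain ⟨c', hc', e'⟩ := comp h hz hy' hyS' hy1' i
    rw [e, e']
    have : (z i * c)⁻¹ * (z i * c') = c⁻¹ * c' := by group
    rw [this]
    exact mul_mem (inv_mem hc) hc'
  exact inv_mul_eq_one.1 h1

end bg

/-- `Ω₁(Z(S)) ≤ Z_J` -/
theorem zcS_le {S : Sylow 2 G} {P B ZJ : Subgroup G} {k : ℕ} {L W Z C A : Fin k → Subgroup G} {q : ℕ}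
    (h : MulL S P B ZJ L W Z C A q) : zc (S : Subgroup G) ≤ ZJ := by
  intro y hy
  have h1 : y ∈ zl (S : Subgroup G) P := zcT_le_of h.cl le_rfl (h.cl.pss.par.isLoc.o2_le S) hy
  exact (h.bg.fr.mem_ZJ y).2 ⟨h1, fun b hb => (ChoiceBase.mem_zc.1 hy).2.2 b (h.bg.BS hb)⟩

/-- **The frame `Pr` of THEOREM TOR over `MulL`.** -/
theorem exists_pr {S : Sylow 2 G} {P B ZJ Y : Subgroup G} {k : ℕ} {L W Z C A : Fin k → Subgroup G}
    (h : MulL S P B ZJ L W Z C A 2) (hY : WQ S P B Y) {z : Fin k → G}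
    (hz : ∀ i x, x ∈ Z i ↔ x = 1 ∨ x = z i) :
    ∃ z₀ ∈ zc (S : Subgroup G), z₀ ≠ 1 ∧
      Pr (S : Subgroup G) (GX (S : Subgroup G) P Y) (zl (S : Subgroup G) P) W z z₀ := by
  obtain ⟨z₀, hz0, hz01⟩ : ∃ y ∈ zc (S : Subgroup G), y ≠ 1 := by
    by_contra hcon
    push Not at hcon
    exact hY.zc_ne ((eq_bot_iff_forall _).2 hcon)
  have hmem : ∀ y ∈ zc (S : Subgroup G), y ∈ ZJ ∧ ∀ s ∈ (S : Subgroup G), s * y = y * s := fun y hy =>
    ⟨zcS_le h hy, fun s hs => (ChoiceBase.mem_zc.1 hy).2.2 s hs⟩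
  obtain ⟨hJ0, hS0⟩ := hmem z₀ hz0
  refine ⟨z₀, hz0, hz01, fun i => ?_, fun R hR hRM => ?_⟩
  · obtain ⟨c, hc, e⟩ := comp h.bg hz hJ0 hS0 hz01 i
    exact ⟨c, C_le_VV h.bg i hc, e⟩
  · by_cases hn : R ≤ normalizer (zc (S : Subgroup G) : Set G)
    · right
      intro r hr
      have h1 := (mem_normalizer_iff.1 (hn hr) z₀).1 hz0
      obtain ⟨hJ1, hS1⟩ := hmem _ h1
      exact comp_unique h.bg hz hJ1 hS1 (fun e => hz01 (conj_eq_one_iff.1 e)) hJ0 hS0 hz01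
    · left
      have hSR : (S : Subgroup G) ≤ R := hR.le
      have hR2 : o2 R ≠ ⊥ := by
        intro e
        have h2 : o2 (GX (S : Subgroup G) P Y) ≤ o2 R :=
          MinSimple.Basic.o2_normal_le_o2 ((hY.isLoc_GX.o2_le S).trans hSR) hRM
        rw [e] at h2
        exact hY.isLoc_GX.o2_ne (le_bot_iff.1 h2)
      exact h.cl.par_le { toIsMinPar := hR, o2_ne := hR2, not_zc := hn }

end Cfsg.Agent.Omega.NO3S.WY.Tor

end

-- merged: Cfsg.Agent.Mrg.Omega.NO3S.WY.Tor.EndOf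
section

section


/-!
# THEOREM TOR: `TorP` gives the frame `Cx`, `Off`, `TY`, `Pr`

* `TorP.exists_frame`.
-/

set_option autoImplicit false
set_option linter.dupNamespace false

namespace Cfsg.Agent.Omega.NO3S.WY.Tor

open Subgroup Cfsg Cfsg.Agent.ZN Cfsg.Agent.ZN.ChoiceBase
open Cfsg.Agent.Omega.NO3S.RedC

universe u

variable {G : Type u} [Group G] [Finite G]

/-- **The frame of THEOREM TOR from `TorP`.** -/
theorem exists_frame {S : Sylow 2 G} {P B ZJ : Subgroup G} {k : ℕ} {L W Z C A : Fin k → Subgroup G} {j : Fin k}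
    {Y : Subgroup G} (t : TorP S P B ZJ L W Z C A j Y) :
    ∃ (V : Subgroup G) (z : Fin k → G) (𝓦 : Set (Subgroup G)) (W' F' : Subgroup G) (z₀ : G),
      Cx (S : Subgroup G) B (o2 P) (GX (S : Subgroup G) P Y) V (zl (S : Subgroup G) P) W z ∧
      Off (S : Subgroup G) (o2 P) (GX (S : Subgroup G) P Y) V (zl (S : Subgroup G) P) 𝓦 ∧
      TY (S : Subgroup G) B (o2 P) (GX (S : Subgroup G) P Y) V W z 𝓦 j Y W' F' ∧
      Pr (S : Subgroup G) (GX (S : Subgroup G) P Y) (zl (S : Subgroup G) P) W z z₀ := by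
  obtain ⟨h, wj, ⟨V, 𝓕, hf⟩, ⟨F, _, _, _, N, c4, line, rt⟩⟩ := t
  obtain ⟨z, hz⟩ := exists_z h.bg
  have o := co_of h wj hf hz N c4 line rt
  obtain ⟨z₀, -, -, p⟩ := exists_pr h wj.toWQ hz
  exact ⟨V, z, _, _, _, z₀, o.cx, off_of hf, o.ty', p⟩

end Cfsg.Agent.Omega.NO3S.WY.Tor

end

section


/-!
# THEOREM TOR, (2F) (helper864 #25428, (2'')): `F = 1`

Over the frame `Cx`, `TY`:

* `Cx.cj_V_of` : an element of `N(Q)` which normalises all `V_i`, `i ≠ j`, normalises `V_j`;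
* `Cx.eq_bot_of_supp` : a subgroup of `Λ_j` invariant under all `d_i`, `i ≠ j`, is trivial;
* `TY.comm_cj` : `[Q, W]^g ≤ [Q, W]` for `g ∈ N_M(Q) ∩ N(V_j)`, if `W^g ≤ W L`;
* `TY.comm_mem` : `[Q, W] ≤ V_j`;
* `TY.norm_line` : `N_Y(V_j F) ≤ N(V_j)` (Frattini);
* **`TY.F_eq`** : the union of the `V_j^y` is a `Y`-invariant subgroup, so `F = 1`.
-/

set_option autoImplicit false
set_option linter.unusedSectionVars false

namespace Cfsg.Agent.Omega.NO3S.WY.Tor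

open Subgroup Cfsg Cfsg.Agent.ZN Cfsg.Agent.ZN.ChoiceBase
open Cfsg.Agent.ZN.ChoiceSit (Syl syl_not_dvd)
open Cfsg.Agent.MinSimple.MinParabolic (IsMinPar)
open Cfsg.Agent.Omega.SQ1.Bau (mem_sup_comm)

universe u

variable {G : Type u} [Group G] {ι : Type}

namespace Cx

variable {S B Q M X L : Subgroup G} {V : ι → Subgroup G} {z : ι → G} (c : Cx S B Q M X L V z)
include c

theorem zz_one (i : ι) : z i * z i = 1 := c.Xs _ (c.zX i)

theorem mem_zp_iff {i : ι} {x : G} (hx : x ∈ zpowers (z i)) : x = 1 ∨ x = z i := by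
  obtain ⟨n, rfl⟩ := mem_zpowers_iff.1 hx
  rcases Int.even_or_odd n with ⟨r, rfl⟩ | ⟨r, rfl⟩
  · left
    rw [← two_mul, zpow_mul, zpow_ofNat, pow_two, c.zz_one i, one_zpow]
  · right
    rw [zpow_add, zpow_mul, zpow_ofNat, pow_two, c.zz_one i, one_zpow, one_mul, zpow_one]

/-- an element of `N(Q)` which normalises all `V_i`, `i ≠ j`, normalises `V_j` -/
theorem cj_V_of {g : G} (hQ : g ∈ normalizer (Q : Set G)) {j : ι} (h : ∀ i, i ≠ j → cj g (V i) = V i) :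
    cj g (V j) = V j := by
  obtain ⟨m, hm⟩ := c.perm g hQ j
  by_cases h1 : m = j
  · rw [hm, h1]
  · have h2 : cj g (V j) = cj g (V m) := by rw [hm, h m h1]
    have h3 := congrArg (cj g⁻¹) h2
    rw [cj_inv_cj, cj_inv_cj] at h3
    exact absurd (c.V_inj h3).symm h1

/-- an element of `N(Q)` which centralises `z_i` normalises `V_i` -/
theorem cj_V_z {g : G} (hQ : g ∈ normalizer (Q : Set G)) {i : ι} (h : g * z i = z i * g) : cj g (V i) = V i := by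
  obtain ⟨m, hm⟩ := c.perm g hQ i
  have h1 : z i ∈ V m := by
    rw [← hm, mem_cj]
    have e : g⁻¹ * z i * g = z i := by rw [mul_assoc, ← h]; group
    rw [e]
    exact c.zV i
  rw [hm, c.V_of_mem (c.zV i) h1 (c.z1 i)]

/-- a subgroup of `Λ_j` in the intersection of the `V_(i)` is trivial -/
theorem supp [Finite G] (s : Finset ι) : ∀ f : G, f ∈ (⨆ i ∈ s, zpowers (z i)) → (∀ i ∈ s, f ∈ VV V i) → f = 1 := by
  classical
  induction s using Finset.induction_on with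
  | empty =>
    intro f hf _
    simpa using hf
  | insert a s ha ih =>
    intro f hf hs
    rw [Finset.iSup_insert] at hf
    have hsX : (⨆ i ∈ s, zpowers (z i)) ≤ X := iSup₂_le fun i _ => zpowers_le.2 (c.zX i)
    obtain ⟨x, hx, y, hy, rfl⟩ := mem_sup_comm (fun _ h1 _ h2 => c.xc (zpowers_le.2 (c.zX a) h1) (hsX h2)) hf
    have hyV : y ∈ VV V a := by
      have : (⨆ i ∈ s, zpowers (z i)) ≤ VV V a := iSup₂_le fun i hi =>
        (zpowers_le.2 (c.zV i)).trans (c.V_VV (fun e => ha (e ▸ hi)))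
      exact this hy
    have h1 : x ∈ V a ⊓ VV V a := by
      refine ⟨zpowers_le.2 (c.zV a) hx, ?_⟩
      have := (VV V a).mul_mem (hs a (Finset.mem_insert_self a s)) ((VV V a).inv_mem hyV)
      rwa [mul_inv_cancel_right] at this
    rw [c.ind a, mem_bot] at h1
    subst h1
    rw [one_mul] at hs ⊢
    exact ih y hy fun i hi => hs i (Finset.mem_insert_of_mem hi)

/-- **a subgroup of `Λ_j` invariant under all `d_i`, `i ≠ j`, is trivial** -/
theorem eq_bot_of_supp [Finite G] {j : ι} {D : Subgroup G} (hD : D ≤ Lam z j)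
    (hinv : ∀ g ∈ M, g ∈ normalizer (Q : Set G) → cj g (V j) = V j → cj g D ≤ D) : D = ⊥ := by
  classical
  have hfin : Finite ι := Finite.of_injective V fun _ _ h => c.V_inj h
  have := Fintype.ofFinite ι
  rw [eq_bot_iff]
  intro f hf
  rw [mem_bot]
  have hL : Lam z j ≤ ⨆ i ∈ (Finset.univ.erase j : Finset ι), zpowers (z i) :=
    iSup₂_le fun i hi => le_iSup₂_of_le (f := fun i (_ : i ∈ Finset.univ.erase j) => zpowers (z i)) i
      (Finset.mem_erase.2 ⟨hi, Finset.mem_univ i⟩) le_rfl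
  refine c.supp _ f (hL (hD hf)) fun i hi => ?_
  have hij : i ≠ j := (Finset.mem_erase.1 hi).1
  obtain ⟨d, hdM, hdQ, -, hdV, hdz⟩ := c.d i
  have hdj : cj d (V j) = V j := by
    apply cj_eq_of_mem_normalizer
    exact centralizer_le_normalizer _ (mem_centralizer_iff.2 fun v hv => (hdV j hij.symm v hv).symm)
  have hdi : cj d (V i) = V i := by
    refine c.cj_V_of hdQ fun m hm => ?_
    apply cj_eq_of_mem_normalizer
    exact centralizer_le_normalizer _ (mem_centralizer_iff.2 fun v hv => (hdV m hm v hv).symm)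
  have hdVV : ∀ v ∈ VV V i, d * v = v * d := by
    have : VV V i ≤ centralizer ({d} : Set G) := iSup₂_le fun m hm v hv =>
      mem_centralizer_singleton_iff.2 (hdV m hm v hv).symm
    exact fun v hv => (mem_centralizer_singleton_iff.1 (this hv)).symm
  -- `Λ_j = ⟨z_i⟩ Λ_ij`
  set R : Subgroup G := ⨆ m, ⨆ (_ : m ≠ i), zpowers (z m) with hR
  have hRV : R ≤ VV V i := iSup₂_le fun m hm => (zpowers_le.2 (c.zV m)).trans (c.V_VV hm)
  have hLR : Lam z j ≤ zpowers (z i) ⊔ R := by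
    refine iSup₂_le fun m _ => ?_
    by_cases hmi : m = i
    · rw [hmi]; exact le_sup_left
    · exact (le_iSup₂_of_le (f := fun m (_ : m ≠ i) => zpowers (z m)) m hmi le_rfl).trans le_sup_right
  have hcom : ∀ a ∈ zpowers (z i), ∀ b ∈ R, a * b = b * a := fun a ha b hb =>
    c.xc (zpowers_le.2 (c.zX i) ha) (c.VV_X i (hRV hb))
  obtain ⟨a, ha, y, hy, e⟩ := mem_sup_comm hcom (hLR (hD hf))
  have h1 : d * f * d⁻¹ ∈ D := hinv d hdM hdQ hdj (mem_cj' hf)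
  obtain ⟨a', ha', y', hy', e'⟩ := mem_sup_comm hcom (hLR (hD h1))
  rcases c.mem_zp_iff ha with rfl | rfl
  · rw [e, one_mul]; exact hRV hy
  · exfalso
    have h2 : d * z i * d⁻¹ * y = a' * y' := by
      rw [← e', e]
      have h3 := hdVV y (hRV hy)
      have e3 : d * (z i * y) * d⁻¹ = d * z i * d⁻¹ * (d * y) * d⁻¹ := by group
      rw [e3, h3]; group
    have h4 : a'⁻¹ * (d * z i * d⁻¹) ∈ V i ⊓ VV V i := by
      refine ⟨(V i).mul_mem ((V i).inv_mem ((zpowers_le.2 (c.zV i) : zpowers (z i) ≤ V i) ha')) ?_, ?_⟩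
      · rw [← hdi]; exact mem_cj' (c.zV i)
      · have e4 : a'⁻¹ * (d * z i * d⁻¹) = y' * y⁻¹ := by
          have : d * z i * d⁻¹ = a' * y' * y⁻¹ := by rw [← h2]; group
          rw [this]; group
        rw [e4]
        exact (VV V i).mul_mem (hRV hy') ((VV V i).inv_mem (hRV hy))
    rw [c.ind i, mem_bot, inv_mul_eq_one] at h4
    rcases c.mem_zp_iff ha' with h5 | h5
    · rw [h5] at h4
      apply c.z1 i
      have : z i = d⁻¹ * (d * z i * d⁻¹) * d := by group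
      rw [this, ← h4]; group
    · exact hdz (by rw [← h4, h5])

end Cx

namespace TY

variable {S B Q M X L : Subgroup G} {V : ι → Subgroup G} {z : ι → G} {𝓦 : Set (Subgroup G)} {j : ι}
  {Y W F : Subgroup G}

/-- `[Q, W]` -/
def QW' (Q W : Subgroup G) : Subgroup G := closure {x | ∃ q ∈ Q, ∃ w ∈ W, x = q * w * q⁻¹ * w⁻¹}

theorem mem_QW' {q w : G} (hq : q ∈ Q) (hw : w ∈ W) : q * w * q⁻¹ * w⁻¹ ∈ QW' Q W :=
  subset_closure ⟨q, hq, w, hw, rfl⟩

theorem QW'_le (h : TY S B Q M X V z 𝓦 j Y W F) : QW' Q W ≤ V j ⊔ F := by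
  rw [QW', closure_le]
  rintro _ ⟨q, hq, w, hw, rfl⟩
  exact h.quad q hq w hw

/-- `[Q, W]^g ≤ [Q, W]` -/
theorem comm_cj (c : Cx S B Q M X L V z) (h : TY S B Q M X V z 𝓦 j Y W F)
    {g : G} (hQ : g ∈ normalizer (Q : Set G)) (hu : cj g W ≤ W ⊔ L) : cj g (QW' Q W) ≤ QW' Q W := by
  rw [cj_le_iff, QW', closure_le]
  rintro _ ⟨q, hq, w, hw, rfl⟩
  show _ ∈ cj g⁻¹ (QW' Q W)
  rw [mem_cj, inv_inv]
  have h1 : g * q * g⁻¹ ∈ Q := conj_mem hQ hq
  obtain ⟨w₁, hw₁, l, hl, e⟩ := mem_sup_comm (fun _ ha _ hb => c.xc (h.WX ha) (c.LX hb)) (hu (mem_cj' hw))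
  have h2 := c.cQL _ h1 l hl
  have e1 : g * (q * w * q⁻¹ * w⁻¹) * g⁻¹ =
      (g * q * g⁻¹) * (g * w * g⁻¹) * (g * q * g⁻¹)⁻¹ * (g * w * g⁻¹)⁻¹ := by group
  rw [e1, e]
  set q' := g * q * g⁻¹ with hq'
  have e2 : q' * (w₁ * l) * q'⁻¹ * (w₁ * l)⁻¹ = q' * w₁ * q'⁻¹ * w₁⁻¹ := by
    calc q' * (w₁ * l) * q'⁻¹ * (w₁ * l)⁻¹ = q' * w₁ * (q'⁻¹ * (q' * l)) * q'⁻¹ * l⁻¹ * w₁⁻¹ := by group
      _ = q' * w₁ * (q'⁻¹ * (l * q')) * q'⁻¹ * l⁻¹ * w₁⁻¹ := by rw [h2]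
      _ = q' * w₁ * q'⁻¹ * w₁⁻¹ := by group
  rw [e2]
  exact mem_QW' h1 hw₁

/-- `[Q, W] ∩ F = 1` -/
theorem QWF [Finite G] (c : Cx S B Q M X L V z) (h : TY S B Q M X V z 𝓦 j Y W F)
    (uni : ∀ g ∈ M, g ∈ normalizer (Q : Set G) → cj g (V j) = V j → cj g W ≤ W ⊔ L) : QW' Q W ⊓ F = ⊥ := by
  refine c.eq_bot_of_supp (j := j) (inf_le_right.trans h.FL) fun g hM hQ hV => ?_
  have h1 := h.comm_cj c hQ (uni g hM hQ hV)
  rintro _ ⟨x, ⟨hx, hxF⟩, rfl⟩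
  have h2 : g * x * g⁻¹ ∈ QW' Q W := h1 (mem_cj' hx)
  refine ⟨h2, ?_⟩
  have h3 : g * x * g⁻¹ ∈ VV V j := (c.norm_VV hQ hV) (mem_cj' (h.F_VV c hxF))
  rw [← h.WVV c]
  exact ⟨h.VF_W (h.QW'_le h2), h3⟩

/-- an element of odd order of `N(V_i)` which fixes `1 ≠ u ∈ V_i` centralises `V_i` -/
theorem _root_.Cfsg.Agent.Omega.NO3S.WY.Tor.Cx.odd_cent [Finite G] (c : Cx S B Q M X L V z) {i : ι} {d u : G}
    (ho : Odd (orderOf d)) (hn : d ∈ normalizer (V i : Set G)) (hu : u ∈ V i) (hu1 : u ≠ 1) (hd : d * u = u * d) {v : G}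
    (hv : v ∈ V i) : d * v = v * d := by
  have h1 : zpowers u ≤ V i := zpowers_le.2 hu
  have h2 : Nat.card (zpowers u) = 2 := by
    rw [Nat.card_zpowers]
    exact orderOf_eq_prime (by rw [pow_two]; exact c.Xs _ (c.VX i hu)) hu1
  have h3 := Four.rel_mul_card h1
  rw [h2, c.cV i] at h3
  have h4 : ∀ x ∈ zpowers u, d * x = x * d := by
    intro x hx
    obtain ⟨n, rfl⟩ := mem_zpowers_iff.1 hx
    exact (Commute.zpow_right (show Commute d u from hd) n).eq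
  have h5 : d ∈ normalizer (zpowers u : Set G) :=
    centralizer_le_normalizer _ (mem_centralizer_iff.2 fun x hx => (h4 x hx).symm)
  have h6 := Four.comm_mem_of_two h1 (by omega) hn h5 hv
  rw [commutatorElement_def] at h6
  exact odd_comm ho (c.Xs _ (c.VX i (h1 h6))) (h4 _ h6) (c.xc (c.VX i (h1 h6)) (c.VX i hv)) rfl

/-- `[Q, W] ≤ V_j` -/
theorem QW_V [Finite G] (c : Cx S B Q M X L V z) (h : TY S B Q M X V z 𝓦 j Y W F)
    (uni : ∀ g ∈ M, g ∈ normalizer (Q : Set G) → cj g (V j) = V j → cj g W ≤ W ⊔ L) : QW' Q W ≤ V j := by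
  obtain ⟨d, hdM, hdQ, hdo, hdV, hdz⟩ := c.d j
  have hdj : cj d (V j) = V j := c.cj_V_of hdQ fun m hm => by
    apply cj_eq_of_mem_normalizer
    exact centralizer_le_normalizer _ (mem_centralizer_iff.2 fun v hv => (hdV m hm v hv).symm)
  have hdn : d ∈ normalizer (V j : Set G) := mem_normalizer_iff_cj.2 hdj
  have hdF : ∀ f ∈ F, d * f = f * d := by
    have h1 : VV V j ≤ centralizer ({d} : Set G) := iSup₂_le fun m hm v hv =>
      mem_centralizer_singleton_iff.2 (hdV m hm v hv).symm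
    exact fun f hf => (mem_centralizer_singleton_iff.1 (h1 (h.F_VV c hf))).symm
  have hdE : cj d (QW' Q W) ≤ QW' Q W := h.comm_cj c hdQ (uni d hdM hdQ hdj)
  have hEF := h.QWF c uni
  have hEX : QW' Q W ≤ X := h.QW'_le.trans (h.VF_W.trans h.WX)
  -- some `1 ≠ e₀ ∈ [Q, W]`
  obtain ⟨e₀, he₀, hne⟩ : ∃ e ∈ QW' Q W, e ≠ 1 := by
    by_contra hcon
    push Not at hcon
    have h1 : Q ≤ centralizer (W : Set G) := fun q hq => mem_centralizer_iff.2 fun w hw =>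
      (comm_iff.1 (hcon _ (mem_QW' hq hw))).symm
    have h2 := h.cardQ
    rw [inf_eq_left.2 h1] at h2
    have h3 : 0 < Nat.card Q := Nat.card_pos
    omega
  obtain ⟨v₀, hv₀, f₀, hf₀, rfl⟩ := (h.mem_VF c).1 (h.QW'_le he₀)
  have hv1 : v₀ ≠ 1 := by
    rintro rfl
    rw [one_mul] at he₀ hne
    have : f₀ ∈ QW' Q W ⊓ F := ⟨he₀, hf₀⟩
    rw [hEF, mem_bot] at this
    exact hne this
  have hdv : ¬ d * v₀ = v₀ * d := fun e => by
    have h1 := c.odd_cent hdo hdn hv₀ hv1 e (c.zV j)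
    apply hdz
    rw [h1]; group
  -- `u = [d, v₀] ∈ [Q, W] ∩ V_j`
  set u := d * v₀ * d⁻¹ * v₀⁻¹ with hu
  have huV : u ∈ V j := mul_mem (conj_mem hdn hv₀) (inv_mem hv₀)
  have hu1 : u ≠ 1 := fun e => hdv (comm_iff.1 e)
  have huE : u ∈ QW' Q W := by
    have h1 : d * (v₀ * f₀) * d⁻¹ ∈ QW' Q W := hdE (mem_cj' he₀)
    have h2 := mul_mem h1 (inv_mem he₀)
    have e : d * (v₀ * f₀) * d⁻¹ * (v₀ * f₀)⁻¹ = u := by
      calc d * (v₀ * f₀) * d⁻¹ * (v₀ * f₀)⁻¹ = d * v₀ * d⁻¹ * (d * f₀) * d⁻¹ * f₀⁻¹ * v₀⁻¹ := by group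
        _ = d * v₀ * d⁻¹ * (f₀ * d) * d⁻¹ * f₀⁻¹ * v₀⁻¹ := by rw [hdF f₀ hf₀]
        _ = u := by rw [hu]; group
    rwa [e] at h2
  -- `I = [Q, W] ∩ V_j = V_j`
  set I := QW' Q W ⊓ V j with hI
  have hIV : I ≤ V j := inf_le_right
  have hdI : cj d I ≤ I := by
    rw [hI, cj_inf, hdj]
    exact inf_le_inf_right _ hdE
  have hI2 : I = V j := by
    by_contra hne'
    have h1 : Nat.card I ∣ 4 := by rw [← c.cV j]; exact Subgroup.card_dvd_of_le hIV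
    have h2 : Nat.card I ≠ 4 := fun e => hne' (Subgroup.eq_of_le_of_card_ge hIV (by rw [c.cV j, e]))
    have h3 : Nat.card I ≠ 1 := fun e => by
      have h4 := Subgroup.card_eq_one.1 e
      have h5 : u ∈ I := ⟨huE, huV⟩
      rw [h4, mem_bot] at h5
      exact hu1 h5
    have h4 : Nat.card I = 2 := by
      have h5 : Nat.card I ≤ 4 := Nat.le_of_dvd (by norm_num) h1
      have h6 : 0 < Nat.card I := Nat.card_pos
      interval_cases (Nat.card I) <;> first | rfl | omega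
    -- `I = ⟨u⟩`
    have h5 : zpowers u = I := by
      refine Subgroup.eq_of_le_of_card_ge (zpowers_le.2 ⟨huE, huV⟩) ?_
      rw [h4, Nat.card_zpowers, orderOf_eq_prime (by rw [pow_two]; exact c.Xs _ (c.VX j huV)) hu1]
    have h6 : d * u * d⁻¹ = u := by
      have h7 : d * u * d⁻¹ ∈ zpowers u := by rw [h5]; exact hdI (mem_cj' ⟨huE, huV⟩)
      obtain ⟨n, hn⟩ := mem_zpowers_iff.1 h7
      have huu : u * u = 1 := c.Xs _ (c.VX j huV)
      rcases Int.even_or_odd n with ⟨r, rfl⟩ | ⟨r, rfl⟩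
      · exfalso
        rw [← two_mul, zpow_mul, zpow_ofNat, pow_two, huu, one_zpow] at hn
        apply hu1
        have : u = d⁻¹ * (d * u * d⁻¹) * d := by group
        rw [this, ← hn]; group
      · rw [zpow_add, zpow_mul, zpow_ofNat, pow_two, huu, one_zpow, one_mul, zpow_one] at hn
        exact hn.symm
    have h7 : d * u = u * d := mul_inv_eq_iff_eq_mul.1 h6
    exact hdv (c.odd_cent hdo hdn huV hu1 h7 hv₀)
  have hVE : V j ≤ QW' Q W := by rw [← hI2]; exact inf_le_left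
  intro x hx
  obtain ⟨v, hv, f, hf, rfl⟩ := (h.mem_VF c).1 (h.QW'_le hx)
  have h1 : f ∈ QW' Q W ⊓ F := by
    refine ⟨?_, hf⟩
    have := mul_mem (inv_mem (hVE hv)) hx
    rwa [inv_mul_cancel_left] at this
  rw [hEF, mem_bot] at h1
  rw [h1, mul_one]; exact hv

/-- `N_Y(V_j F) ≤ N(V_j)` -/
theorem norm_line [Finite G] (c : Cx S B Q M X L V z) (h : TY S B Q M X V z 𝓦 j Y W F) {y : G} (hy : y ∈ Y)
    (hyl : cj y (V j ⊔ F) = V j ⊔ F) : cj y (V j) = V j := by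
  set N : Subgroup G := Y ⊓ normalizer ((V j ⊔ F : Subgroup G) : Set G) with hN
  set C : Subgroup G := Y ⊓ centralizer ((V j ⊔ F : Subgroup G) : Set G) with hC
  have hBN : B ≤ N := by
    refine le_inf h.BY fun b hb => ?_
    have h2 : cj b F = F := by
      apply cj_eq_of_mem_normalizer
      exact centralizer_le_normalizer _ (mem_centralizer_iff.2 fun f hf => (h.cF (h.BY hb) hf).symm)
    rw [mem_normalizer_iff_cj]
    show Subgroup.map _ (V j ⊔ F) = _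
    rw [Subgroup.map_sup]
    exact congrArg₂ (· ⊔ ·) (c.BVj hb) h2
  have hsyl : Syl B N := ⟨hBN, c.B2, fun T hT hT2 hBT => (h.syl c).2.2 T (hT.trans inf_le_left) hT2 hBT⟩
  have hNC : N ≤ normalizer (C : Set G) := by
    intro n hn
    rw [mem_normalizer_iff_cj, hC, cj_inf, cj_centralizer, cj_eq_of_mem_normalizer (le_normalizer hn.1),
      cj_eq_of_mem_normalizer hn.2]
  obtain ⟨l, hl, n, hn, rfl⟩ := MinSimple.LemXPerm.exists_frattini hBN c.B2 (syl_not_dvd hsyl) hNC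
    (show y ∈ N from ⟨hy, mem_normalizer_iff_cj.2 hyl⟩)
  have hQC : Q ≤ B ⊓ C := le_inf c.QB (le_inf (h.QY c) fun q hq => mem_centralizer_iff.2 fun v hv =>
    (c.cQL q hq v (h.VF_L c hv)).symm)
  have hnQ : n ∈ normalizer (Q : Set G) := by
    rw [mem_normalizer_iff_cj]
    refine c.wc n ?_
    have h1 := cj_mono n hQC
    rw [cj_eq_of_mem_normalizer hn.2] at h1
    exact (h1.trans inf_le_left).trans c.BS
  have hnV : cj n (V j) = V j := c.cj_V_of hnQ fun i hi => c.cj_V_z hnQ (h.Yz n hn.1.1 i hi)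
  have hlV : cj l (V j) = V j := by
    apply cj_eq_of_mem_normalizer
    exact centralizer_le_normalizer _ (centralizer_le (show (V j : Set G) ⊆ (V j ⊔ F : Subgroup G) from
      (le_sup_left : V j ≤ V j ⊔ F)) hl.2)
  rw [← cj_cj, hnV, hlV]

/-- `q ↦ [q, w]` maps `Q` onto `V_j` -/
theorem surj [Finite G] (c : Cx S B Q M X L V z) (h : TY S B Q M X V z 𝓦 j Y W F) (hE : QW' Q W ≤ V j) {w v : G}
    (hw : w ∈ W) (hwl : w ∉ V j ⊔ F) (hv : v ∈ V j) : ∃ q ∈ Q, q * w * q⁻¹ * w⁻¹ = v := by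
  have hcm : ∀ q ∈ Q, ∀ u ∈ V j, q * u = u * q := fun q hq u hu => c.cQL q hq u (c.VL j hu)
  let f : ↥Q →* ↥(V j) := MonoidHom.mk' (fun q => ⟨(q : G) * w * (q : G)⁻¹ * w⁻¹, hE (mem_QW' q.2 hw)⟩) (by
    rintro ⟨a, ha⟩ ⟨b, hb⟩
    apply Subtype.ext
    show a * b * w * (a * b)⁻¹ * w⁻¹ = a * w * a⁻¹ * w⁻¹ * (b * w * b⁻¹ * w⁻¹)
    have h1 : b * w * b⁻¹ * w⁻¹ ∈ V j := hE (mem_QW' hb hw)
    have h2 : a * w * a⁻¹ * w⁻¹ ∈ V j := hE (mem_QW' ha hw)
    have h3 := hcm a ha _ h1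
    have h4 : a * w * a⁻¹ * w⁻¹ * (b * w * b⁻¹ * w⁻¹) = (b * w * b⁻¹ * w⁻¹) * (a * w * a⁻¹ * w⁻¹) :=
      c.xc (c.VX j h2) (c.VX j h1)
    rw [h4]
    calc a * b * w * (a * b)⁻¹ * w⁻¹ = (a * (b * w * b⁻¹ * w⁻¹)) * (w * a⁻¹ * w⁻¹) := by group
      _ = (b * w * b⁻¹ * w⁻¹) * a * (w * a⁻¹ * w⁻¹) := by rw [h3]
      _ = _ := by group)
  have hker : Nat.card f.ker = Nat.card ↥(Q ⊓ centralizer (W : Set G)) := by
    have h1 : f.ker.map Q.subtype = Q ⊓ centralizer (W : Set G) := by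
      ext x
      constructor
      · rintro ⟨⟨q, hq⟩, hqk, rfl⟩
        refine ⟨hq, mem_centralizer_iff.2 fun u hu => (h.free q hq w hw hwl ?_ u hu).symm⟩
        have h2 : q * w * q⁻¹ * w⁻¹ = 1 := congrArg Subtype.val (MonoidHom.mem_ker.1 hqk)
        rw [h2]; exact one_mem _
      · rintro ⟨hq, hqW⟩
        refine ⟨⟨x, hq⟩, ?_, rfl⟩
        apply Subtype.ext
        show x * w * x⁻¹ * w⁻¹ = 1
        exact comm_iff.2 (mem_centralizer_iff.1 hqW w hw).symm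
    rw [← h1]
    exact (Subgroup.card_map_of_injective Q.subtype_injective).symm
  have h2 := f.ker.card_mul_index
  rw [Subgroup.index_ker, hker, h.cardQ, mul_comm] at h2
  have h3 : 0 < Nat.card ↥(Q ⊓ centralizer (W : Set G)) := Nat.card_pos
  have h4 : Nat.card f.range = 4 := Nat.eq_of_mul_eq_mul_right h3 h2
  have h5 : f.range = ⊤ := Subgroup.eq_top_of_card_eq _ (by rw [h4, c.cV j])
  have h6 : (⟨v, hv⟩ : ↥(V j)) ∈ f.range := by rw [h5]; exact mem_top _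
  obtain ⟨q, hq⟩ := h6
  exact ⟨q, q.2, congrArg Subtype.val hq⟩

/-- **`F = 1`** -/
theorem F_eq_of [Finite G] (c : Cx S B Q M X L V z) (h : TY S B Q M X V z 𝓦 j Y W F) (hE : QW' Q W ≤ V j) :
    F = ⊥ := by
  obtain ⟨ℓ, π, h0, hW, hi, hc, -, -⟩ := h.act
  -- the lines
  have key : ∀ x ∈ V j, ∀ y ∈ Y, y * x * y⁻¹ ∈ V j ⊔ F → y * x * y⁻¹ ∈ V j := by
    intro x hx y hy hxy
    by_cases h1 : π ⟨y, hy⟩ 0 = 0
    · have h2 := hc ⟨y, hy⟩ 0
      rw [h1, h0] at h2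
      rw [← h.norm_line c hy h2]
      exact mem_cj' hx
    · have h2 : y * x * y⁻¹ ∈ ℓ (π ⟨y, hy⟩ 0) := by
        rw [← hc ⟨y, hy⟩ 0, h0]
        exact mem_cj' ((le_sup_left : V j ≤ V j ⊔ F) hx)
      have h3 : y * x * y⁻¹ ∈ F := by
        rw [← hi _ _ h1]
        exact ⟨h2, by rw [h0]; exact hxy⟩
      have h4 : x = y * x * y⁻¹ := by
        have h5 := h.cF (inv_mem hy) h3
        calc x = y⁻¹ * (y * x * y⁻¹) * y := by group
          _ = (y * x * y⁻¹) * y⁻¹ * y := by rw [h5]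
          _ = _ := by group
      rw [← h4]; exact hx
  let U : Subgroup G :=
    { carrier := {x | ∃ y ∈ Y, y * x * y⁻¹ ∈ V j}
      one_mem' := ⟨1, one_mem _, by simp⟩
      inv_mem' := by
        rintro x ⟨y, hy, hx⟩
        refine ⟨y, hy, ?_⟩
        have e : y * x⁻¹ * y⁻¹ = (y * x * y⁻¹)⁻¹ := by group
        rw [e]; exact inv_mem hx
      mul_mem' := by
        rintro a b ⟨y, hy, ha⟩ ⟨y', hy', hb⟩
        -- `a' = a^y ∈ V_j`, `b' = b^y`
        set a' := y * a * y⁻¹ with ha'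
        set b' := y * b * y⁻¹ with hb'
        set b₀ := y' * b * y'⁻¹ with hb₀
        have hb'' : b' = (y * y'⁻¹) * b₀ * (y * y'⁻¹)⁻¹ := by rw [hb', hb₀]; group
        have hyy : y * y'⁻¹ ∈ Y := mul_mem hy (inv_mem hy')
        have hb'W : b' ∈ W := by
          rw [hb'']
          exact conj_mem (h.YW hyy) (h.VW hb)
        have hprod : y * (a * b) * y⁻¹ = a' * b' := by rw [ha', hb']; group
        by_cases h1 : b' ∈ V j ⊔ F
        · refine ⟨y, hy, ?_⟩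
          rw [hprod]
          refine mul_mem ha ?_
          rw [hb'']
          exact key b₀ hb _ hyy (by rw [← hb'']; exact h1)
        · obtain ⟨q, hq, e⟩ := h.surj c hE hb'W h1 ha
          have e1 : a' * b' = q * b' * q⁻¹ := by rw [← e]; group
          refine ⟨y' * y⁻¹ * q⁻¹ * y, ?_, ?_⟩
          · exact mul_mem (mul_mem (mul_mem hy' (inv_mem hy)) (inv_mem (h.QY c hq))) hy
          · have e2 : y' * y⁻¹ * q⁻¹ * y * (a * b) * (y' * y⁻¹ * q⁻¹ * y)⁻¹ =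
                y' * y⁻¹ * (q⁻¹ * (y * (a * b) * y⁻¹) * q) * (y' * y⁻¹)⁻¹ := by group
            rw [e2, hprod, e1]
            have e3 : y' * y⁻¹ * (q⁻¹ * (q * b' * q⁻¹) * q) * (y' * y⁻¹)⁻¹ = b₀ := by
              rw [hb', hb₀]; group
            rw [e3]; exact hb }
  have hYU : Y ≤ normalizer (U : Set G) := by
    intro g hg
    refine mem_normalizer_of_cj_le ?_
    rintro _ ⟨x, ⟨y, hy, hx⟩, rfl⟩
    refine ⟨y * g⁻¹, mul_mem hy (inv_mem hg), ?_⟩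
    show y * g⁻¹ * (g * x * g⁻¹) * (y * g⁻¹)⁻¹ ∈ V j
    have e : y * g⁻¹ * (g * x * g⁻¹) * (y * g⁻¹)⁻¹ = y * x * y⁻¹ := by group
    rw [e]; exact hx
  have hWU : W ≤ U := h.gen U ⟨1, one_mem _, by simpa using c.zV j⟩ hYU
  rw [eq_bot_iff]
  intro f hf
  obtain ⟨y, hy, hfy⟩ := hWU (h.FW hf)
  have h1 : y * f * y⁻¹ = f := by rw [h.cF hy hf]; group
  rw [h1] at hfy
  rw [← h.VjF_bot c]
  exact ⟨hfy, hf⟩

/-- **(2F)** -/
theorem F_eq [Finite G] (c : Cx S B Q M X L V z) (h : TY S B Q M X V z 𝓦 j Y W F)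
    (uni : ∀ g ∈ M, g ∈ normalizer (Q : Set G) → cj g (V j) = V j → cj g W ≤ W ⊔ L) : F = ⊥ :=
  h.F_eq_of c (h.QW_V c uni)

end TY

end Cfsg.Agent.Omega.NO3S.WY.Tor

end

end

-- merged: Cfsg.Agent.Mrg.Omega.NO3S.WY.Tor.Main
section

section


/-!
# THEOREM TOR (helper474 #25011): there is no weird `Y` of torus type over the frame `Cx`, `Off`, `TY`, `Pr`

Pieces: (0) 570, 491 (`TY.ker_all`); (1), (3) 150 (`TY.cent_VV`, `TY.W_le_o2`); (2) 822 (`UniB.uni`); (2F) 864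
(`TY.F_eq`); (2+) 613 (`TY.cj_W_eq`); (4+) 594 (`FourTY.kc`); (Sig), (6) 839 (`TY.false_end`).
-/

set_option autoImplicit false

namespace Cfsg.Agent.Omega.NO3S.WY.Tor

open Subgroup Cfsg Cfsg.Agent.ZN Cfsg.Agent.ZN.ChoiceBase

universe u

variable {G : Type u} [Group G] {ι : Type}

/-- **THEOREM TOR.** -/
theorem TY.false [Finite G] {S B Q M X L : Subgroup G} {V : ι → Subgroup G} {z : ι → G} {𝓦 : Set (Subgroup G)}
    {j : ι} {Y W F : Subgroup G} {z₀ : G} (c : Cx S B Q M X L V z) (o : Off S Q M X L 𝓦)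
    (h : TY S B Q M X V z 𝓦 j Y W F) (p : Pr S M L V z z₀) (hne : ∃ i, i ≠ j) : False :=
  h.false_of c o p hne (TY.F_eq c h)

end Cfsg.Agent.Omega.NO3S.WY.Tor

end

section


/-!
# THEOREM TOR over `TorP`

* **`torEnd : InfOf.TorEnd K`**.
-/

set_option autoImplicit false
set_option linter.dupNamespace false

namespace Cfsg.Agent.Omega.NO3S.WY.InfOf

open Cfsg.Agent.Omega.Frame (Cls)

universe u

/-- **`TorP` is impossible.** -/
theorem torEnd (K : Cls.{u}) : TorEnd K := by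
  intro G _ _ _ S P B ZJ k L W Z C A hk j Y t
  have : Nontrivial (Fin k) := Fin.nontrivial_iff_two_le.2 hk
  obtain ⟨V, z, 𝓦, W', F', z₀, c, o, h, p⟩ := Tor.exists_frame t
  exact h.false c o p (exists_ne j)

end Cfsg.Agent.Omega.NO3S.WY.InfOf

end

end
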