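import Cfsg.Agent.Mrg.Omega.NO3S.WY.Tor.LitS
import Cfsg.Agent.Mrg.Omega.NO3S.WY.Tor.CxOf
import Cfsg.Agent.Mrg.Omega.CaseLQ.Crd

-- merged: Cfsg.Agent.Mrg.Omega.NO3S.WY.Tor.SFiveLet
section

section


/-!
# (TOR) for ONE `S₅`: the letters

`FiveL S P p`, `T = Std.T S p`.

* `act` : `N_G(V_P)` permutes the five heavy vectors `p i`;
* `exists_t01` : some `t ∈ T` acts as the transposition `(0 1)`;
* `perm_nn`, `perm_T`, `perm_odd` : elements which centralise `nn p`; elements of `T`; elements of odd order;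
* `exists_up` : an additive map of `F²` which fixes the line `{(x, 0)}` pointwise, normalises `SL₂(F)` and has 2-power
  order is an `up b`.
-/

set_option autoImplicit false
set_option linter.unusedSectionVars false

namespace Cfsg.Agent.Omega.NO3S.WY.Tor.SFiveI

open Subgroup Cfsg Cfsg.Agent.ZN Cfsg.Agent.ZN.ChoiceBase
open Cfsg.Agent.Omega.NatPair (ap ap_zero' ap_one' ext2)
open Cfsg.Agent.Lib.SL2Mat
open Cfsg.Agent.Omega.NTwo (Std nn aa mem_cent cm cc)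
open Cfsg.Agent.Omega.NO3S.Sym.Light (FiveL)

universe u

section lin

variable {F : Type} [Field F]

/-- An additive map of `F²` which fixes the line `{(x, 0)}` pointwise, normalises `SL₂(F)` and has 2-power order. -/
theorem exists_up [CharP F 2] (φ : (Fin 2 → F) → Fin 2 → F) (hadd : ∀ x y, φ (x + y) = φ x + φ y)
    (hfix : ∀ x : F, φ ![x, 0] = ![x, 0])
    (hnorm : ∀ A : Matrix.SpecialLinearGroup (Fin 2) F, ∃ B : Matrix.SpecialLinearGroup (Fin 2) F,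
      ∀ x, φ (ap A x) = ap B (φ x))
    (h2 : ∃ n : ℕ, ∀ x, φ^[2 ^ n] x = x) : ∃ b, ∀ x, φ x = ap (up b) x := by
  obtain ⟨B, hB⟩ := hnorm (wm 1 one_ne_zero)
  -- `φ (0, x) = x (c₀, c₁)`
  have hw : ∀ x : F, ap (wm (1 : F) one_ne_zero) ![x, 0] = ![0, -x] := by
    intro x
    apply ext2
    · rw [ap_zero', wm_00, wm_01]; simp
    · rw [ap_one', wm_10, wm_11]; simp
  have h0 : ∀ x : F, φ ![0, -x] = ![ent B 0 0 * x, ent B 1 0 * x] := by
    intro x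
    have h := hB ![x, 0]
    rw [hw, hfix] at h
    rw [h]
    apply ext2
    · rw [ap_zero']; simp
    · rw [ap_one']; simp
  set c₀ : F := - ent B 0 0 with hc₀
  set c₁ : F := - ent B 1 0 with hc₁
  have h1 : ∀ x : F, φ ![0, x] = ![c₀ * x, c₁ * x] := by
    intro x
    have h := h0 (-x)
    rw [neg_neg] at h
    rw [h, hc₀, hc₁]
    apply ext2
    · simp
    · simp
  have h3 : ∀ x, φ x = ![x 0 + c₀ * x 1, c₁ * x 1] := by
    intro x
    have e : x = ![x 0, 0] + ![0, x 1] := by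
      apply ext2
      · simp
      · simp
    conv_lhs => rw [e, hadd, hfix, h1]
    apply ext2
    · simp
    · simp
  have h4 : ∀ n : ℕ, ∀ x, φ^[n] x 1 = c₁ ^ n * x 1 := by
    intro n
    induction n with
    | zero => intro x; simp
    | succ n ih =>
      intro x
      rw [Function.iterate_succ_apply', h3]
      change c₁ * (φ^[n] x 1) = _
      rw [ih x, pow_succ]
      ring
  have hd1 : c₁ = 1 := by
    obtain ⟨n, hn⟩ := h2
    have h5 := h4 (2 ^ n) ![0, 1]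
    rw [hn] at h5
    have h6 : c₁ ^ 2 ^ n = 1 := by simpa using h5.symm
    have h7 : (c₁ - 1) ^ 2 ^ n = 0 := by
      rw [sub_pow_char_pow, one_pow, h6, sub_self]
    have h8 := eq_zero_of_pow_eq_zero h7
    exact sub_eq_zero.mp h8
  refine ⟨c₀, fun x => ?_⟩
  rw [h3, hd1]
  apply ext2
  · rw [ap_zero', up_00, up_01]; simp
  · rw [ap_one', up_10, up_11]; simp

end lin

section perms

theorem dec_nn : ∀ σ : Equiv.Perm (Fin 5), (σ 2 = 2 ∧ σ 3 = 3 ∧ σ 4 = 4) →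
    (∀ i, σ i = i) ∨ ∀ i, σ i = Equiv.swap 0 1 i := by decide +kernel

theorem dec_T : ∀ σ : Equiv.Perm (Fin 5), σ 4 = 4 → ((σ 0 = 0 ∧ σ 1 = 1) ∨ (σ 0 = 1 ∧ σ 1 = 0)) →
    ((σ 2 = 2 ∧ σ 3 = 3) ∨ (σ 2 = 3 ∧ σ 3 = 2)) := by decide +kernel

theorem dec_conj : ∀ σ : Equiv.Perm (Fin 5), (σ * Equiv.swap 0 1 * σ⁻¹ : Equiv.Perm (Fin 5)) 4 = 4 →
    (((σ * Equiv.swap 0 1 * σ⁻¹ : Equiv.Perm (Fin 5)) 0 = 0 ∧ (σ * Equiv.swap 0 1 * σ⁻¹ : Equiv.Perm (Fin 5)) 1 = 1) ∨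
      ((σ * Equiv.swap 0 1 * σ⁻¹ : Equiv.Perm (Fin 5)) 0 = 1 ∧ (σ * Equiv.swap 0 1 * σ⁻¹ : Equiv.Perm (Fin 5)) 1 = 0) ∨
      ((σ * Equiv.swap 0 1 * σ⁻¹ : Equiv.Perm (Fin 5)) 0 = 2 ∧ (σ * Equiv.swap 0 1 * σ⁻¹ : Equiv.Perm (Fin 5)) 1 = 3) ∨
      ((σ * Equiv.swap 0 1 * σ⁻¹ : Equiv.Perm (Fin 5)) 0 = 3 ∧ (σ * Equiv.swap 0 1 * σ⁻¹ : Equiv.Perm (Fin 5)) 1 = 2)) →
    (∀ i, (σ * Equiv.swap 0 1 * σ⁻¹ : Equiv.Perm (Fin 5)) i = Equiv.swap 0 1 i) ∨
      ∀ i, (σ * Equiv.swap 0 1 * σ⁻¹ : Equiv.Perm (Fin 5)) i = Equiv.swap 2 3 i := by decide +kernel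

theorem dec_tau : ∀ σ : Equiv.Perm (Fin 5), ((σ 0 = 2 ∧ σ 1 = 3) ∨ (σ 0 = 3 ∧ σ 1 = 2)) →
    ∀ i, (σ⁻¹ * Equiv.swap 2 3 * σ : Equiv.Perm (Fin 5)) i = Equiv.swap 0 1 i := by decide +kernel

theorem dec_odd : ∀ σ : Equiv.Perm (Fin 5), σ ^ 15 = 1 → ((σ 0 = 0 ∧ σ 1 = 1) ∨ (σ 0 = 1 ∧ σ 1 = 0)) →
    (∀ i, σ i = i) ∨ (σ 0 = 0 ∧ σ 1 = 1 ∧ σ 2 = 3 ∧ σ 3 = 4 ∧ σ 4 = 2) ∨
      (σ 0 = 0 ∧ σ 1 = 1 ∧ σ 2 = 4 ∧ σ 3 = 2 ∧ σ 4 = 3) := by decide +kernel

theorem pow_fifteen {σ : Equiv.Perm (Fin 5)} {m : ℕ} (hm : Odd m) (h : σ ^ m = 1) : σ ^ 15 = 1 := by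
  rw [← orderOf_dvd_iff_pow_eq_one] at h ⊢
  have h1 : orderOf σ ∣ 8 * 15 := by
    have := orderOf_dvd_card (x := σ)
    rw [Fintype.card_perm, Fintype.card_fin] at this
    exact this
  have h2 : Nat.Coprime (orderOf σ) 8 := by
    have : Odd (orderOf σ) := hm.of_dvd_nat h
    exact (Nat.Coprime.pow_right 3 (Nat.coprime_two_right.2 this) : Nat.Coprime (orderOf σ) (2 ^ 3))
  exact h2.dvd_of_dvd_mul_left h1

end perms

variable {G : Type u} [Group G] {p : Fin 5 → G}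

theorem act_pow {g : G} {σ : Equiv.Perm (Fin 5)} (h : ∀ i, g * p i * g⁻¹ = p (σ i)) (n : ℕ) :
    ∀ i, g ^ n * p i * (g ^ n)⁻¹ = p ((σ ^ n) i) := by
  induction n with
  | zero => intro i; simp
  | succ n ih =>
    intro i
    have e : g ^ (n + 1) * p i * (g ^ (n + 1))⁻¹ = g * (g ^ n * p i * (g ^ n)⁻¹) * g⁻¹ := by
      rw [pow_succ']; group
    rw [e, ih, h, pow_succ']
    rfl

theorem act_mul {g k : G} {σ τ : Equiv.Perm (Fin 5)} (h : ∀ i, g * p i * g⁻¹ = p (σ i))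
    (h' : ∀ i, k * p i * k⁻¹ = p (τ i)) : ∀ i, g * k * p i * (g * k)⁻¹ = p ((σ * τ) i) := by
  intro i
  have e : g * k * p i * (g * k)⁻¹ = g * (k * p i * k⁻¹) * g⁻¹ := by group
  rw [e, h', h]
  rfl

theorem act_inv {g : G} {σ : Equiv.Perm (Fin 5)} (h : ∀ i, g * p i * g⁻¹ = p (σ i)) :
    ∀ i, g⁻¹ * p i * g⁻¹⁻¹ = p (σ⁻¹ i) := by
  intro i
  have e := h (σ⁻¹ i)
  rw [show σ (σ⁻¹ i) = i from σ.apply_symm_apply i] at e
  rw [← e]
  group

variable [Finite G] {S : Sylow 2 G} {P : Subgroup G}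

/-- `N_G(V_P)` permutes the five heavy vectors. -/
theorem act (h : FiveL S P p) {g : G} (hg : g ∈ normalizer (zl (S : Subgroup G) P : Set G)) :
    ∃ σ : Equiv.Perm (Fin 5), ∀ i, g * p i * g⁻¹ = p (σ i) := by
  have key : ∀ i, ∃ j, g * p i * g⁻¹ = p j := by
    intro i
    have h1 : g * p i * g⁻¹ ∈ zl (S : Subgroup G) P := (mem_normalizer_iff.1 hg _).1 (h.toFive.p_mem i)
    rcases h.toFive.elts h1 with h2 | ⟨j, h2⟩ | ⟨j, k, hjk, h2⟩
    · exfalso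
      refine h.std.ne i ?_
      calc p i = g⁻¹ * (g * p i * g⁻¹) * g := by group
        _ = 1 := by rw [h2]; group
    · exact ⟨j, h2⟩
    · exfalso
      obtain ⟨k1, hk1, e1⟩ := h.toFive.heavy i
      obtain ⟨k2, hk2, e2⟩ := h.toFive.lights hjk
      refine h.not_conj (k2⁻¹ * g * k1) ?_
      calc k2⁻¹ * g * k1 * p 4 * (k2⁻¹ * g * k1)⁻¹ = k2⁻¹ * (g * (k1 * p 4 * k1⁻¹) * g⁻¹) * k2 := by group
        _ = k2⁻¹ * (k2 * nn p * k2⁻¹) * k2 := by rw [e1, h2, e2]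
        _ = nn p := by group
  choose f hf using key
  have hinj : Function.Injective f := by
    intro i j hij
    apply h.std.inj
    have h1 := hf i
    rw [hij, ← hf j] at h1
    exact mul_left_cancel (mul_right_cancel h1)
  exact ⟨Equiv.ofBijective f (Finite.injective_iff_bijective.1 hinj), fun i => hf i⟩

/-- the permutation of an element which centralises `nn p` -/
theorem perm_nn (h : Std (S : Subgroup G) P p) {g : G} {σ : Equiv.Perm (Fin 5)} (hσ : ∀ i, g * p i * g⁻¹ = p (σ i))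
    (hn : g * nn p * g⁻¹ = nn p) : (σ 0 = 0 ∧ σ 1 = 1) ∨ (σ 0 = 1 ∧ σ 1 = 0) := by
  rw [nn, cm, hσ, hσ] at hn
  exact h.pair_inj (fun e => absurd (σ.injective e) (by decide)) (by decide) hn

theorem perm_T (h : Std (S : Subgroup G) P p) {g : G} {σ : Equiv.Perm (Fin 5)} (hσ : ∀ i, g * p i * g⁻¹ = p (σ i))
    (hg : g ∈ Std.T (S : Subgroup G) p) : σ 4 = 4 ∧ ((σ 0 = 0 ∧ σ 1 = 1) ∨ (σ 0 = 1 ∧ σ 1 = 0)) ∧
      ((σ 2 = 2 ∧ σ 3 = 3) ∨ (σ 2 = 3 ∧ σ 3 = 2)) := by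
  obtain ⟨h1, h2⟩ := Std.mem_T.1 hg
  have h4 : σ 4 = 4 := h.inj (by rw [← hσ, h.fix g h1])
  have h3 := perm_nn h hσ h2
  exact ⟨h4, h3, dec_T σ h4 h3⟩

/-- the permutation of an element of odd order which centralises `nn p` -/
theorem perm_odd (h : Std (S : Subgroup G) P p) {g : G} {σ : Equiv.Perm (Fin 5)} (hσ : ∀ i, g * p i * g⁻¹ = p (σ i))
    (hn : g * nn p * g⁻¹ = nn p) (ho : Odd (orderOf g)) :
    (∀ i, σ i = i) ∨ (σ 0 = 0 ∧ σ 1 = 1 ∧ σ 2 = 3 ∧ σ 3 = 4 ∧ σ 4 = 2) ∨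
      (σ 0 = 0 ∧ σ 1 = 1 ∧ σ 2 = 4 ∧ σ 3 = 2 ∧ σ 4 = 3) := by
  refine dec_odd σ (pow_fifteen ho ?_) (perm_nn h hσ hn)
  ext i
  have h1 := act_pow hσ (orderOf g) i
  rw [pow_orderOf_eq_one, one_mul, inv_one, mul_one] at h1
  exact congrArg _ (h.inj h1).symm

/-- **some `t ∈ T` acts as `(0 1)`** -/
theorem exists_t01 (h : FiveL S P p) :
    ∃ t ∈ Std.T (S : Subgroup G) p, ∀ i, t * p i * t⁻¹ = p (Equiv.swap 0 1 i) := by
  have hs := h.std
  obtain ⟨g, hg, h1⟩ := hs.full (Equiv.swap 0 1)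
  have hn0 : orderOf g ≠ 0 := (orderOf_pos g).ne'
  obtain ⟨s, m, hm, hnm⟩ := Nat.exists_eq_two_pow_mul_odd hn0
  have h2 : ∀ i, g ^ m * p i * (g ^ m)⁻¹ = p (Equiv.swap 0 1 i) := by
    intro i
    rw [act_pow h1]
    obtain ⟨r, hr⟩ := hm
    have e : (Equiv.swap (0 : Fin 5) 1) ^ m = Equiv.swap 0 1 := by
      rw [hr, pow_succ, pow_mul, pow_two, Equiv.swap_mul_self, one_pow, one_mul]
    rw [e]
  have h3 : IsPGroup 2 (zpowers (g ^ m)) := by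
    refine IsPGroup.of_card (n := s) ?_
    rw [Nat.card_zpowers, orderOf_pow_of_dvd (Nat.pos_of_ne_zero (by rintro rfl; simp at hm)).ne' ⟨2 ^ s, by
      rw [hnm, mul_comm]⟩, hnm]
    exact Nat.mul_div_cancel _ (Nat.pos_of_ne_zero (by rintro rfl; simp at hm))
  obtain ⟨x, hx, hxS⟩ := Cfsg.Agent.Omega.FFThm.exists_conj_le S hs.le h3 (zpowers_le.2 (pow_mem hg m))
  obtain ⟨σ, hσ⟩ := hs.perm x hx
  set y := x * g ^ m * x⁻¹ with hy
  have hyS : y ∈ (S : Subgroup G) := hxS ⟨g ^ m, mem_zpowers _, rfl⟩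
  have hρ : ∀ i, y * p i * y⁻¹ = p ((σ * Equiv.swap 0 1 * σ⁻¹ : Equiv.Perm (Fin 5)) i) :=
    act_mul (act_mul hσ h2) (act_inv hσ)
  have h4 : (σ * Equiv.swap 0 1 * σ⁻¹ : Equiv.Perm (Fin 5)) 4 = 4 := hs.inj (by rw [← hρ, hs.fix y hyS])
  have h5 : ((σ * Equiv.swap 0 1 * σ⁻¹ : Equiv.Perm (Fin 5)) 0 = 0 ∧ (σ * Equiv.swap 0 1 * σ⁻¹ : Equiv.Perm (Fin 5)) 1 = 1) ∨
      ((σ * Equiv.swap 0 1 * σ⁻¹ : Equiv.Perm (Fin 5)) 0 = 1 ∧ (σ * Equiv.swap 0 1 * σ⁻¹ : Equiv.Perm (Fin 5)) 1 = 0) ∨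
      ((σ * Equiv.swap 0 1 * σ⁻¹ : Equiv.Perm (Fin 5)) 0 = 2 ∧ (σ * Equiv.swap 0 1 * σ⁻¹ : Equiv.Perm (Fin 5)) 1 = 3) ∨
      ((σ * Equiv.swap 0 1 * σ⁻¹ : Equiv.Perm (Fin 5)) 0 = 3 ∧ (σ * Equiv.swap 0 1 * σ⁻¹ : Equiv.Perm (Fin 5)) 1 = 2) := by
    have hne : (σ * Equiv.swap 0 1 * σ⁻¹ : Equiv.Perm (Fin 5)) 0 ≠ (σ * Equiv.swap 0 1 * σ⁻¹ : Equiv.Perm (Fin 5)) 1 := fun e =>
      absurd ((σ * Equiv.swap 0 1 * σ⁻¹ : Equiv.Perm (Fin 5)).injective e) (by decide)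
    rcases hs.part y hyS with h6 | h6
    · rw [cm, hρ, hρ] at h6
      rcases hs.pair_inj hne (by decide) h6 with h7 | h7
      · exact Or.inl h7
      · exact Or.inr (Or.inl h7)
    · rw [cm, hρ, hρ] at h6
      rcases hs.pair_inj hne (by decide) h6 with h7 | h7
      · exact Or.inr (Or.inr (Or.inl h7))
      · exact Or.inr (Or.inr (Or.inr h7))
  have key : ∃ t ∈ (S : Subgroup G), ∀ i, t * p i * t⁻¹ = p (Equiv.swap 0 1 i) := by
    rcases dec_conj σ h4 h5 with h6 | h6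
    · exact ⟨y, hyS, fun i => by rw [hρ, h6]⟩
    · obtain ⟨τ, hτ, h7⟩ := hs.tau
      obtain ⟨ρ, hρ'⟩ := hs.perm τ (hs.le hτ)
      have h8 : (ρ 0 = 2 ∧ ρ 1 = 3) ∨ (ρ 0 = 3 ∧ ρ 1 = 2) := by
        rw [cm, hρ', hρ'] at h7
        exact hs.pair_inj (fun e => absurd (ρ.injective e) (by decide)) (by decide) h7
      have h9 : ∀ i, y * p i * y⁻¹ = p (Equiv.swap 2 3 i) := fun i => by rw [hρ, h6]
      refine ⟨τ⁻¹ * y * τ, mul_mem (mul_mem (inv_mem hτ) hyS) hτ, fun i => ?_⟩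
      rw [act_mul (act_mul (act_inv hρ') h9) hρ', dec_tau ρ h8]
  obtain ⟨t, ht, h6⟩ := key
  refine ⟨t, Std.mem_T.2 ⟨ht, ?_⟩, h6⟩
  rw [nn, cm, h6, h6, Equiv.swap_apply_left, Equiv.swap_apply_right, hs.comm]

end Cfsg.Agent.Omega.NO3S.WY.Tor.SFiveI

end

section


/-!
# (TOR') for one `S₅`: the action of `O₂(P)` on `zl T Y`

`T = Std.T S p`, `t : TorS S P p Y`, `N` any natural structure on `zl T Y / cv T Y`.

* `TorS.ker` : an element of `T` which acts trivially on `zl T Y / cv T Y` lies in `O₂(Y)`;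
* `TorS.cent_zl` : `O₂(Y)` centralises `zl T Y`;
* `TorS.fullA`, `TorS.full` : a member `A` of the family, `A ≤ O₂(P)`, `A ≰ O₂(Y)`, induces the full root group;
* `TorS.QW` : `O₂(P) = A (O₂(P) ∩ O₂(Y))`;
* `TorS.mvW` : `A ≤ O₂(P)`, `A ≰ O₂(Y)` ⟹ `A` moves `W = ⟨aa p ^ Y⟩`.
-/

set_option autoImplicit false
set_option linter.unusedSectionVars false

namespace Cfsg.Agent.Omega.NO3S.WY.Tor.SFive

open Subgroup Cfsg Cfsg.Agent.ZN Cfsg.Agent.ZN.ChoiceBase Cfsg.Agent.ZN.ChoiceSit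
open Cfsg.Agent.MinSimple.VModule (oddGen oddGen_def mem_oddGen oddGen_le)
open Cfsg.Agent.Omega.FFThm (OffM ElemM NatKM ActsSL)
open Cfsg.Agent.Omega.NatPair (ap)
open Cfsg.Agent.Lib.SL2Mat (up)
open Cfsg.Agent.Omega.FrameFF (cv)
open Cfsg.Agent.Omega.NO3b.EZero (cl cl_le le_cl cj_le_cl le_normalizer_cl cent_symm)
open Cfsg.Agent.Omega.NTwo (Std nn aa Fv)
open Cfsg.Agent.Omega.NO3S.Sym.Light (FiveL)
open Cfsg.Agent.Omega.NO3S.RedC (GX DX)

universe u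

variable {G : Type u} [Group G] [Finite G] {S : Sylow 2 G} {P Y V A : Subgroup G} {𝓕 : Set (Subgroup G)}
  {p : Fin 5 → G}

theorem cent_zpowers (x : G) : centralizer (zpowers x : Set G) = centralizer ({x} : Set G) := by
  refine le_antisymm (centralizer_le (Set.singleton_subset_iff.2 (mem_zpowers x))) fun y hy => ?_
  have h1 : zpowers x ≤ centralizer ({y} : Set G) := by
    rw [zpowers_le, mem_centralizer_singleton_iff]
    exact (mem_centralizer_singleton_iff.1 hy).symm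
  exact mem_centralizer_iff.2 fun z hz => mem_centralizer_singleton_iff.1 (h1 hz)

namespace TorS

variable (t : TorS S P p Y)
include t

theorem TY : Std.T (S : Subgroup G) p ≤ Y := t.wy.syl.1

theorem T2 : IsPGroup 2 (Std.T (S : Subgroup G) p) := t.wy.syl.2.1

theorem Tn : ¬ 2 ∣ (Std.T (S : Subgroup G) p).relIndex Y := syl_not_dvd t.wy.syl

theorem zl_sq : ∀ x ∈ zl (Std.T (S : Subgroup G) p) Y, x * x = 1 := fun x hx => by
  rw [← sq]
  exact MinSimple.VModule.zl_sq t.TY t.T2 t.Tn t.wy.c2 x hx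

theorem zl_comm : ∀ x ∈ zl (Std.T (S : Subgroup G) p) Y, ∀ y ∈ zl (Std.T (S : Subgroup G) p) Y, x * y = y * x :=
  MinSimple.VModule.zl_comm t.TY t.T2 t.Tn t.wy.c2

/-- (2) `O₂(Y)` centralises `zl T Y` -/
theorem cent_zl : o2 Y ≤ centralizer (zl (Std.T (S : Subgroup G) p) Y : Set G) :=
  MinSimple.VModule.o2_le_centralizer_zl t.TY t.T2 t.Tn t.wy.c2

omit t [Finite G] in
theorem Yzl : Y ≤ normalizer (zl (Std.T (S : Subgroup G) p) Y : Set G) := ZN.le_normalizer_zl _ _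

/-- `zl T Y / cv T Y ≠ 1` -/
theorem exists_not_cv : ∃ v ∈ zl (Std.T (S : Subgroup G) p) Y, v ∉ cv (Std.T (S : Subgroup G) p) Y := by
  obtain ⟨F, _, _, _, N, -⟩ := t.nat
  obtain ⟨v, hv, hve⟩ := N.surj fun _ _ => 1
  refine ⟨v, hv, fun h1 => ?_⟩
  have h2 := (N.ker v hv).2 h1
  rw [hve] at h2
  exact one_ne_zero (congrFun (congrFun h2 0) 0)

/-- (1) -/
theorem ker {x : G} (hx : x ∈ Std.T (S : Subgroup G) p)
    (h : ∀ v ∈ zl (Std.T (S : Subgroup G) p) Y, x * v * x⁻¹ * v⁻¹ ∈ cv (Std.T (S : Subgroup G) p) Y) : x ∈ o2 Y := by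
  have h1 : Y ≤ normalizer (zl (Std.T (S : Subgroup G) p) Y : Set G) := ZN.le_normalizer_zl _ _
  have h2 : Y ≤ normalizer (cv (Std.T (S : Subgroup G) p) Y : Set G) := fun y hy => by
    rw [mem_normalizer_iff_cj, FrameFF.cv, cj_inf, cj_centralizer, cj_eq_of_mem_normalizer (h1 hy),
      cj_eq_of_mem_normalizer (MinSimple.VModule.le_normalizer_oddGen Y hy)]
  rcases NO3b.K0.min_or t.wy.syl t.wy.min (K := Fld.kmod Y _ _ h1 h2) Fld.kmod_le (Fld.norm_kmod h1 h2) with h3 | h3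
  · exfalso
    obtain ⟨v, hv, hvc⟩ := t.exists_not_cv
    apply hvc
    refine ⟨hv, ?_⟩
    have h4 : oddGen Y ≤ centralizer ({v} : Set G) := by
      rw [oddGen_def, closure_le]
      rintro k ⟨hk, ho⟩
      have hk' : k ∈ oddGen Y := mem_oddGen hk ho
      have h5 := SFiveB.comm_of_odd t.zl_sq ho ((Fld.mem_kmod.1 (h3 hk')).2 v hv)
        (fun z hz => (mem_centralizer_iff.1 hz.2 k hk')) inf_le_left
      exact mem_centralizer_singleton_iff.2 h5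
    exact mem_centralizer_iff.2 fun k hk => mem_centralizer_singleton_iff.1 (h4 hk)
  · exact h3 ⟨hx, Fld.mem_kmod.2 ⟨t.TY hx, h⟩⟩

/-- the part of `V` : `zl T Y ≤ V` -/
theorem zl_le_V (fm : FamT S P Y V 𝓕) : zl (Std.T (S : Subgroup G) p) Y ≤ V := by
  have h1 : zc (Std.T (S : Subgroup G) p) ≤ zl (S : Subgroup G) (GX (S : Subgroup G) P Y) :=
    t.wy.toWQ.zcT_le.trans t.wy.toWQ.L_le_zl
  refine (ZN.zl_le h1 ?_).trans fm.md.ge
  exact t.wy.toWQ.Y_le.trans (ZN.le_normalizer_zl _ _)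

/-- `zl T Y ≤ O₂(C_G(nn p))` -/
theorem zl_low : zl (Std.T (S : Subgroup G) p) Y ≤ o2 (centralizer ({nn p} : Set G)) :=
  ZN.zl_le (t.wy.toWQ.zcT_le.trans t.five.V_le_o2) (t.cen.trans (ZN.le_normalizer_o2 _))

/-- a member of the family in `O₂(P)` which is not in `O₂(Y)` is an offender on `zl T Y` -/
theorem offM (fm : FamT S P Y V 𝓕) (hA : A ∈ 𝓕) (hAQ : A ≤ o2 P) (hAY : ¬ A ≤ o2 Y) :
    OffM (zl (Std.T (S : Subgroup G) p) Y) A := by
  have hn : nn p ∈ zl (S : Subgroup G) P := t.five.toFive.n_mem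
  have hD : zpowers (nn p) ≤ ChoiceBase.cj 1 (zl (S : Subgroup G) P) := by
    rw [cj_one, zpowers_le]
    exact hn
  have hne : zpowers (nn p) ≠ ⊥ := by
    rw [Ne, zpowers_eq_bot]
    exact t.five.std.n_ne_one
  have h1 := (fm.her A hA (hAQ.trans t.wy.toWQ.o2P_le) 1 (one_mem _) (zpowers (nn p)) _ hne hD (t.zl_le_V fm)
    (by rw [cent_zpowers]; exact t.zl_low)).1
  rw [cj_one] at h1
  refine ⟨h1.toElemM, fun h2 => hAY fun a ha => t.ker (t.wy.toWQ.QT (hAQ ha)) fun v hv => ?_, ?_⟩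
  · have h3 := mem_centralizer_iff.1 (h2 ha) v hv
    have e : a * v * a⁻¹ * v⁻¹ = 1 := by rw [← h3]; group
    rw [e]
    exact one_mem _
  · have h3 := h1.max (A ⊓ centralizer (zl (Std.T (S : Subgroup G) p) Y : Set G)) inf_le_left le_rfl
    have h4 : zl (Std.T (S : Subgroup G) p) Y ⊓
        centralizer ((A ⊓ centralizer (zl (Std.T (S : Subgroup G) p) Y : Set G) : Subgroup G) : Set G) =
          zl (Std.T (S : Subgroup G) p) Y := inf_eq_left.2 (cent_symm inf_le_right)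
    rw [h4, mul_comm] at h3
    exact h3

/-- (3) **the full root group** -/
theorem fullA (fm : FamT S P Y V 𝓕) (hA : A ∈ 𝓕) (hAQ : A ≤ o2 P) (hAY : ¬ A ≤ o2 Y) {F : Type} [Field F] [Finite F]
    [CharP F 2] (N : NatKM F (Std.T (S : Subgroup G) p) Y (zl (Std.T (S : Subgroup G) p) Y)
      (cv (Std.T (S : Subgroup G) p) Y) 1) (b : F) :
    ∃ x ∈ A, ActsSL N.e (zl (Std.T (S : Subgroup G) p) Y) (cv (Std.T (S : Subgroup G) p) Y) x fun _ => up b := by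
  have hAT : A ≤ Std.T (S : Subgroup G) p := hAQ.trans t.wy.toWQ.QT
  obtain ⟨I, h1, h2⟩ := N.offM A hAT (t.offM fm hA hAQ hAY)
  by_cases hI : (0 : Fin 1) ∈ I
  · obtain ⟨x, hx, h3⟩ := h2 (fun _ => b) fun i hi => absurd (by rwa [Subsingleton.elim i 0]) hi
    exact ⟨x, hx, h3⟩
  · exfalso
    apply hAY
    intro a ha
    obtain ⟨c, hc, h3⟩ := h1 a ha
    refine t.ker (hAT ha) fun v hv => ?_
    have h4 := h3.1 v hv
    have hav : a * v * a⁻¹ ∈ zl (Std.T (S : Subgroup G) p) Y :=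
      (mem_normalizer_iff.1 (ZN.le_normalizer_zl _ _ (t.TY (hAT ha))) v).1 hv
    have e1 : v⁻¹ = v := inv_eq_of_mul_eq_one_left (t.zl_sq v hv)
    rw [← N.ker _ (mul_mem hav (inv_mem hv)), e1, N.mul _ hav _ hv]
    funext i j
    have hi : i = 0 := Subsingleton.elim _ _
    subst hi
    have h5 : c 0 = 0 := hc 0 hI
    have h6 : N.e (a * v * a⁻¹) 0 j = ap (up (c 0)) (N.e v 0) j := congrFun (h4 0) j
    rw [h5, Lib.SL2Mat.up_zero] at h6
    rw [Pi.add_apply, Pi.add_apply, h6]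
    have h7 : ap (1 : Matrix.SpecialLinearGroup (Fin 2) F) (N.e v 0) j = N.e v 0 j := by
      fin_cases j
      · change 1 * _ + 0 * _ = _
        simp
      · change 0 * _ + 1 * _ = _
        simp
    rw [h7]
    exact CharTwo.add_self_eq_zero _

theorem full {F : Type} [Field F] [Finite F]
    [CharP F 2] (N : NatKM F (Std.T (S : Subgroup G) p) Y (zl (Std.T (S : Subgroup G) p) Y)
      (cv (Std.T (S : Subgroup G) p) Y) 1) (b : F) :
    ∃ x ∈ o2 P, ActsSL N.e (zl (Std.T (S : Subgroup G) p) Y) (cv (Std.T (S : Subgroup G) p) Y) x fun _ => up b := by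
  obtain ⟨V, 𝓕, fm⟩ := t.fam
  obtain ⟨A, hA, hAQ, hAY⟩ := fm.act
  obtain ⟨x, hx, h⟩ := t.fullA fm hA hAQ hAY N b
  exact ⟨x, hAQ hx, h⟩

/-- two elements of `T` which act by the same `up b` agree modulo `O₂(Y)` -/
theorem mem_of_up {F : Type} [Field F] [Finite F]
    [CharP F 2] (N : NatKM F (Std.T (S : Subgroup G) p) Y (zl (Std.T (S : Subgroup G) p) Y)
      (cv (Std.T (S : Subgroup G) p) Y) 1) {b : F} {a x : G} (ha : a ∈ Std.T (S : Subgroup G) p)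
    (hx : x ∈ Std.T (S : Subgroup G) p)
    (h1 : ActsSL N.e (zl (Std.T (S : Subgroup G) p) Y) (cv (Std.T (S : Subgroup G) p) Y) a fun _ => up b)
    (h2 : ActsSL N.e (zl (Std.T (S : Subgroup G) p) Y) (cv (Std.T (S : Subgroup G) p) Y) x fun _ => up b) :
    a⁻¹ * x ∈ o2 Y := by
  have hm := mul_mem (inv_mem ha) hx
  refine t.ker hm fun v hv => ?_
  have hY : ∀ y ∈ Std.T (S : Subgroup G) p, ∀ v ∈ zl (Std.T (S : Subgroup G) p) Y, y * v * y⁻¹ ∈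
      zl (Std.T (S : Subgroup G) p) Y := fun y hy v hv =>
    (mem_normalizer_iff.1 (ZN.le_normalizer_zl _ _ (t.TY hy)) v).1 hv
  set w := a⁻¹ * x * v * (a⁻¹ * x)⁻¹ with hw
  have hwV : w ∈ zl (Std.T (S : Subgroup G) p) Y := hY _ hm v hv
  have e1 : a * w * a⁻¹ = x * v * x⁻¹ := by rw [hw]; group
  have h3 := h1.1 w hwV 0
  rw [e1, h2.1 v hv 0] at h3
  have h4 : N.e w 0 1 = N.e v 0 1 := by
    have h5 := congrFun h3 1
    change 0 * N.e v 0 0 + 1 * N.e v 0 1 = 0 * N.e w 0 0 + 1 * N.e w 0 1 at h5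
    simpa using h5.symm
  have h6 : N.e w 0 0 = N.e v 0 0 := by
    have h5 := congrFun h3 0
    change 1 * N.e v 0 0 + b * N.e v 0 1 = 1 * N.e w 0 0 + b * N.e w 0 1 at h5
    rw [h4] at h5
    simpa using h5.symm
  have e2 : v⁻¹ = v := inv_eq_of_mul_eq_one_left (t.zl_sq v hv)
  rw [← N.ker _ (mul_mem hwV (inv_mem hv)), e2, N.mul _ hwV _ hv]
  funext i j
  have hi : i = 0 := Subsingleton.elim _ _
  subst hi
  rw [Pi.add_apply, Pi.add_apply]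
  fin_cases j
  · change N.e w 0 0 + N.e v 0 0 = 0
    rw [h6]
    exact CharTwo.add_self_eq_zero _
  · change N.e w 0 1 + N.e v 0 1 = 0
    rw [h4]
    exact CharTwo.add_self_eq_zero _

/-- (4) `O₂(P) = A (O₂(P) ∩ O₂(Y))` -/
theorem QW (fm : FamT S P Y V 𝓕) (hA : A ∈ 𝓕) (hAQ : A ≤ o2 P) (hAY : ¬ A ≤ o2 Y) {q : G} (hq : q ∈ o2 P) :
    ∃ a ∈ A, ∃ x ∈ o2 P ⊓ o2 Y, a * x = q := by
  obtain ⟨F, _, _, _, N, -, -, hN⟩ := t.nat
  obtain ⟨b, hb⟩ := hN q hq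
  obtain ⟨a, ha, h1⟩ := t.fullA fm hA hAQ hAY N b
  have h2 := t.mem_of_up N (t.wy.toWQ.QT (hAQ ha)) (t.wy.toWQ.QT hq) h1 hb
  exact ⟨a, ha, a⁻¹ * q, mem_inf.2 ⟨mul_mem (inv_mem (hAQ ha)) hq, h2⟩, by group⟩

/-- `zl T Y ≤ ⟨aa p ^ Y⟩ ⟨nn p⟩` -/
theorem zl_le_W : zl (Std.T (S : Subgroup G) p) Y ≤ cl (zpowers (p 2 * p 3)) Y ⊔ zpowers (nn p) := by
  refine ZN.zl_le (fun x hx => ?_) fun y hy => ?_
  · have h0 : aa p ∈ cl (zpowers (p 2 * p 3)) Y ⊔ zpowers (nn p) :=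
      mem_sup_left (le_cl _ _ (mem_zpowers (p 2 * p 3)))
    have h1 : nn p ∈ cl (zpowers (p 2 * p 3)) Y ⊔ zpowers (nn p) := mem_sup_right (mem_zpowers _)
    rcases t.five.std.mem_zcT.1 hx with rfl | rfl | rfl | rfl
    · exact one_mem _
    · exact h1
    · exact h0
    · rw [← t.five.std.na]
      exact mul_mem h1 h0
  · rw [mem_normalizer_iff_cj, cj_sup, cj_eq_of_mem_normalizer (le_normalizer_cl _ _ hy)]
    have h1 : y ∈ normalizer (zpowers (nn p) : Set G) := by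
      have h2 := t.cen hy
      rw [← cent_zpowers] at h2
      exact centralizer_le_normalizer _ h2
    rw [cj_eq_of_mem_normalizer h1]

/-- (5) -/
theorem mvW (hAQ : A ≤ o2 P) (hAY : ¬ A ≤ o2 Y) : ¬ A ≤ centralizer (cl (zpowers (p 2 * p 3)) Y : Set G) := by
  intro h
  apply hAY
  intro a ha
  have haT : a ∈ Std.T (S : Subgroup G) p := t.wy.toWQ.QT (hAQ ha)
  refine t.ker haT fun v hv => ?_
  have h1 : cl (zpowers (p 2 * p 3)) Y ⊔ zpowers (nn p) ≤ centralizer ({a} : Set G) := by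
    refine sup_le (fun w hw => ?_) ?_
    · rw [mem_centralizer_singleton_iff]
      exact mem_centralizer_iff.1 (h ha) w hw
    · rw [zpowers_le, mem_centralizer_singleton_iff]
      exact (mem_centralizer_singleton_iff.1 (t.cen (t.TY haT))).symm
  have h2 := mem_centralizer_singleton_iff.1 (h1 (t.zl_le_W hv))
  have e : a * v * a⁻¹ * v⁻¹ = 1 := by rw [← h2]; group
  rw [e]
  exact one_mem _

end TorS

end Cfsg.Agent.Omega.NO3S.WY.Tor.SFive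

end

end

-- merged: Cfsg.Agent.Mrg.Omega.NO3S.WY.Tor.SFiveK
section

section


/-!
# The odd kernel lemma for one `S₅`

* `TorS.datKer` : helper570's `OddKer.Dat` for `Y`, `Q = O₂(P)`, `O₂(Y)` (the five lines of `zl T Y / cv T Y`);
* `TorS.ker0` : helper594's `Ker0` for a `Y`-invariant elementary abelian group on which `Q` is quadratic;
* `ker0_quad` : the same if `Q = A₁ (Q ∩ O₂(Y))`, `A₁` quadratic (`O₂(Y)` may move the group);
* `TorS.ker0V` : **`Ker0` for `V ∩ O₂(C_G(nn p))`**, `V` the module of the family;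
* `TorS.odd_ker` : sections.
-/

set_option autoImplicit false
set_option linter.unusedSectionVars false

namespace Cfsg.Agent.Omega.NO3S.WY.Tor.SFive

open Subgroup Cfsg Cfsg.Agent.ZN Cfsg.Agent.ZN.ChoiceBase Cfsg.Agent.ZN.ChoiceSit
open Cfsg.Agent.Omega.FFThm (OffM ElemM NatKM ActsSL)
open Cfsg.Agent.Omega.NatPair (ap ap_one)
open Cfsg.Agent.Lib.SL2Mat (up up_mul up_zero)
open Cfsg.Agent.Omega.FrameFF (cv)
open Cfsg.Agent.Omega.NTwo (Std nn aa)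
open Cfsg.Agent.Omega.NO3S.Sym.Light (FiveL)
open Cfsg.Agent.Omega.NO3S.RedC (GX DX)
open scoped commutatorElement

universe u

variable {G : Type u} [Group G] [Finite G] {S : Sylow 2 G} {P Y V A : Subgroup G} {𝓕 : Set (Subgroup G)}
  {p : Fin 5 → G}

local notation "TT" => Std.T (S : Subgroup G) p

/-- `Ker0` if `Q = A₁ (Q ∩ D)`, `A₁` quadratic on `A`: `D` may move `A`. -/
theorem ker0_quad {Q D A A₁ : Subgroup G} {π : ↥Y →* Equiv.Perm (Fin 5)}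
    (d : OddKer.Dat π (Q.subgroupOf Y) (D.subgroupOf Y)) (QY : Q ≤ Y) (DY : D ≤ Y)
    (DN : Y ≤ normalizer (D : Set G)) (DQ : D ≤ normalizer (Q : Set G)) (nA : Y ≤ normalizer (A : Set G))
    (cm : ∀ a ∈ A, ∀ b ∈ A, a * b = b * a) (sq : ∀ a ∈ A, a * a = 1) (h1 : A₁ ≤ Q)
    (h2 : ∀ q ∈ Q, ∃ a ∈ A₁, ∃ x ∈ D, a * x = q) (qd : Qd A A₁) : OddKer.Ker0 Y Q A := by
  intro N₁ hle hN v hv hvN
  have hn : ∀ y ∈ Y, ∀ n ∈ N₁, y * n * y⁻¹ ∈ N₁ := fun y hy n hn => (mem_normalizer_iff.1 (hN hy) n).1 hn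
  have hA : ∀ y ∈ Y, ∀ n ∈ A, y * n * y⁻¹ ∈ A := fun y hy n hn => (mem_normalizer_iff.1 (nA hy) n).1 hn
  let X : Subgroup G :=
    { carrier := {a | a ∈ A ∧ ∀ u ∈ D, u * a * u⁻¹ * a⁻¹ ∈ N₁}
      one_mem' := ⟨one_mem _, fun u _ => by simp⟩
      mul_mem' := by
        rintro a b ⟨ha, ha'⟩ ⟨hb, hb'⟩
        refine ⟨mul_mem ha hb, fun u hu => ?_⟩
        have h3 := cm _ (mul_mem (hA u (DY hu) b hb) (inv_mem hb)) a⁻¹ (inv_mem ha)
        have e : u * (a * b) * u⁻¹ * (a * b)⁻¹ = u * a * u⁻¹ * a⁻¹ * (a * (u * b * u⁻¹ * b⁻¹ * a⁻¹)) := by group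
        rw [e, h3, mul_inv_cancel_left]
        exact mul_mem (ha' u hu) (hb' u hu)
      inv_mem' := by
        rintro a ⟨ha, ha'⟩
        refine ⟨inv_mem ha, fun u hu => ?_⟩
        have h3 := cm _ (inv_mem (hA u (DY hu) a ha)) a ha
        have e : u * a⁻¹ * u⁻¹ * a⁻¹⁻¹ = (u * a * u⁻¹)⁻¹ * a := by group
        rw [e, h3]
        have e2 : a * (u * a * u⁻¹)⁻¹ = (u * a * u⁻¹ * a⁻¹)⁻¹ := by group
        rw [e2]
        exact inv_mem (ha' u hu) }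
  have hX : ∀ a, a ∈ X ↔ a ∈ A ∧ ∀ u ∈ D, u * a * u⁻¹ * a⁻¹ ∈ N₁ := fun _ => Iff.rfl
  have nX' : ∀ y ∈ Y, ∀ x ∈ X, y * x * y⁻¹ ∈ X := by
    rintro y hy x ⟨hx, hx'⟩
    refine ⟨hA y hy x hx, fun u hu => ?_⟩
    have h3 : y⁻¹ * u * y ∈ D := by
      have := (mem_normalizer_iff.1 (inv_mem (DN hy)) u).1 hu
      rwa [inv_inv] at this
    have e : u * (y * x * y⁻¹) * u⁻¹ * (y * x * y⁻¹)⁻¹ =
        y * ((y⁻¹ * u * y) * x * (y⁻¹ * u * y)⁻¹ * x⁻¹) * y⁻¹ := by group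
    rw [e]
    exact hn y hy _ (hx' _ h3)
  have nX : Y ≤ normalizer (X : Set G) := by
    intro y hy
    rw [mem_normalizer_iff]
    intro x
    refine ⟨nX' y hy x, fun hx => ?_⟩
    have := nX' y⁻¹ (inv_mem hy) _ hx
    have e : y⁻¹ * (y * x * y⁻¹) * y⁻¹⁻¹ = x := by group
    rwa [e] at this
  have hsec : OddKer.Sec Y X N₁ :=
    { le := fun n hn' => ⟨hle hn', fun u hu => mul_mem (hn u (DY hu) n hn') (inv_mem hn')⟩
      nX := nX
      nX' := hN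
      cm := fun a ha b hb => by
        rw [commutatorElement_eq_one_iff_mul_comm.2 (cm a ha.1 b hb.1)]; exact one_mem _
      sq := fun a ha => by rw [sq a ha.1]; exact one_mem _ }
  refine OddKer.sect d QY hsec (fun q hq q' hq' x hx => ?_) ⟨hv, fun u hu => hvN u (DY hu) (DQ hu)⟩ hvN
  obtain ⟨a, ha, u, hu, rfl⟩ := h2 q hq
  obtain ⟨a', ha', u', hu', rfl⟩ := h2 q' hq'
  have haY := QY (h1 ha)
  have haY' := QY (h1 ha')
  have h4 := qd a' ha' a ha x hx.1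
  have h5 : a' * x * a'⁻¹ * x⁻¹ ∈ X := mul_mem (nX' a' haY' x hx) (inv_mem hx)
  set y := a' * x * a'⁻¹ * x⁻¹ with hy
  set n := u' * x * u'⁻¹ * x⁻¹ with hn'
  set m := u * y * u⁻¹ * y⁻¹ with hm
  have e1 : ⁅a' * u', x⁆ = (a' * n * a'⁻¹) * y := by rw [commutatorElement_def, hy, hn']; group
  have e2 : ⁅a * u, (a' * n * a'⁻¹) * y⁆ =
      ((a * u) * (a' * n * a'⁻¹) * (a * u)⁻¹) * (a * m * a⁻¹) * (a * y * a⁻¹ * y⁻¹) * (a' * n * a'⁻¹)⁻¹ := by
    rw [commutatorElement_def, hm]; group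
  have e3 : a * y * a⁻¹ * y⁻¹ = 1 := by rw [← h4]; group
  rw [e1, e2, e3, mul_one]
  exact mul_mem (mul_mem (hn _ (mul_mem haY (DY hu)) _ (hn _ haY' _ (hx.2 u' hu'))) (hn _ haY _ (h5.2 u hu)))
    (inv_mem (hn _ haY' _ (hx.2 u' hu')))

namespace TorS

variable (t : TorS S P p Y)
include t

/-- `O₂(Y) ≤ T` -/
theorem o2T : o2 Y ≤ Std.T (S : Subgroup G) p := ChoiceSit.o2_le_syl t.wy.syl

theorem Q_Y : o2 P ≤ Y := t.wy.toWQ.QT.trans t.TY

/-- `S` normalises `O₂(P)` -/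
theorem S_nQ : (S : Subgroup G) ≤ normalizer (o2 P : Set G) := by
  rw [← t.wy.toWQ.cl.M0_eq]
  exact Level.S_le_M0 _

/-- **helper570's data** -/
theorem datKer : ∃ π : ↥Y →* Equiv.Perm (Fin 5), OddKer.Dat π ((o2 P).subgroupOf Y) ((o2 Y).subgroupOf Y) := by
  obtain ⟨F, _, _, _, M, h4, -, hN⟩ := t.nat
  have hfull := fun b : F => t.full M b
  let N := M.toNatK
  have HV : Y ≤ normalizer (zl TT Y : Set G) := ZN.le_normalizer_zl _ _
  have TH : TT ≤ Y := t.TY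
  obtain ⟨ε, hε⟩ := Act.exists_lab h4
  obtain ⟨π, hπ⟩ := Act.exists_pi N HV TH ε
  have hpi : ∀ (y : ↥Y) a o, ChoiceBase.cj (y : G) (Act.LL N (ε a)) = Act.LL N o → ε (π y a) = o := fun y a o h =>
    Act.LL_inj N (by rw [← hπ, h])
  -- trivial elements
  have hone : ∀ y : ↥Y, (∀ v ∈ zl TT Y, (y : G) * v * (y : G)⁻¹ = v) → π y = 1 := by
    intro y hy
    ext a
    have h1 : ε (π y a) = ε a := hpi y a (ε a) (by
      refine Act.cj_eq_of N HV y.2 (A := 1) (fun v hv => by rw [ap_one, hy v hv]) fun x hx => ?_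
      rw [ap_one]
      exact hx)
    rw [ε.injective h1]; rfl
  have hDk : ∀ d : ↥Y, (d : G) ∈ o2 Y → π d = 1 := by
    intro d hd
    refine hone d fun v hv => ?_
    have h1 := mem_centralizer_iff.1 (t.cent_zl hd) v hv
    rw [← h1]; group
  have hDle : (o2 Y).subgroupOf Y ≤ π.ker := fun d hd => hDk d (mem_subgroupOf.1 hd)
  have hA := Act.alt_range N HV hε hπ
  have hk : ∀ y : ↥Y, π y = 1 → ∀ v ∈ zl TT Y, (y : G) * v * (y : G)⁻¹ * v⁻¹ ∈ cv TT Y := by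
    intro y hy v hv
    have h1 : ∀ o, ChoiceBase.cj (y : G) (Act.LL N o) = Act.LL N o := by
      intro o
      obtain ⟨a, rfl⟩ := ε.surjective o
      rw [hπ, hy]; rfl
    have h2 := Act.ker_triv N HV TH t.T2 y.2 h1 hv
    have h3 : (y : G) * v * (y : G)⁻¹ ∈ zl TT Y := (mem_normalizer_iff.1 (HV y.2) v).1 hv
    refine (Act.mem_D N (mul_mem h3 (inv_mem hv))).2 ?_
    rw [Act.e_mul N h3 (inv_mem hv), Act.e_inv N hv, Pi.neg_apply, h2, add_neg_cancel]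
  have hQY : o2 P ≤ Y := t.Q_Y
  have hq0 : ∀ q : ↥Y, (q : G) ∈ o2 P → π q 0 = 0 := by
    intro q hq
    apply ε.injective
    rw [hε]
    refine hpi q 0 none ?_
    rw [hε]
    exact Act.T_none N HV TH (t.wy.toWQ.QT hq)
  have hq2 : ∀ q : ↥Y, (q : G) ∈ o2 P → π q * π q = 1 := by
    intro q hq
    obtain ⟨b, hb⟩ := hN q hq
    have hb' : Act.Acts N (q : G) (up b) := Act.Acts.of N hb
    rw [← map_mul]
    ext a
    have h1 : ε (π (q * q) a) = ε a := hpi (q * q) a (ε a) (by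
      refine Act.cj_eq_of N HV (mul_mem q.2 q.2) (hb'.mul hb' (HV q.2)) fun x hx => ?_
      rw [up_mul, CharTwo.add_self_eq_zero, up_zero, ap_one]
      exact hx)
    rw [ε.injective h1]; rfl
  have hqt : ∀ i : Fin 5, i ≠ 0 → ∀ k : Fin 5, k ≠ 0 → ∃ q : ↥Y, (q : G) ∈ o2 P ∧ π q i = k := by
    intro i hi k hk
    obtain ⟨c, hc⟩ : ∃ c, ε i = some c := by
      cases h : ε i with
      | none => exact absurd (ε.injective (h.trans hε.symm)) hi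
      | some c => exact ⟨c, rfl⟩
    obtain ⟨d, hd⟩ : ∃ d, ε k = some d := by
      cases h : ε k with
      | none => exact absurd (ε.injective (h.trans hε.symm)) hk
      | some c => exact ⟨c, rfl⟩
    obtain ⟨g, hg, hA⟩ := hfull (d - c)
    have hA' : Act.Acts N g (up (d - c)) := Act.Acts.of N hA
    refine ⟨⟨g, hQY hg⟩, hg, ε.injective ?_⟩
    rw [hd]
    refine hpi ⟨g, hQY hg⟩ i _ ?_
    rw [hc]
    refine Act.cj_eq_of N HV (hQY hg) hA' fun x hx => ?_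
    have := Act.up_some (b := d - c) hx
    rwa [add_sub_cancel] at this
  -- the index of `O₂(Y)` in the kernel is odd
  have hko : Odd (((o2 Y).subgroupOf Y).relIndex π.ker) := by
    have h2 : (TT).subgroupOf Y ⊓ π.ker ≤ (o2 Y).subgroupOf Y := by
      rintro b ⟨hb, hbk⟩
      rw [mem_subgroupOf]
      exact t.ker (mem_subgroupOf.1 hb) (hk b hbk)
    have h3 : ¬ 2 ∣ ((TT).subgroupOf Y).index := ChoiceSit.syl_not_dvd t.wy.syl
    have h4 : ((TT).subgroupOf Y).relIndex (π.ker ⊔ (TT).subgroupOf Y) * (π.ker ⊔ (TT).subgroupOf Y).index =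
        ((TT).subgroupOf Y).index := relIndex_mul_index le_sup_right
    have h5 : ((TT).subgroupOf Y).relIndex (π.ker ⊔ (TT).subgroupOf Y) = ((TT).subgroupOf Y).relIndex π.ker :=
      relIndex_sup_normal _ _
    have h6 : ((TT).subgroupOf Y ⊓ π.ker).relIndex π.ker = ((TT).subgroupOf Y).relIndex π.ker := inf_relIndex_right _ _
    have h7 : ((TT).subgroupOf Y ⊓ π.ker).relIndex ((o2 Y).subgroupOf Y) * ((o2 Y).subgroupOf Y).relIndex π.ker =
        ((TT).subgroupOf Y ⊓ π.ker).relIndex π.ker := relIndex_mul_relIndex _ _ _ h2 hDle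
    rw [← Nat.not_even_iff_odd, even_iff_two_dvd]
    intro h8
    apply h3
    rw [← h4, h5, ← h6, ← h7]
    exact Dvd.dvd.mul_right (Dvd.dvd.mul_left h8 _) _
  -- the kernel is solvable
  have hsol : Group.IsSolvable ↥π.ker := by
    obtain ⟨M₀, hM₀, hmax⟩ := t.wy.min.exists_max
    have hnD : ((o2 Y).subgroupOf Y).Normal := normal_subgroupOf_of_le_normalizer (ChoiceSit.le_normalizer_o2 Y)
    have hB' : IsPGroup 2 ((TT).subgroupOf Y) := t.T2.comap_of_injective Y.subtype Y.subtype_injective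
    have hD' : IsPGroup 2 ((o2 Y).subgroupOf Y) :=
      (ChoiceSit.isPGroup_o2 Y).comap_of_injective Y.subtype Y.subtype_injective
    refine sol_of_min (M := M₀.subgroupOf Y) hnD hD' hB' ?_ (fun X' hX' hne' => ?_) hDle hko ?_
    · intro e
      rw [subgroupOf_eq_top] at e
      exact hM₀.not_ge e
    · have h1 : X'.map Y.subtype ≤ M₀ := by
        refine hmax _ ?_ (lt_of_le_of_ne (map_subtype_le _) fun e => hne' ?_)
        · intro b hb
          exact ⟨⟨b, TH hb⟩, hX' (mem_subgroupOf.2 hb), rfl⟩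
        · rw [eq_top_iff]
          rintro ⟨x, hx⟩ -
          have hx2 : x ∈ X'.map Y.subtype := e.ge hx
          obtain ⟨x', hx', e'⟩ := hx2
          have : x' = ⟨x, hx⟩ := Subtype.ext e'
          rwa [← this]
      intro x hx
      exact mem_subgroupOf.2 (h1 ⟨x, hx, rfl⟩)
    · intro e
      refine not_two_alt (hB'.map π) (hA.trans ?_)
      have h1 : (π.ker ⊔ (TT).subgroupOf Y).map π = ((TT).subgroupOf Y).map π := by
        rw [Subgroup.map_sup, (π.ker.map_eq_bot_iff (f := π)).2 le_rfl, bot_sup_eq]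
      rw [← h1, e, MonoidHom.range_eq_map]
  refine ⟨π, OddKer.Dat.of π hQY (ChoiceSit.o2_le Y) (ChoiceSit.le_normalizer_o2 Y) (ChoiceSit.isPGroup_o2 Y)
    (ChoiceSit.isPGroup_o2 P) hDk hko hsol ?_ hq0 hq2 hqt (t.wy.toWQ.o2Y_le.trans t.S_nQ) ?_⟩
  · have h1 : (Equiv.swap (0 : Fin 5) 1 * Equiv.swap 1 2) ∈ alternatingGroup (Fin 5) := by
      rw [Equiv.Perm.mem_alternatingGroup]; decide
    obtain ⟨g, hg⟩ := hA h1
    refine ⟨g, ?_⟩
    rw [hg]; decide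
  · intro y hy hyn
    have h1 : ChoiceBase.cj y (o2 P) ≤ (S : Subgroup G) := by
      have h2 : ChoiceBase.cj y (o2 P) ≤ ChoiceBase.cj y (o2 P ⊔ o2 Y) := cj_mono y le_sup_left
      rw [cj_eq_of_mem_normalizer hyn] at h2
      exact h2.trans (sup_le t.wy.toWQ.o2P_le t.wy.toWQ.o2Y_le)
    rw [mem_normalizer_iff_cj]
    exact t.wy.toWQ.cl.wc.eq y h1

/-- sections -/
theorem odd_ker {X X' : Subgroup G} (h : OddKer.Sec Y X X')
    (qd : ∀ q ∈ o2 P, ∀ q' ∈ o2 P, ∀ x ∈ X, ⁅q, ⁅q', x⁆⁆ ∈ X') {v : G} (hv : v ∈ X)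
    (hf : ∀ g ∈ Y, g ∈ normalizer (o2 P : Set G) → ⁅g, v⁆ ∈ X') : ∀ y ∈ Y, ⁅y, v⁆ ∈ X' := by
  obtain ⟨π, d⟩ := t.datKer
  exact OddKer.sect d t.Q_Y h qd hv hf

/-- helper594's `Ker0` -/
theorem ker0 {A : Subgroup G} (nA : Y ≤ normalizer (A : Set G)) (cm : ∀ a ∈ A, ∀ b ∈ A, a * b = b * a)
    (sq : ∀ a ∈ A, a * a = 1) (qd : ∀ q ∈ o2 P, ∀ q' ∈ o2 P, ∀ x ∈ A, ⁅q, ⁅q', x⁆⁆ = 1) :
    OddKer.Ker0 Y (o2 P) A := by
  obtain ⟨π, d⟩ := t.datKer
  exact OddKer.ker0 d t.Q_Y nA cm sq qd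

/-- **the odd kernel lemma on `V ∩ O₂(C_G(nn p))`**, `V` the module of the family -/
theorem ker0V (fm : FamT S P Y V 𝓕) :
    OddKer.Ker0 Y (o2 P) (V ⊓ o2 (centralizer ({nn p} : Set G)) : Subgroup G) := by
  obtain ⟨π, d⟩ := t.datKer
  obtain ⟨A₁, hA₁, h1, h2⟩ := fm.act
  have hn : nn p ∈ zl (S : Subgroup G) P := t.five.toFive.n_mem
  have hD : zpowers (nn p) ≤ ChoiceBase.cj 1 (zl (S : Subgroup G) P) := by
    rw [cj_one, zpowers_le]
    exact hn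
  have hne : zpowers (nn p) ≠ ⊥ := by
    rw [Ne, zpowers_eq_bot]
    exact t.five.std.n_ne_one
  have h3 := (fm.her A₁ hA₁ (h1.trans t.wy.toWQ.o2P_le) 1 (one_mem _) (zpowers (nn p))
    (V ⊓ o2 (centralizer ({nn p} : Set G))) hne hD inf_le_left (by rw [cent_zpowers]; exact inf_le_right)).2
  rw [cj_one] at h3
  have hV := t.wy.toWQ.Vc fm.md
  refine ker0_quad d t.Q_Y (ChoiceSit.o2_le Y) (ChoiceSit.le_normalizer_o2 Y)
    (t.wy.toWQ.o2Y_le.trans t.S_nQ) ?_ (fun a ha b hb => (mem_centralizer_iff.1 (hV ha.1) b hb.1).symm)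
    (fun a ha => ?_) h1 (fun q hq => ?_) h3
  · intro y hy
    rw [mem_normalizer_iff_cj, cj_inf, cj_eq_of_mem_normalizer (fm.md.norm (t.wy.toWQ.Y_le hy)),
      cj_eq_of_mem_normalizer (ZN.le_normalizer_o2 _ (t.cen hy))]
  · rw [← sq]
    exact t.wy.toWQ.V_sq a (fm.md.le ha.1)
  · obtain ⟨a, ha, x, hx, e⟩ := t.QW fm hA₁ h1 h2 hq
    exact ⟨a, ha, x, hx.2, e⟩

end TorS

end Cfsg.Agent.Omega.NO3S.WY.Tor.SFive

end

section


/-!
# (TOR') for one `S₅`: `O²(Y)` centralises `V*_τ`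

* `TorS.p0_comm` : `[Y, p 0] ≤ ⟨nn p⟩`: the odd kernel lemma, since `N_Y(O₂(P))` permutes `p 0`, `p 1`;
* `TorS.K0`, `TorS.K1` : `O²(Y)` centralises `p 0`, `p 1`.
-/

set_option autoImplicit false
set_option linter.unusedSectionVars false

namespace Cfsg.Agent.Omega.NO3S.WY.Tor.SFive

open Subgroup Cfsg Cfsg.Agent.ZN Cfsg.Agent.ZN.ChoiceBase Cfsg.Agent.ZN.ChoiceSit
open Cfsg.Agent.MinSimple.VModule (oddGen oddGen_def mem_oddGen oddGen_le)
open Cfsg.Agent.Omega.NTwo (Std nn aa Fv cm)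
open Cfsg.Agent.Omega.NO3S.Sym.Light (FiveL)
open Cfsg.Agent.Omega.NO3S.RedC (GX DX)
open scoped commutatorElement

universe u

variable {G : Type u} [Group G] [Finite G] {S : Sylow 2 G} {P Y : Subgroup G} {p : Fin 5 → G}

namespace TorS

variable (t : TorS S P p Y)
include t

/-- `Y` centralises `nn p` -/
theorem Ynn {y : G} (hy : y ∈ Y) : y * nn p = nn p * y := mem_centralizer_singleton_iff.1 (t.cen hy)

/-- an element of `C(nn p)` which normalises `O₂(P)` maps `p 0` to `p 0` or `p 1` -/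
theorem mv_p0 {g : G} (hg : g * nn p = nn p * g) (hQ : g ∈ normalizer (o2 P : Set G)) :
    g * p 0 * g⁻¹ = p 0 ∨ g * p 0 * g⁻¹ = p 1 := by
  obtain ⟨σ, hσ⟩ := CaseLQ.FiveFacts.act t.five (t.wy.toWQ.cl.norm_o2_le hQ)
  have h1 : g * (p 0 * p 1) * g⁻¹ = p 0 * p 1 := by
    change g * nn p * g⁻¹ = nn p
    rw [hg, mul_inv_cancel_right]
  rw [cm, hσ, hσ] at h1
  rw [hσ]
  have h2 := t.five.std.toFv.pair_inj (fun e => absurd (σ.injective e) (by decide)) (by decide) h1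
  rcases h2 with ⟨a, -⟩ | ⟨a, -⟩
  · left; rw [a]
  · right; rw [a]

/-- **`[Y, p 0] ≤ ⟨nn p⟩`** -/
theorem p0_comm : ∀ y ∈ Y, y * p 0 * y⁻¹ * (p 0)⁻¹ ∈ zpowers (nn p) := by
  obtain ⟨V, 𝓕, fm⟩ := t.fam
  have hL : zl (S : Subgroup G) P ≤ V ⊓ o2 (centralizer ({nn p} : Set G)) :=
    le_inf (t.wy.toWQ.L_le_zl.trans fm.md.ge) t.five.V_le_o2
  refine t.ker0V fm (zpowers (nn p)) ((zpowers_le.2 t.five.toFive.n_mem).trans hL) (fun y hy => ?_) (p 0)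
    (hL (t.five.toFive.p_mem 0)) fun g hg hQ => ?_
  · have h2 := t.cen hy
    rw [← cent_zpowers] at h2
    exact centralizer_le_normalizer _ h2
  · rw [commutatorElement_def]
    rcases t.mv_p0 (t.Ynn hg) hQ with h | h
    · rw [h, mul_inv_cancel]; exact one_mem _
    · rw [h, t.five.std.toFv.pinv, t.five.std.comm 1 0]; exact mem_zpowers _

/-- **`O²(Y)` centralises `p 0`** -/
theorem K0 : ∀ k ∈ oddGen Y, k * p 0 = p 0 * k := by
  have h1 : oddGen Y ≤ centralizer ({p 0} : Set G) := by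
    rw [oddGen_def, closure_le]
    rintro k ⟨hk, ho⟩
    rw [SetLike.mem_coe, mem_centralizer_singleton_iff]
    refine SFiveB.comm_of_odd (A := zl (S : Subgroup G) P) (Λ := zpowers (nn p)) (fun a ha => ?_) ho (t.p0_comm k hk)
      (fun z hz => ?_) (zpowers_le.2 t.five.toFive.n_mem)
    · rw [← sq]
      exact (ChoiceBase.mem_zc.1 (t.wy.toWQ.L_le ha)).2.1
    · have h2 := t.cen hk
      rw [← cent_zpowers] at h2
      exact (mem_centralizer_iff.1 h2 z hz).symm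
  exact fun k hk => mem_centralizer_singleton_iff.1 (h1 hk)

/-- **`O²(Y)` centralises `p 1`** -/
theorem K1 : ∀ k ∈ oddGen Y, k * p 1 = p 1 * k := by
  intro k hk
  have e : p 1 = nn p * p 0 := by
    change p 1 = p 0 * p 1 * p 0
    rw [t.five.std.comm 0 1, mul_assoc, t.five.std.sq, mul_one]
  have h1 := t.Ynn (oddGen_le Y hk)
  have h2 := t.K0 k hk
  calc k * p 1 = k * nn p * p 0 := by rw [e]; group
    _ = nn p * (k * p 0) := by rw [h1]; group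
    _ = nn p * p 0 * k := by rw [h2]; group
    _ = p 1 * k := by rw [← e]

end TorS

end Cfsg.Agent.Omega.NO3S.WY.Tor.SFive

end

end
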